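import Cfsg.Agent.Lib.Recog.GenDihedral.PSLExtension
import Cfsg.Agent.Lib.Geom.PairStab

/-!
The linear part of an almost simple group over `PSL₂(q)` with dihedral Sylow 2-subgroup.
-/

set_option autoImplicit false
set_option linter.unusedSectionVars false
set_option linter.style.haveILetI false
set_option maxHeartbeats 800000

namespace CfsgLib.GW

open Subgroup Matrix CfsgLib.Invol CfsgLib.KnownC CfsgLib.Recog.GenDihedral
open scoped MatrixGroups

universe u

variable {Q : Type u} [Group Q] [Finite Q] {F : Type} [Field F] [Fintype F]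

/-- The elements acting linearly: they embed in `PGL₂(q)`, include all involutions and all
elements of odd order which are conjugate to their inverse. -/
theorem exists_linear_comm (hodd : Odd (Fintype.card F)) (T : Sylow 2 Q) (E : DihData (T : Subgroup Q))
    (L : Subgroup Q) [L.Normal] (e : L ≃* Matrix.ProjectiveSpecialLinearGroup (Fin 2) F)
    (hC : centralizer (L : Set Q) = ⊥) :
    ∃ (P : Subgroup Q) (χ : P →* PGL(2, F)), Function.Injective χ ∧ L ≤ P ∧
      (∀ p : P, (p : Q) ∈ L → χ p ∈ CfsgLib.Geom.Moebius.imL F) ∧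
      (∀ c ∈ CfsgLib.Geom.Moebius.imL F, ∃ p : P, (p : Q) ∈ L ∧ χ p = c) ∧
      (∀ x : Q, orderOf x = 2 → x ∈ P) ∧
      (∀ x y : Q, Odd (orderOf x) → y * x * y⁻¹ = x⁻¹ → x ∈ P) ∧
      (∀ x y : Q, x * y * x⁻¹ * y⁻¹ ∈ P) := by
  classical
  have : Fact (Nat.Prime 2) := ⟨Nat.prime_two⟩
  have h2 : (2 : F) ≠ 0 := CfsgLib.Recog.GenDihedral.two_ne_zero_of_odd hodd
  let φ : Q →* MulAut (Matrix.ProjectiveSpecialLinearGroup (Fin 2) F) :=
    (MulAut.congr e).toMonoidHom.comp MulAut.conjNormal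
  have hφ : ∀ (x : Q) (l : L), φ x (e l) = e (MulAut.conjNormal x l) := fun x l => by
    show e (MulAut.conjNormal x (e.symm (e l))) = _
    rw [MulEquiv.symm_apply_apply]
  have hφinj : Function.Injective φ := by
    rw [injective_iff_map_eq_one]
    intro x hx
    have : x ∈ centralizer (L : Set Q) := mem_centralizer_iff.2 fun l hl => by
      have h1 := hφ x ⟨l, hl⟩
      rw [hx, MulAut.one_apply] at h1
      have h2' := congrArg Subtype.val (e.injective h1)
      rw [MulAut.conjNormal_apply] at h2'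
      exact (eq_mul_inv_iff_mul_eq.1 h2')
    rw [hC] at this
    exact mem_bot.1 this
  have hφL : ∀ l : L, φ (l : Q) = MulAut.conj (e l) := fun l => by
    refine MulEquiv.ext fun y => ?_
    obtain ⟨m, rfl⟩ := e.surjective y
    rw [hφ, MulAut.conj_apply, ← map_inv, ← map_mul, ← map_mul]
    exact congrArg e (Subtype.ext (MulAut.conjNormal_apply _ _))
  have hcases : ∀ x, ∃ g σ, φ x = semiAut g σ := fun x =>
    (mulAut_psl_cases le_rfl (φ x)).resolve_right fun h => absurd h.1 (by norm_num)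
  choose gl fd hgf using hcases
  let π : Q →* (F ≃+* F) := MonoidHom.mk' fd fun x y => by
    have h := map_mul φ x y
    rw [hgf, hgf, hgf, semiAut_mul] at h
    exact ((semiAut_eq_iff le_rfl _ _ _ _).1 h).1
  have hπ : ∀ x, π x = fd x := fun x => rfl
  have hfd : ∀ x g σ, φ x = semiAut g σ → π x = σ := fun x g σ h => by
    rw [hgf] at h
    exact ((semiAut_eq_iff le_rfl _ _ _ _).1 h).1
  have hπL : ∀ l ∈ L, π l = 1 := fun l hl => by
    obtain ⟨s, hs⟩ := QuotientGroup.mk_surjective (e ⟨l, hl⟩)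
    exact hfd l _ _ (by rw [hφL ⟨l, hl⟩, ← hs, ← semiAut_toGL]; rfl)
  -- `PGL₂` as linear automorphisms
  let ψ₀ : GL (Fin 2) F →* MulAut (Matrix.ProjectiveSpecialLinearGroup (Fin 2) F) :=
    MonoidHom.mk' (fun g => semiAut g (RingEquiv.refl F)) fun g h => by
      rw [semiAut_mul]
      rfl
  have hker : Subgroup.center (GL (Fin 2) F) ≤ ψ₀.ker := fun g hg =>
    MonoidHom.mem_ker.2 ((semiAut_eq_one_iff le_rfl _ _).2 ⟨rfl, hg⟩)
  let ψ : PGL(2, F) →* MulAut (Matrix.ProjectiveSpecialLinearGroup (Fin 2) F) :=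
    QuotientGroup.lift _ ψ₀ hker
  have hψmk : ∀ g : GL (Fin 2) F,
      ψ (Matrix.ProjGenLinGroup.mk g) = semiAut g (RingEquiv.refl F) := fun g => rfl
  have hψinj : Function.Injective ψ := by
    refine (injective_iff_map_eq_one _).2 fun x hx => ?_
    obtain ⟨g, rfl⟩ := Matrix.ProjGenLinGroup.mk_surjective x
    exact (QuotientGroup.eq_one_iff g).2 ((semiAut_eq_one_iff le_rfl g _).1 hx).2
  have hψL : ∀ l : L, φ (l : Q) = ψ (Matrix.ProjectiveSpecialLinearGroup.toPGL (e l)) := by
    intro l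
    obtain ⟨s, hs⟩ := QuotientGroup.mk_surjective (e l)
    rw [hφL, ← hs, ← semiAut_toGL, ← hψmk]
    rfl
  -- the involutions act linearly
  have hinv : ∀ x : Q, orderOf x = 2 → π x = 1 := by
    intro x hx2
    by_cases hxL : x ∈ L
    · exact hπL x hxL
    have hxx := invol_mul_self hx2
    have hπ2 : π x * π x = 1 := by rw [← map_mul, hxx, map_one]
    by_contra hσ
    set g := gl x
    set σ := π x with hσdef
    have hg : φ x = semiAut g σ := hgf _
    have h1 : semiAut (g * GeneralLinearGroup.map (σ : F →+* F) g) (σ * σ) = 1 := by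
      rw [← semiAut_mul, ← hg, ← map_mul, hxx, map_one]
    obtain ⟨-, hcen⟩ := (semiAut_eq_one_iff le_rfl _ _).1 h1
    rw [Matrix.GeneralLinearGroup.center_eq_range_scalar] at hcen
    obtain ⟨l, hl⟩ := hcen
    set g' := GeneralLinearGroup.map (σ : F →+* F) g with hg'
    have hss : ∀ a, σ (σ a) = a := fun a => RingEquiv.congr_fun hπ2 a
    -- the scalar is fixed
    have hlfix : σ (l : F) = l := by
      have h3 : g' * g = Matrix.GeneralLinearGroup.scalar (Fin 2) l := by
        have hcomm : Commute (Matrix.GeneralLinearGroup.scalar (Fin 2) l) g := by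
          refine (mem_center_iff.1 ?_ g).symm
          rw [Matrix.GeneralLinearGroup.center_eq_range_scalar]; exact ⟨l, rfl⟩
        calc g' * g = g⁻¹ * (g * g') * g := by group
          _ = g⁻¹ * (Matrix.GeneralLinearGroup.scalar (Fin 2) l * g) := by rw [hl, mul_assoc]
          _ = Matrix.GeneralLinearGroup.scalar (Fin 2) l := by
            rw [hcomm.eq, inv_mul_cancel_left]
      have h4 : GeneralLinearGroup.map (σ : F →+* F) g' = g :=
        Units.ext (Matrix.ext fun a b => hss _)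
      have h5 := congrArg (GeneralLinearGroup.map (σ : F →+* F)) h3
      rw [map_mul, h4, ← hg', ← hl] at h5
      have h6 := congrArg (fun u : GL (Fin 2) F => (u : Matrix (Fin 2) (Fin 2) F) 0 0) h5
      simpa using h6.symm
    have hdet : g.1.det * σ g.1.det = (l : F) * l := by
      have h5 := congrArg (fun u : GL (Fin 2) F => (u : Matrix (Fin 2) (Fin 2) F).det) hl
      have h6 : g'.1.det = σ g.1.det := (RingHom.map_det (σ : F →+* F) g.1).symm
      simp only [Units.val_mul, Matrix.det_mul, h6] at h5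
      rw [← h5]
      simp [Matrix.GeneralLinearGroup.scalar, Matrix.scalar_apply, Matrix.det_diagonal, sq]
    obtain ⟨μ, hμ⟩ := isSquare_of_norm h2 hσ hπ2 l.ne_zero hlfix hdet
    have hμ0 : μ ≠ 0 := fun e0 => g.det_ne_zero (by rw [hμ, e0, mul_zero])
    set s : SL(2, F) := ⟨μ⁻¹ • g.1, by
      rw [Matrix.det_smul, Fintype.card_fin, hμ]; field_simp⟩ with hs
    have hgs : semiAut g σ = semiAut (SpecialLinearGroup.toGL s) σ := by
      refine (semiAut_eq_iff le_rfl _ _ _ _).2 ⟨rfl, ?_⟩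
      rw [Matrix.GeneralLinearGroup.center_eq_range_scalar]
      refine ⟨Units.mk0 μ hμ0, ?_⟩
      rw [eq_inv_mul_iff_mul_eq]
      refine Units.ext ?_
      show (μ⁻¹ • g.1) * Matrix.scalar (Fin 2) μ = g.1
      rw [Matrix.scalar_apply, ← Matrix.smul_one_eq_diagonal, Matrix.smul_mul, Matrix.mul_smul,
        mul_one, smul_smul, inv_mul_cancel₀ hμ0, one_smul]
    obtain ⟨l₀, hl₀⟩ := e.surjective (QuotientGroup.mk s)
    set y := (l₀ : Q)⁻¹ * x with hy
    have hφy : φ y = semiAut 1 σ := by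
      have hsplit : semiAut (SpecialLinearGroup.toGL s) σ =
          semiAut (SpecialLinearGroup.toGL s) (RingEquiv.refl F) * semiAut 1 σ := by
        rw [semiAut_mul, map_one, mul_one]
        rfl
      rw [hy, map_mul, map_inv, hφL, hl₀, hg, hgs, hsplit, semiAut_toGL, inv_mul_cancel_left]
    have hyy : y * y = 1 := hφinj (by
      rw [map_mul, hφy, semiAut_mul, map_one, mul_one, map_one,
        show σ * σ = RingEquiv.refl F from hπ2, semiAut_one])
    have hyL : y ∉ L := fun h => hxL (by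
      simpa [hy] using mul_mem l₀.2 h)
    have hy2 : orderOf y = 2 := invol_of_mul_self hyy fun h => hyL (h ▸ one_mem L)
    obtain ⟨i, k, hi, hk, hik, hne, hfix⟩ := exists_four (F := F) h2
    obtain ⟨i', rfl⟩ := e.surjective i
    obtain ⟨k', rfl⟩ := e.surjective k
    have hcm : ∀ u : L, semiAut 1 σ (e u) = e u → Commute (u : Q) y := fun u hu => by
      rw [← hφy, hφ] at hu
      have := congrArg Subtype.val (e.injective hu)
      rw [MulAut.conjNormal_apply] at this
      exact (mul_inv_eq_iff_eq_mul.1 this).symm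
    refine no_eight T E (a := (i' : Q)) (b := (k' : Q)) (c := y)
      (by rw [Subgroup.orderOf_coe, ← MulEquiv.orderOf_eq e, hi])
      (by rw [Subgroup.orderOf_coe, ← MulEquiv.orderOf_eq e, hk]) hy2
      (congrArg Subtype.val (show i' * k' = k' * i' from e.injective (by
        rw [map_mul, map_mul]; exact hik.eq)))
      (hcm i' (hfix σ).1) (hcm k' (hfix σ).2) (fun h => hne (congrArg e (Subtype.ext h)))
      (fun h => hyL (h ▸ i'.2)) (fun h => hyL (h ▸ k'.2))
      (fun h => hyL (h ▸ mul_mem i'.2 k'.2))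
  have hmem : ∀ x, π x = 1 → φ x ∈ ψ.range := fun x hx =>
    ⟨Matrix.ProjGenLinGroup.mk (gl x), by rw [hψmk, hgf x, ← hπ, hx]; rfl⟩
  let P : Subgroup Q := ψ.range.comap φ
  let χ : P →* PGL(2, F) := (MonoidHom.ofInjective hψinj).symm.toMonoidHom.comp
    ((φ.comp P.subtype).codRestrict ψ.range fun p => p.2)
  have hχ : ∀ p : P, ψ (χ p) = φ p := fun p =>
    MonoidHom.apply_ofInjective_symm hψinj _
  have hLP : L ≤ P := fun l hl => ⟨_, (hψL ⟨l, hl⟩).symm⟩
  refine ⟨P, χ, fun p p' h => Subtype.ext (hφinj (by rw [← hχ, ← hχ, h])), hLP, fun p hp => ?_,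
    fun c hc => ?_, fun x hx => hmem x (hinv x hx), fun x y ho hxy => hmem x ?_, fun x y => hmem _ ?_⟩
  · exact ⟨e ⟨p, hp⟩, hψinj (by rw [hχ, ← hψL])⟩
  · obtain ⟨u, rfl⟩ := hc
    obtain ⟨l, rfl⟩ := e.surjective u
    exact ⟨⟨l, hLP l.2⟩, l.2, hψinj (by rw [hχ, ← hψL])⟩
  · have h1 := congrArg π hxy
    rw [map_mul, map_mul, map_inv, map_inv,
      CfsgLib.Recog.GenDihedral.ringAut_comm (π y), mul_inv_cancel_right] at h1
    have h2' : (π x) ^ 2 = 1 := by rw [pow_two]; exact mul_eq_one_iff_eq_inv.2 h1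
    exact orderOf_eq_one_iff.1 (Nat.eq_one_of_dvd_coprimes (Nat.coprime_two_right.2 ho)
      (orderOf_map_dvd π x) (orderOf_dvd_of_pow_eq_one h2'))
  · rw [map_mul, map_mul, map_mul, map_inv, map_inv,
      CfsgLib.Recog.GenDihedral.ringAut_comm (π x) (π y), mul_inv_cancel_right, mul_inv_cancel]

/-- The elements acting linearly: they embed in `PGL₂(q)`, include all involutions and all
elements of odd order which are conjugate to their inverse. -/
theorem exists_linear (hodd : Odd (Fintype.card F)) (T : Sylow 2 Q) (E : DihData (T : Subgroup Q))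
    (L : Subgroup Q) [L.Normal] (e : L ≃* Matrix.ProjectiveSpecialLinearGroup (Fin 2) F)
    (hC : centralizer (L : Set Q) = ⊥) :
    ∃ (P : Subgroup Q) (χ : P →* PGL(2, F)), Function.Injective χ ∧ L ≤ P ∧
      (∀ p : P, (p : Q) ∈ L → χ p ∈ CfsgLib.Geom.Moebius.imL F) ∧
      (∀ c ∈ CfsgLib.Geom.Moebius.imL F, ∃ p : P, (p : Q) ∈ L ∧ χ p = c) ∧
      (∀ x : Q, orderOf x = 2 → x ∈ P) ∧
      (∀ x y : Q, Odd (orderOf x) → y * x * y⁻¹ = x⁻¹ → x ∈ P) := by
  obtain ⟨P, χ, h1, h2, h3, h4, h5, h6, -⟩ := exists_linear_comm hodd T E L e hC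
  exact ⟨P, χ, h1, h2, h3, h4, h5, h6⟩

end CfsgLib.GW
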