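import Cfsg.Agent.Lib.GW.ShapePGL
import Cfsg.Agent.Lib.GW.ShapeSemi
import Cfsg.Agent.Lib.GW.OnePrime.Basic
import Cfsg.Agent.Lib.Recog.GW.ConsumerRankOne
import Cfsg.Agent.Lib.StructB.CoA9.SevenEnd

/-!
The shape of the proper subgroups of a minimal counterexample to the theorem of Gorenstein and
Walter: the structure modulo the core, and the inverted part of the centraliser of an involution.
-/

set_option autoImplicit false
set_option linter.unusedSectionVars false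
set_option linter.style.haveILetI false

namespace CfsgLib.GW

open Subgroup CfsgLib.Invol CfsgLib.Recog.GW
open scoped MatrixGroups

universe u

variable {G : Type u} [Group G] [Finite G]

/-- The models of a non-solvable quotient `K/O(K)`. -/
def ShapeCases (Q : Type u) [Group Q] : Prop :=
  Nonempty (Q ≃* alternatingGroup (Fin 7)) ∨
    ∃ (T : Sylow 2 Q) (_ : DihData (T : Subgroup Q)) (L : Subgroup Q) (_ : L.Normal)
      (F : Type) (_ : Field F) (_ : Fintype F), Odd (Fintype.card F) ∧ 3 < Fintype.card F ∧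
        centralizer (L : Set Q) = ⊥ ∧
        Nonempty (L ≃* Matrix.ProjectiveSpecialLinearGroup (Fin 2) F)

/-- The structure of a non-solvable proper subgroup modulo its core. -/
theorem Min.shape_cases (M : Min G) {K : Subgroup G} (hK : K ≠ ⊤) (hns : ¬ Group.IsSolvable K) :
    ShapeCases (↥K ⧸ Cfsg.oddCore ↥K) := by
  haveI : Fact (Nat.Prime 2) := ⟨Nat.prime_two⟩
  obtain ⟨S, ⟨D⟩⟩ := OnePrime.exists_sylow_dihData M K hns
  obtain ⟨T, ⟨f⟩⟩ := quotient_sylow S
  obtain ⟨e⟩ := dihEquiv D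
  obtain ⟨E⟩ := exists_dihData T.2 (by have := D.h_pos; omega) (f.symm.trans e)
  have hO : Cfsg.oddCore (↥K ⧸ Cfsg.oddCore ↥K) = ⊥ :=
    CfsgLib.Solvable.pPrimeCore_quotient_eq_bot 2
  have hns' : ¬ Group.IsSolvable (↥K ⧸ Cfsg.oddCore ↥K) := fun h => hns (by
    haveI := h
    haveI : Group.IsSolvable (Cfsg.oddCore ↥K) := CfsgLib.FT.odd_order_solvable
      (Nat.coprime_two_right.1 (CfsgLib.Solvable.pPrimeCore_coprime 2))
    exact Group.isSolvable_of_ker_le_range (Cfsg.oddCore ↥K).subtype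
      (QuotientGroup.mk' (Cfsg.oddCore ↥K)) (by rw [QuotientGroup.ker_mk', range_subtype]))
  have hlt : Nat.card K < Nat.card G := lt_of_le_of_ne (card_le_card_group K)
    fun e => hK (eq_top_of_card_eq K e)
  have hGW : SimpleGW.{u} (Nat.card (↥K ⧸ Cfsg.oddCore ↥K)) := M.below.mono
    ((Nat.card_le_card_of_surjective _ (QuotientGroup.mk'_surjective _)).trans (by omega))
  obtain ⟨L, hLn, -, hC, hmod, -⟩ := exists_socle_model hGW hns' hO T E
  rcases hmod with ⟨F, i1, i2, hodd, hq, he⟩ | ⟨⟨e7⟩⟩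
  · exact Or.inr ⟨T, E, L, hLn, F, i1, i2, hodd, hq, hC, he⟩
  · exact Or.inl (PElem.equiv_alt_seven T E L hC e7)

theorem orderOf_mk'_invol {K : Subgroup G} {x : K} (hx : orderOf x = 2) :
    orderOf (QuotientGroup.mk' (Cfsg.oddCore ↥K) x) = 2 := by
  refine orderOf_eq_prime ((map_pow _ x 2).symm.trans ((congrArg _ (by rw [pow_two]; exact invol_mul_self hx : x ^ 2 = 1)).trans (map_one _))) fun h => ?_
  have h1 := Subgroup.orderOf_dvd_natCard _ ((QuotientGroup.eq_one_iff x).1 h)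
  rw [hx] at h1
  exact absurd (Nat.Coprime.coprime_dvd_left h1 (CfsgLib.Solvable.pPrimeCore_coprime 2))
    (by norm_num)

theorem mk'_ne_of_commute {K : Subgroup G} {x y : K} (hx : orderOf x = 2) (hy : orderOf y = 2)
    (hc : Commute x y) (hne : x ≠ y) :
    QuotientGroup.mk' (Cfsg.oddCore ↥K) x ≠ QuotientGroup.mk' (Cfsg.oddCore ↥K) y := by
  intro h
  have h2 : orderOf (x * y) = 2 := orderOf_eq_prime
    (by rw [hc.mul_pow, pow_two, pow_two, invol_mul_self hx, invol_mul_self hy, one_mul])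
    fun e => hne (by rw [eq_inv_of_mul_eq_one_left e, invol_inv hy])
  have h3 := orderOf_mk'_invol h2
  rw [map_mul, h, ← map_mul, invol_mul_self hy, map_one, orderOf_one] at h3
  omega

theorem odd_map {H : Type*} [Group H] {K : Subgroup G} (f : K →* H) {x : K}
    (hx : Odd (orderOf x)) : Odd (orderOf (f x)) :=
  hx.of_dvd_nat (orderOf_map_dvd f x)

theorem odd_mem (M : Min G) {K : Subgroup G} {a : G} {x : K} (hx : (x : G) ∈ coreC a) :
    Odd (orderOf x) := by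
  rw [← Subgroup.orderOf_coe]; exact odd_orderOf_mem_coreC hx

theorem card_centralizer_alt_seven {t : alternatingGroup (Fin 7)} (ht : orderOf t = 2) :
    Nat.card (centralizer ({t} : Set (alternatingGroup (Fin 7)))) = 24 := by
  classical
  let f : alternatingGroup (Fin 7) ⧸ centralizer ({t} : Set (alternatingGroup (Fin 7))) →
      {a : alternatingGroup (Fin 7) // orderOf a = 2} :=
    Quotient.lift (fun g => ⟨g * t * g⁻¹, by rw [orderOf_conj_eq, ht]⟩) fun g g' hg => by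
      have h := mem_centralizer_singleton_iff.1 (QuotientGroup.leftRel_apply.1 hg)
      refine Subtype.ext ?_
      show g * t * g⁻¹ = g' * t * g'⁻¹
      calc g * t * g⁻¹ = g * (t * (g⁻¹ * g')) * g'⁻¹ := by group
        _ = g * (g⁻¹ * g' * t) * g'⁻¹ := by rw [h]
        _ = _ := by group
  have hf : Function.Bijective f := by
    refine ⟨fun p q => ?_, fun a => ?_⟩
    · induction p using Quotient.inductionOn with | _ g =>
      induction q using Quotient.inductionOn with | _ g' =>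
      intro h
      have h' : g * t * g⁻¹ = g' * t * g'⁻¹ := congrArg Subtype.val h
      refine Quotient.sound (QuotientGroup.leftRel_apply.2 (mem_centralizer_singleton_iff.2 ?_))
      calc g⁻¹ * g' * t = g⁻¹ * (g' * t * g'⁻¹) * g' := by group
        _ = g⁻¹ * (g * t * g⁻¹) * g' := by rw [h']
        _ = _ := by group
    · obtain ⟨g, hg⟩ := isConj_iff.1 (CfsgLib.StructB.CoA9.seven_invol_conj ht a.2)
      exact ⟨QuotientGroup.mk g, Subtype.ext hg⟩
  have h := (centralizer ({t} : Set (alternatingGroup (Fin 7)))).index_mul_card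
  rw [index_eq_card, Nat.card_congr (Equiv.ofBijective f hf), CfsgLib.StructB.CoA9.card_seven_invol,
    CfsgLib.Recog.GW.card_alt_seven] at h
  omega

/-- **The inverted part of the centraliser of an involution in a proper subgroup.** Modulo the
core it is cyclic, and every other involution inverts it, unless the subgroup is `A₇` modulo its
core, where it has order three. -/
theorem Min.torus (M : Min G) {K : Subgroup G} (hK : K ≠ ⊤) {a : G} (ha : orderOf a = 2)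
    (haK : a ∈ K) :
    ∃ (R : Subgroup G) (r : G), r ∈ R ∧ R ≤ K ⊓ coreC a ∧
      (∀ x ∈ R, ∃ i : ℕ, (r ^ i)⁻¹ * x ∈ (Cfsg.oddCore ↥K).map K.subtype) ∧
      ∀ j ∈ K, orderOf j = 2 → j * a = a * j → j ≠ a →
        (∀ x ∈ K ⊓ coreC a, j * x * j⁻¹ = x⁻¹ → x ∈ R) ∧
        ((∀ x ∈ R, j * x * j⁻¹ * x ∈ (Cfsg.oddCore ↥K).map K.subtype) ∨
          ∀ x ∈ R, x ^ 3 ∈ (Cfsg.oddCore ↥K).map K.subtype) := by
  classical
  haveI : Fact (Nat.Prime 2) := ⟨Nat.prime_two⟩
  have haK2 : orderOf (⟨a, haK⟩ : K) = 2 := by rw [orderOf_mk, ha]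
  by_cases hs : Group.IsSolvable K
  · have h0 : ∀ x ∈ K ⊓ coreC a, x ∈ (Cfsg.oddCore ↥K).map K.subtype := fun x hx =>
      ⟨⟨x, hx.1⟩, OnePrime.mem_oddCore_of_commute M hs (v := ⟨a, haK⟩) ha
        (odd_orderOf_mem_coreC hx.2) (mem_cI.1 (coreC_le_cI a hx.2)), rfl⟩
    refine ⟨K ⊓ coreC a, 1, one_mem _, le_rfl, fun x hx => ⟨0, by
      rw [pow_zero, inv_one, one_mul]; exact h0 x hx⟩, fun j hj hj2 hja hne => ⟨fun x hx _ => hx,
        Or.inr fun x hx => pow_mem (h0 x hx) 3⟩⟩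
  set O := Cfsg.oddCore ↥K with hOdef
  set π := QuotientGroup.mk' O with hπ
  have hA : orderOf (π ⟨a, haK⟩) = 2 := orderOf_mk'_invol haK2
  have hcomm : ∀ x : K, (x : G) ∈ coreC a → Commute (π x) (π ⟨a, haK⟩) := fun x hx =>
    Commute.map (Subtype.ext (mem_cI.1 (coreC_le_cI a hx)) : Commute x ⟨a, haK⟩) π
  rcases M.shape_cases hK hs with ⟨⟨e⟩⟩ | ⟨T, E, L, hLn, F, iF, iFt, hodd, hq, hC, ⟨e⟩⟩
  · -- the alternating group of degree seven
    set R := K ⊓ coreC a with hR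
    let f : R →* alternatingGroup (Fin 7) :=
      e.toMonoidHom.comp (π.comp (Subgroup.inclusion (inf_le_left : R ≤ K)))
    have hcard : Nat.card f.range ∣ 3 := by
      have h24 := card_centralizer_alt_seven (t := e (π ⟨a, haK⟩)) (by rw [MulEquiv.orderOf_eq, hA])
      have hle : f.range ≤ centralizer ({e (π ⟨a, haK⟩)} : Set (alternatingGroup (Fin 7))) := by
        rintro _ ⟨x, rfl⟩
        exact mem_centralizer_singleton_iff.2
          ((hcomm ⟨x, x.2.1⟩ x.2.2).map e.toMonoidHom).eq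
      have h1 : Nat.card f.range ∣ 24 := h24 ▸ card_dvd_of_le hle
      have h2 : Odd (Nat.card f.range) :=
        ((odd_coreC a).of_dvd_nat (card_dvd_of_le inf_le_right : Nat.card R ∣ _)).of_dvd_nat
          (card_range_dvd f)
      exact ((Nat.coprime_two_right.2 h2).pow_right 3).dvd_of_dvd_mul_left (show _ ∣ 2 ^ 3 * 3 from h1)
    haveI hcyc : IsCyclic f.range := by
      haveI : Fact (Nat.Prime 3) := ⟨Nat.prime_three⟩
      rcases (Nat.dvd_prime Nat.prime_three).1 hcard with h | h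
      · haveI : Subsingleton f.range := (Nat.card_eq_one_iff_unique.1 h).1
        exact isCyclic_of_subsingleton
      · exact isCyclic_of_prime_card h
    obtain ⟨⟨-, r, rfl⟩, hg⟩ := IsCyclic.exists_generator (α := f.range)
    have hcube : ∀ x : R, f x ^ 3 = 1 := fun x => by
      obtain ⟨k, hk⟩ := hcard
      have h := congrArg Subtype.val (pow_card_eq_one' (x := (⟨f x, x, rfl⟩ : f.range)))
      simp only [Subgroup.coe_pow, Subgroup.coe_one] at h
      rw [hk, pow_mul, h, one_pow]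
    have hker : ∀ x : R, f x = 1 → (x : G) ∈ O.map K.subtype := fun x hx =>
      ⟨⟨x, x.2.1⟩, (QuotientGroup.eq_one_iff _).1 (e.map_eq_one_iff.1 hx), rfl⟩
    refine ⟨R, r, r.2, le_rfl, fun x hx => ?_, fun j hj hj2 hja hne => ⟨fun x hx _ => hx,
      Or.inr fun x hx => ?_⟩⟩
    · obtain ⟨i, hi⟩ := mem_powers_iff_mem_zpowers.2 (hg ⟨f ⟨x, hx⟩, _, rfl⟩)
      have hi' : f r ^ i = f ⟨x, hx⟩ := congrArg Subtype.val hi
      exact ⟨i, hker ((r ^ i)⁻¹ * ⟨x, hx⟩) (by rw [map_mul, map_inv, map_pow, hi', inv_mul_cancel])⟩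
    · exact hker (⟨x, hx⟩ ^ 3) (by rw [map_pow]; exact hcube _)
  -- the linear groups
  have h4 : 4 ≤ Fintype.card F := hq
  obtain ⟨P, χ, hχ, -, -, -, hinv, hconjinv⟩ := exists_linear hodd T E L e hC
  have hAP : π ⟨a, haK⟩ ∈ P := hinv _ hA
  set A := χ ⟨_, hAP⟩ with hAdef
  have hA2 : orderOf A = 2 := by rw [hAdef, orderOf_injective χ hχ, orderOf_mk, hA]
  obtain ⟨Ta, hTa, hTamem⟩ := PGL.odd_cyclic hodd hA2
  let R₀ : Subgroup K := ((Ta.comap χ).map P.subtype).comap π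
  set R := R₀.map K.subtype ⊓ coreC a with hR
  have hχA : ∀ (x : K) (hx : π x ∈ P), (x : G) ∈ coreC a → Commute (χ ⟨π x, hx⟩) A := fun x hx hxa =>
    Commute.map (Subtype.ext (hcomm x hxa).eq : Commute (⟨π x, hx⟩ : P) ⟨_, hAP⟩) χ
  have hoddχ : ∀ (x : K) (hx : π x ∈ P), (x : G) ∈ coreC a → Odd (orderOf (χ ⟨π x, hx⟩)) :=
    fun x hx hxa => by
      rw [orderOf_injective χ hχ, orderOf_mk]
      exact odd_map π (odd_mem M hxa)
  have hmemR : ∀ x ∈ R, ∃ (hxK : x ∈ K) (hx : π ⟨x, hxK⟩ ∈ P), χ ⟨_, hx⟩ ∈ Ta ∧ x ∈ coreC a := by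
    rintro _ ⟨⟨x, ⟨p, hp, hpx⟩, rfl⟩, hxa⟩
    have hxP : π x ∈ P := hpx ▸ p.2
    have hEq : (⟨π x, hxP⟩ : P) = p := Subtype.ext hpx.symm
    refine ⟨x.2, hxP, ?_, hxa⟩
    show χ ⟨π x, hxP⟩ ∈ Ta
    rw [hEq]
    exact hp
  let g : R →* PGL(2, F) := χ.comp (((π.comp (Subgroup.inclusion
    (show R ≤ K from fun x hx => (hmemR x hx).1)))).codRestrict P fun x => (hmemR x x.2).2.1)
  have hgTa : g.range ≤ Ta := by rintro _ ⟨x, rfl⟩; exact (hmemR x x.2).2.2.1
  haveI := CfsgLib.Geom.Moebius.finite_pgl_two (F := F)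
  haveI := hTa
  haveI : IsCyclic g.range := isCyclic_of_injective (inclusion hgTa) (inclusion_injective hgTa)
  obtain ⟨⟨-, r, rfl⟩, hgen⟩ := IsCyclic.exists_generator (α := g.range)
  have hker : ∀ x : R, g x = 1 → (x : G) ∈ O.map K.subtype := fun x hx => by
    have h1 := congrArg Subtype.val (hχ (hx.trans (map_one χ).symm))
    exact ⟨⟨x, (hmemR x x.2).1⟩, (QuotientGroup.eq_one_iff _).1 h1, rfl⟩
  refine ⟨R, r, r.2, fun x hx => ⟨(hmemR x hx).1, hx.2⟩, fun x hx => ?_,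
    fun j hj hj2 hja hne => ⟨fun x hx hxinv => ?_, Or.inl fun x hx => ?_⟩⟩
  · obtain ⟨i, hi⟩ := mem_powers_iff_mem_zpowers.2 (hgen ⟨g ⟨x, hx⟩, _, rfl⟩)
    have hi' : g r ^ i = g ⟨x, hx⟩ := congrArg Subtype.val hi
    exact ⟨i, hker ((r ^ i)⁻¹ * ⟨x, hx⟩) (by rw [map_mul, map_inv, map_pow, hi', inv_mul_cancel])⟩
  · have hxP : π ⟨x, hx.1⟩ ∈ P := hconjinv _ (π ⟨j, hj⟩) (odd_map π (odd_mem M (x := ⟨x, hx.1⟩) hx.2))
      (by rw [← map_inv, ← map_mul, ← map_mul, ← map_inv]; exact congrArg π (Subtype.ext hxinv))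
    refine ⟨⟨⟨x, hx.1⟩, ⟨⟨_, hxP⟩, ?_, rfl⟩, rfl⟩, hx.2⟩
    exact hTamem _ (hχA ⟨x, hx.1⟩ hxP hx.2) (hoddχ ⟨x, hx.1⟩ hxP hx.2)
  · obtain ⟨hxK, hxP, hxTa, hxa⟩ := hmemR x hx
    have hjK : orderOf (⟨j, hj⟩ : K) = 2 := by rw [orderOf_mk, hj2]
    have hjP : π ⟨j, hj⟩ ∈ P := hinv _ (orderOf_mk'_invol hjK)
    set J := χ ⟨_, hjP⟩ with hJ
    set y := χ ⟨_, hxP⟩ with hy
    have hJ2 : orderOf J = 2 := by
      rw [hJ, orderOf_injective χ hχ, orderOf_mk, orderOf_mk'_invol hjK]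
    have hJA : J ≠ A := fun h => mk'_ne_of_commute hjK haK2 (Subtype.ext hja)
      (fun e => hne (congrArg Subtype.val e)) (congrArg Subtype.val (hχ h))
    have hJc : Commute J A :=
      Commute.map (Subtype.ext (Commute.map (Subtype.ext hja : Commute (⟨j, hj⟩ : K) ⟨a, haK⟩) π).eq :
        Commute (⟨_, hjP⟩ : P) ⟨_, hAP⟩) χ
    set y' := J * y * J⁻¹ with hy'
    have hyA : Commute y A := hχA ⟨x, hxK⟩ hxP hxa
    have hy'A : Commute y' A := (hJc.mul_left hyA).mul_left hJc.inv_left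
    have hy'o : Odd (orderOf y') := by rw [hy', orderOf_conj_eq]; exact hoddχ ⟨x, hxK⟩ hxP hxa
    haveI : IsMulCommutative Ta := inferInstance
    have hyy : Commute y' y := congrArg Subtype.val
      (IsMulCommutative.is_comm.comm (⟨y', hTamem y' hy'A hy'o⟩ : Ta) ⟨y, hxTa⟩)
    have hu : y' * y = 1 := by
      refine PGL.eq_one_of_two_invol hodd hA2 hJ2 hJA.symm (hy'A.mul_left hyA) ?_ ?_
      · have h : J * (y' * y) * J⁻¹ = y' * y := by
          rw [show J * (y' * y) * J⁻¹ = (J * y' * J⁻¹) * (J * y * J⁻¹) by group, ← hy',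
            show J * y' * J⁻¹ = (J * J) * y * (J * J)⁻¹ by rw [hy']; group, invol_mul_self hJ2]
          rw [one_mul, inv_one, mul_one, hyy.eq]
        exact (mul_inv_eq_iff_eq_mul.1 h).symm
      · exact ((hy'o).mul (hoddχ ⟨x, hxK⟩ hxP hxa)).of_dvd_nat hyy.orderOf_mul_dvd_mul_orderOf
    have hχeq : χ (⟨π ⟨j, hj⟩, hjP⟩ * ⟨_, hxP⟩ * ⟨π ⟨j, hj⟩, hjP⟩⁻¹ * ⟨_, hxP⟩) = 1 := by
      rw [map_mul, map_mul, map_mul, map_inv]; exact hu
    have h1 := congrArg Subtype.val (hχ (hχeq.trans (map_one χ).symm))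
    simp only [Subgroup.coe_mul, Subgroup.coe_inv, Subgroup.coe_one] at h1
    refine ⟨⟨j, hj⟩ * ⟨x, hxK⟩ * ⟨j, hj⟩⁻¹ * ⟨x, hxK⟩, (QuotientGroup.eq_one_iff _).1 ?_, rfl⟩
    show π _ = 1
    rw [map_mul, map_mul, map_mul, map_inv]
    exact h1

end CfsgLib.GW
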