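import Cfsg.Agent.Lib.Geom.PairStab
import Cfsg.Agent.Lib.Fusion.SimplePSLTwo
import Cfsg.Agent.Lib.Transfer.Basic
import Cfsg.Agent.Lib.Recog.GenDihedral.GenFixFree
import Cfsg.Agent.Lib.Recog.GW.Gen.Circles
import Cfsg.Agent.Lib.FT.OddOrder

/-!
A subgroup of `PSL₂(F)`, `F` of odd order, with a normal 2-complement which contains the
centraliser of an involution of `PGL₂(F)` lies in that centraliser.
-/

set_option autoImplicit false

namespace CfsgLib.GW.Overgroup

open Subgroup Matrix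
open CfsgLib.Geom.Moebius (imL)
open scoped MatrixGroups

variable {F : Type} [Field F]

local notation "M2" => Matrix (Fin 2) (Fin 2) F
local notation "mk₂" => (Matrix.ProjGenLinGroup.mk : GL (Fin 2) F →* PGL(2, F))

theorem mul_self_eq (X : M2) : X * X = X.trace • X - X.det • (1 : M2) := by
  ext i j
  fin_cases i <;> fin_cases j <;>
    simp [Matrix.mul_apply, Fin.sum_univ_two, Matrix.trace_fin_two, Matrix.det_fin_two] <;> ring

/-- Being no scalar matrix. -/
def NonScalar (X : M2) : Prop := ∀ c : F, X ≠ c • (1 : M2)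

theorem commutant {X Y : M2} (hX : NonScalar X) (h : X * Y = Y * X) :
    ∃ p q : F, Y = p • (1 : M2) + q • X := by
  have e00 := congrFun (congrFun h 0) 0
  have e01 := congrFun (congrFun h 0) 1
  have e10 := congrFun (congrFun h 1) 0
  simp only [Matrix.mul_apply, Fin.sum_univ_two] at e00 e01 e10
  by_cases h1 : X 0 1 = 0
  · by_cases h2 : X 1 0 = 0
    · have hd : X 0 0 - X 1 1 ≠ 0 := by
        intro e
        refine hX (X 0 0) ?_
        ext i j
        fin_cases i <;> fin_cases j <;> simp [h1, h2, sub_eq_zero.1 e]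
      refine ⟨Y 0 0 - (Y 0 0 - Y 1 1) / (X 0 0 - X 1 1) * X 0 0,
        (Y 0 0 - Y 1 1) / (X 0 0 - X 1 1), ?_⟩
      ext i j
      fin_cases i <;> fin_cases j <;> simp [h1, h2] <;> (try field_simp)
      · exact (mul_eq_zero.1 (show (X 0 0 - X 1 1) * Y 0 1 = 0 by
          linear_combination e01 + (Y 0 0 - Y 1 1) * h1)).resolve_left hd
      · exact (mul_eq_zero.1 (show (X 0 0 - X 1 1) * Y 1 0 = 0 by
          linear_combination -e10 + (Y 0 0 - Y 1 1) * h2)).resolve_left hd
      · ring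
    · refine ⟨Y 0 0 - Y 1 0 / X 1 0 * X 0 0, Y 1 0 / X 1 0, ?_⟩
      ext i j
      fin_cases i <;> fin_cases j <;> simp <;> field_simp
      · linear_combination -e00
      · linear_combination -e10
  · refine ⟨Y 0 0 - Y 0 1 / X 0 1 * X 0 0, Y 0 1 / X 0 1, ?_⟩
    ext i j
    fin_cases i <;> fin_cases j <;> simp <;> field_simp
    · linear_combination e00
    · linear_combination e01

theorem mul_self_of_two {G : Type*} [Group G] {x : G} (h : orderOf x = 2) : x * x = 1 := by
  have h1 := pow_orderOf_eq_one x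
  rwa [h, pow_two] at h1

theorem exists_mk (x : PGL(2, F)) : ∃ X : GL (Fin 2) F, mk₂ X = x := ProjGenLinGroup.mk_surjective x

theorem mk_eq_one_of_smul {X : GL (Fin 2) F} {c : F} (h : (X : M2) = c • (1 : M2)) : mk₂ X = 1 := by
  have hc : c ≠ 0 := by
    rintro rfl
    exact Units.ne_zero X (by rw [h, zero_smul])
  have : X = GeneralLinearGroup.scalar (Fin 2) (Units.mk0 c hc) := Units.ext (by
    rw [h, GeneralLinearGroup.coe_scalar]
    simp [Matrix.smul_one_eq_diagonal])
  rw [this, ProjGenLinGroup.mk_scalar]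

theorem nonScalar_of_ne {X : GL (Fin 2) F} (h : mk₂ X ≠ 1) : NonScalar (X : M2) :=
  fun _ e => h (mk_eq_one_of_smul e)

theorem exists_smul_of_mk_eq {X Y : GL (Fin 2) F} (h : mk₂ X = mk₂ Y) :
    ∃ c : F, c ≠ 0 ∧ (Y : M2) = c • (X : M2) := by
  obtain ⟨c, hc⟩ := ProjGenLinGroup.mk_eq_mk_iff.1 h
  refine ⟨c, c.ne_zero, ?_⟩
  rw [← hc, Units.val_mul, GeneralLinearGroup.coe_scalar]
  ext i j
  simp [mul_comm]

theorem mk_eq_of_smul {X Y : GL (Fin 2) F} {c : F} (h : (Y : M2) = c • (X : M2)) :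
    mk₂ X = mk₂ Y := by
  have : ((X⁻¹ * Y : GL (Fin 2) F) : M2) = c • (1 : M2) := by
    rw [Units.val_mul, h, mul_smul_comm, ← Units.val_mul, inv_mul_cancel, Units.val_one]
  have h1 := mk_eq_one_of_smul this
  rwa [map_mul, map_inv, inv_mul_eq_one] at h1

theorem trace_ne_zero {X : GL (Fin 2) F} (h : mk₂ X * mk₂ X ≠ 1) : (X : M2).trace ≠ 0 := fun e => by
  refine h ?_
  rw [← map_mul]
  exact mk_eq_one_of_smul (c := -(X : M2).det) (by
    rw [Units.val_mul, mul_self_eq, e, zero_smul, zero_sub, neg_smul])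

theorem trace_eq_zero {A : GL (Fin 2) F} (ha : orderOf (mk₂ A) = 2) : (A : M2).trace = 0 := by
  have h1 : mk₂ (A * A) = mk₂ 1 := by
    rw [map_mul, map_one, mul_self_of_two ha]
  obtain ⟨c, hc, e⟩ := exists_smul_of_mk_eq h1.symm
  rw [Units.val_mul, Units.val_one, mul_self_eq] at e
  by_contra ht
  have hns : NonScalar (A : M2) := nonScalar_of_ne fun e1 => by
    rw [e1, orderOf_one] at ha
    exact absurd ha (by norm_num)
  refine hns ((A : M2).trace⁻¹ * (c + (A : M2).det)) ?_
  rw [mul_smul, add_smul, ← sub_eq_iff_eq_add.1 e, inv_smul_smul₀ ht]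

/-- Commuting with an element which is no involution lifts. -/
theorem commute_lift {X Y : GL (Fin 2) F} (hx : mk₂ X * mk₂ X ≠ 1)
    (h : Commute (mk₂ X) (mk₂ Y)) : (X : M2) * Y = (Y : M2) * X := by
  have h' : mk₂ (X * Y) = mk₂ (Y * X) := by rw [map_mul, map_mul]; exact h.eq
  obtain ⟨c, -, e⟩ := exists_smul_of_mk_eq h'
  rw [Units.val_mul, Units.val_mul] at e
  have ht : ((Y * X * Y⁻¹ : GL (Fin 2) F) : M2) = c • (X : M2) := by
    rw [Units.val_mul, Units.val_mul, e, smul_mul_assoc, mul_assoc, ← Units.val_mul,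
      mul_inv_cancel, Units.val_one, mul_one]
  have htr := congrArg Matrix.trace ht
  rw [Units.val_mul, Units.val_mul, Matrix.trace_units_conj, Matrix.trace_smul, smul_eq_mul] at htr
  have hc : c = 1 := (mul_eq_right₀ (trace_ne_zero hx)).1 htr.symm
  rw [e, hc, one_smul]

theorem commute_of_smul {X Y : GL (Fin 2) F} {c : F} (h : (X : M2) * Y = c • ((Y : M2) * X)) :
    Commute (mk₂ X) (mk₂ Y) := by
  show mk₂ X * mk₂ Y = mk₂ Y * mk₂ X
  rw [← map_mul, ← map_mul]
  exact (mk_eq_of_smul (by rw [Units.val_mul, Units.val_mul, h])).symm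

theorem mul_self_ne_one {G : Type*} [Group G] {x : G} (hx : x ≠ 1) (ho : Odd (orderOf x)) :
    x * x ≠ 1 := fun h => by
  rcases (Nat.dvd_prime Nat.prime_two).1 (orderOf_dvd_of_pow_eq_one (show x ^ 2 = 1 by rw [pow_two, h]))
    with e | e
  · exact hx (orderOf_eq_one_iff.1 e)
  · rw [e] at ho; exact absurd ho (by decide)

/-- A traceless matrix commuting with a traceless one is a multiple of it. -/
theorem eq_smul_of_traceless (h2 : (2 : F) ≠ 0) {A W : M2} (hA : NonScalar A) (hA0 : A.trace = 0)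
    (hW0 : W.trace = 0) (h : A * W = W * A) : ∃ r : F, W = r • A := by
  obtain ⟨p, q, rfl⟩ := commutant hA h
  rw [Matrix.trace_add, Matrix.trace_smul, Matrix.trace_smul, hA0, smul_zero, add_zero,
    Matrix.trace_one, Fintype.card_fin, smul_eq_mul] at hW0
  refine ⟨q, ?_⟩
  rw [(mul_eq_zero.1 hW0).resolve_right (by exact_mod_cast h2), zero_smul, zero_add]

theorem det_combination {A : M2} (hA0 : A.trace = 0) (p q : F) :
    (p • (1 : M2) + q • A).det = p * p + q * q * A.det := by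
  rw [Matrix.trace_fin_two] at hA0
  simp [Matrix.det_fin_two]
  linear_combination p * q * hA0

variable [Fintype F]

/-- An anticommuting element of determinant one. -/
theorem exists_anticommute (h2 : (2 : F) ≠ 0) {A : M2} (hA0 : A.trace = 0) (hd : A.det ≠ 0) :
    ∃ J : SL(2, F), (J : M2) * A = -(A * (J : M2)) := by
  classical
  rw [Matrix.trace_fin_two] at hA0
  have hA11 : A 1 1 = -A 0 0 := by linear_combination hA0
  rw [Matrix.det_fin_two, hA11] at hd
  by_cases hr : A 1 0 = 0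
  · have hp : A 0 0 ≠ 0 := fun e => hd (by rw [e, hr]; ring)
    obtain ⟨x, hx⟩ : ∃ x : F, x * (2 * A 0 0) = -A 0 1 :=
      ⟨-A 0 1 / (2 * A 0 0), div_mul_cancel₀ _ (mul_ne_zero h2 hp)⟩
    refine ⟨⟨!![x, -1 - x * x; 1, -x], by rw [Matrix.det_fin_two_of]; ring⟩, ?_⟩
    ext i j
    fin_cases i <;> fin_cases j <;> simp [Matrix.mul_apply, Fin.sum_univ_two, hA11, hr] <;>
      first | ring1 | linear_combination hx
  · obtain ⟨⟨y, z⟩, hyz⟩ := CfsgLib.Recog.GW.Gen.circle_nonempty h2
      (u := A 0 0 * A 0 0 + A 0 1 * A 1 0) (fun e => hd (by linear_combination -e)) (-1)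
    rw [CfsgLib.Recog.GW.Gen.mem_circle] at hyz
    dsimp only at hyz
    refine ⟨⟨!![y + A 0 0 * z, -(2 * A 0 0 * y + (2 * A 0 0 * A 0 0 + A 0 1 * A 1 0) * z) / A 1 0;
      A 1 0 * z, -(y + A 0 0 * z)], ?_⟩, ?_⟩
    · rw [Matrix.det_fin_two_of]
      field_simp
      linear_combination -hyz
    · ext i j
      fin_cases i <;> fin_cases j <;> simp [Matrix.mul_apply, Fin.sum_univ_two, hA11] <;>
        field_simp <;> ring

omit [Fintype F] in
theorem toGL_mk_mem_imL (S : SL(2, F)) : mk₂ (SpecialLinearGroup.toGL S) ∈ imL F :=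
  ⟨QuotientGroup.mk S, rfl⟩

/-- The case of a nontrivial element of odd order in the centraliser. -/
theorem le_of_odd_element (hodd : Odd (Fintype.card F)) {A : GL (Fin 2) F}
    (ha : orderOf (mk₂ A) = 2) {H : Subgroup PGL(2, F)} (hH : H ≤ imL F)
    (hc : Cfsg.HasNormalPComplement 2 H) (hle : centralizer {mk₂ A} ⊓ imL F ≤ H)
    {t : PGL(2, F)} (htC : t ∈ centralizer {mk₂ A} ⊓ imL F) (ht1 : t ≠ 1)
    (hto : Odd (orderOf t)) : H ≤ centralizer {mk₂ A} := by
  have := CfsgLib.Geom.Moebius.finite_pgl_two (F := F)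
  have h2 := CfsgLib.Recog.GW.Gen.odd_iff_two_ne_zero.1 hodd
  haveI : Fact (Nat.Prime 2) := ⟨Nat.prime_two⟩
  haveI := CfsgLib.Transfer.pResidual_normal (G := H) (p := 2)
  set R := Cfsg.pResidual 2 H with hR
  have hA0 := trace_eq_zero ha
  have hAns : NonScalar (A : M2) := nonScalar_of_ne fun e => by
    rw [e, orderOf_one] at ha
    exact absurd ha (by norm_num)
  have hRo : Odd (Nat.card R) :=
    Nat.coprime_two_right.1 (CfsgLib.Transfer.hasNormalPComplement_iff_coprime_pResidual.1 hc)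
  have hto' : (⟨t, hle htC⟩ : H) ∈ R := (CfsgLib.Transfer.mem_pResidual_iff hc _).2
    (Nat.coprime_two_right.2 (by rwa [Subgroup.orderOf_mk]))
  have := CfsgLib.FT.odd_order_solvable hRo
  obtain ⟨n, hn⟩ := (Group.isSolvable_def R).1 inferInstance
  have hfirst : ∃ m, derivedSeries R m ≠ ⊥ ∧ derivedSeries R (m + 1) = ⊥ := by
    by_contra hno
    have : ∀ m, derivedSeries R m ≠ ⊥ := by
      intro m
      induction m with
      | zero =>
        rw [derivedSeries_zero]
        intro e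
        have h1 : (⟨⟨t, hle htC⟩, hto'⟩ : R) ∈ (⊥ : Subgroup R) := e ▸ mem_top _
        exact ht1 (congrArg (fun r : R => ((r : H) : PGL(2, F))) (mem_bot.1 h1))
      | succ m ih => exact fun e => hno ⟨m, ih, e⟩
    exact this n hn
  obtain ⟨m, hm, hm1⟩ := hfirst
  obtain ⟨x, hxD, hx1⟩ := ((derivedSeries R m).bot_or_exists_ne_one).resolve_left hm
  have hnorm : ((derivedSeries R m).map R.subtype).Normal := inferInstance
  have hab : ∀ y ∈ derivedSeries R m, ∀ z ∈ derivedSeries R m, Commute y z := by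
    intro y hy z hz
    have := commutator_eq_bot_iff_le_centralizer.1
      (show ⁅derivedSeries R m, derivedSeries R m⁆ = ⊥ by rw [← derivedSeries_succ]; exact hm1) hy
    exact (mem_centralizer_iff.1 this z hz).symm
  obtain ⟨X, hX⟩ := exists_mk ((x : H) : PGL(2, F))
  have hxo : Odd (orderOf x) := hRo.of_dvd_nat (orderOf_dvd_natCard x)
  have hXX : mk₂ X * mk₂ X ≠ 1 := by
    rw [hX]
    refine mul_self_ne_one (fun e => hx1 ?_) (by rwa [orderOf_coe, orderOf_coe])
    exact Subtype.ext (Subtype.ext e)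
  have hXns : NonScalar (X : M2) := nonScalar_of_ne fun e => hXX (by rw [e, one_mul])
  set c0 := (X : M2).trace / 2
  set W : M2 := (X : M2) - c0 • 1 with hW
  have hW0 : W.trace = 0 := by
    rw [hW, Matrix.trace_sub, Matrix.trace_smul, Matrix.trace_one, Fintype.card_fin, smul_eq_mul,
      Nat.cast_ofNat, div_mul_cancel₀ _ h2, sub_self]
  have hWns : NonScalar W := fun c e => hXns (c + c0) (by rw [add_smul, ← e, hW, sub_add_cancel])
  have hline : ∀ h : GL (Fin 2) F, mk₂ h ∈ H → ∃ β : F, (h : M2) * W = β • (W * (h : M2)) := by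
    intro h hh
    obtain ⟨x', hx', hxe⟩ := hnorm.conj_mem (x : H) ⟨x, hxD, rfl⟩ ⟨mk₂ h, hh⟩
    have hcm : Commute (mk₂ X) (mk₂ (h * X * h⁻¹)) := by
      have h1 : ((x' : H) : PGL(2, F)) = mk₂ (h * X * h⁻¹) := by
        rw [map_mul, map_mul, map_inv, hX]
        exact congrArg Subtype.val hxe
      rw [← h1, hX]
      exact ((hab x hxD x' hx').map R.subtype).map H.subtype
    have e1 := commute_lift hXX hcm
    set W' : M2 := ((h * X * h⁻¹ : GL (Fin 2) F) : M2) - c0 • 1 with hW'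
    have e2 : W * W' = W' * W := by
      have e1' : Commute (X : M2) ((h * X * h⁻¹ : GL (Fin 2) F) : M2) := e1
      exact ((e1'.sub_right ((Commute.one_right _).smul_right c0)).sub_left
        ((Commute.one_left _).smul_left c0)).eq
    have hW'0 : W'.trace = 0 := by
      rw [hW', Units.val_mul, Units.val_mul, Matrix.trace_sub, Matrix.trace_units_conj,
        ← Matrix.trace_sub]
      exact hW0
    obtain ⟨β, hβ⟩ := eq_smul_of_traceless h2 hWns hW0 hW'0 e2
    refine ⟨β, ?_⟩
    rw [← smul_mul_assoc, ← hβ, hW', hW, Units.val_mul, Units.val_mul, sub_mul, mul_sub,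
      smul_mul_assoc, mul_smul_comm, one_mul, mul_one, mul_assoc, Units.inv_mul, mul_one]
  obtain ⟨T, rfl⟩ := exists_mk t
  have hTT := mul_self_ne_one ht1 hto
  have hTA := commute_lift hTT (mem_centralizer_singleton_iff.1 htC.1)
  obtain ⟨p, q, hT⟩ := commutant hAns hTA.symm
  have hq : q ≠ 0 := fun e => ht1 (mk_eq_one_of_smul (c := p) (by rw [hT, e, zero_smul, add_zero]))
  have hp : 2 * p ≠ 0 := by
    have := trace_ne_zero hTT
    rw [hT, Matrix.trace_add, Matrix.trace_smul, Matrix.trace_smul, hA0, smul_zero, add_zero,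
      Matrix.trace_one, Fintype.card_fin, smul_eq_mul, mul_comm] at this
    exact_mod_cast this
  obtain ⟨S, hS⟩ := exists_anticommute h2 hA0 (Matrix.GeneralLinearGroup.det_ne_zero A)
  set J : GL (Fin 2) F := SpecialLinearGroup.toGL S with hJdef
  have hJ : (J : M2) * (A : M2) = -((A : M2) * (J : M2)) := hS
  have hJH : mk₂ J ∈ H := hle ⟨mem_centralizer_singleton_iff.2
    (commute_of_smul (c := (-1 : F)) (by rw [neg_one_smul]; exact hJ)).eq, toGL_mk_mem_imL S⟩
  obtain ⟨μ, hμ⟩ := hline J hJH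
  obtain ⟨l, hl⟩ := hline T (hle htC)
  set T' : M2 := p • 1 - q • (A : M2)
  have hJT : (J : M2) * (T : M2) = T' * J := by
    rw [hT, mul_add, sub_mul, mul_smul_comm, mul_smul_comm, smul_mul_assoc, smul_mul_assoc, hJ,
      mul_one, one_mul, smul_neg, sub_eq_add_neg]
  have hWne : W ≠ 0 := fun e => hWns 0 (by rw [e, zero_smul])
  have hμ0 : μ ≠ 0 := fun e => hWne ((Units.mul_right_eq_zero J).1 (by rw [hμ, e, zero_smul]))
  have hl' : T' * W = l • (W * T') := by
    refine (Units.mul_left_inj J).1 (smul_right_injective M2 hμ0 ?_)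
    show μ • (T' * W * (J : M2)) = μ • (l • (W * T') * (J : M2))
    rw [mul_assoc, ← mul_smul_comm, ← hμ, ← mul_assoc, ← hJT, mul_assoc, hl, mul_smul_comm,
      ← mul_assoc, hμ, smul_mul_assoc, mul_assoc, hJT, smul_mul_assoc, ← mul_assoc, smul_comm]
  have hl1 : l = 1 := by
    have h1 : (2 * p) • W = l • ((2 * p) • W) := by
      have h0 : (T : M2) + T' = (2 * p) • (1 : M2) := by
        show (T : M2) + (p • (1 : M2) - q • (A : M2)) = _
        rw [hT, two_mul, add_smul]; abel
      calc (2 * p) • W = ((T : M2) + T') * W := by rw [h0, smul_mul_assoc, one_mul]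
        _ = l • (W * ((T : M2) + T')) := by rw [add_mul, mul_add, smul_add, hl, hl']
        _ = _ := by rw [h0, mul_smul_comm, mul_one]
    exact smul_left_injective F (smul_ne_zero hp hWne) (by
      show l • ((2 * p) • W) = (1 : F) • ((2 * p) • W)
      rw [one_smul]; exact h1.symm)
  rw [hl1, one_smul, hT, add_mul, mul_add, smul_mul_assoc, smul_mul_assoc, mul_smul_comm,
    mul_smul_comm, one_mul, mul_one] at hl
  obtain ⟨r, hr⟩ := eq_smul_of_traceless h2 hAns hA0 hW0
    (smul_right_injective M2 hq (add_left_cancel hl))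
  have hr0 : r ≠ 0 := fun e => hWne (by rw [hr, e, zero_smul])
  intro h hh
  obtain ⟨Y, rfl⟩ := exists_mk h
  obtain ⟨β, hβ⟩ := hline Y hh
  rw [hr, mul_smul_comm, smul_mul_assoc, smul_comm] at hβ
  exact mem_centralizer_singleton_iff.2 (commute_of_smul (smul_right_injective M2 hr0 hβ)).eq

theorem exists_conic_point (h4 : 4 ≤ Fintype.card F) (h2 : (2 : F) ≠ 0) (d : F) :
    ∃ p q : F, q ≠ 0 ∧ p * p + q * q * d = 1 := by
  classical
  obtain ⟨t, ht, htd⟩ : ∃ t : F, t ≠ 0 ∧ 1 + t * t * d ≠ 0 := by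
    by_contra h
    push Not at h
    have key : ∀ b : F, b ≠ 0 → b = 1 ∨ b = -1 := fun b hb => by
      have e1 := h 1 one_ne_zero
      have e2 := h b hb
      refine mul_self_eq_one_iff.1 ?_
      linear_combination -e2 + b * b * e1
    have hle : (Finset.univ : Finset F) ⊆ {0, 1, -1} := fun b _ => by
      simp only [Finset.mem_insert, Finset.mem_singleton]
      by_cases hb : b = 0
      · exact Or.inl hb
      · exact Or.inr (key b hb)
    have := (Finset.card_le_card hle).trans Finset.card_le_three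
    rw [Finset.card_univ] at this
    omega
  refine ⟨(1 - t * t * d) / (1 + t * t * d), 2 * t / (1 + t * t * d),
    div_ne_zero (mul_ne_zero h2 ht) htd, ?_⟩
  rw [div_mul_div_comm, div_mul_div_comm, div_mul_eq_mul_div, ← add_div,
    div_eq_one_iff_eq (mul_ne_zero htd htd)]
  ring

/-- A subgroup with a normal 2-complement containing an involution centraliser lies in it. -/
theorem pgl_overgroup (hodd : Odd (Fintype.card F)) (h4 : 4 ≤ Fintype.card F) {a : PGL(2, F)}
    (ha : orderOf a = 2) (H : Subgroup PGL(2, F)) (hH : H ≤ imL F)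
    (h2 : Cfsg.HasNormalPComplement 2 H) (hle : Subgroup.centralizer {a} ⊓ imL F ≤ H) :
    H ≤ Subgroup.centralizer {a} := by
  obtain ⟨A, rfl⟩ := exists_mk a
  by_cases hex : ∃ t ∈ centralizer {mk₂ A} ⊓ imL F, t ≠ 1 ∧ Odd (orderOf t)
  · obtain ⟨t, htC, ht1, hto⟩ := hex
    exact le_of_odd_element hodd ha hH h2 hle htC ht1 hto
  push Not at hex
  have := CfsgLib.Geom.Moebius.finite_pgl_two (F := F)
  haveI : Fact (Nat.Prime 2) := ⟨Nat.prime_two⟩
  have h2' := CfsgLib.Recog.GW.Gen.odd_iff_two_ne_zero.1 hodd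
  have hA0 := trace_eq_zero ha
  have hAns : NonScalar (A : M2) := nonScalar_of_ne fun e => by
    rw [e, orderOf_one] at ha
    exact absurd ha (by norm_num)
  have hno : ∀ t ∈ centralizer {mk₂ A} ⊓ imL F, Odd (orderOf t) → t = 1 := fun t ht ho => by
    by_contra e
    exact hex t ht e ho
  have haL : mk₂ A ∈ imL F := by
    suffices IsSquare (A : M2).det by
      obtain ⟨c, hc⟩ := this
      exact CfsgLib.Geom.Moebius.mk_mem_range_of_sq _ hc
    obtain ⟨p, q, hq, hpq⟩ := exists_conic_point h4 h2' (A : M2).det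
    let S : SL(2, F) := ⟨p • 1 + q • (A : M2), by rw [det_combination hA0, hpq]⟩
    set s := mk₂ (SpecialLinearGroup.toGL S) with hs
    have hsA : Commute (SpecialLinearGroup.toGL S) A := Units.ext (by
      show (p • 1 + q • (A : M2)) * A = A * (p • 1 + q • (A : M2))
      simp only [add_mul, mul_add, smul_mul_assoc, mul_smul_comm, one_mul, mul_one])
    have hsC : s ∈ centralizer {mk₂ A} ⊓ imL F :=
      ⟨mem_centralizer_singleton_iff.2 (hsA.map mk₂).eq, toGL_mk_mem_imL S⟩
    have hev : Even (orderOf s) := Nat.not_odd_iff_even.1 fun ho => by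
      have h1 : mk₂ 1 = mk₂ (SpecialLinearGroup.toGL S) := by rw [map_one, ← hs, hno s hsC ho]
      obtain ⟨c, -, e⟩ := exists_smul_of_mk_eq h1
      refine hAns (q⁻¹ * (c - p)) ?_
      have e' : q • (A : M2) = (c - p) • (1 : M2) := by
        rw [sub_smul, eq_sub_iff_add_eq', ← Units.val_one]; exact e
      rw [mul_smul, ← e', inv_smul_smul₀ hq]
    obtain ⟨m, hm⟩ := hev
    have hy : orderOf (mk₂ ((SpecialLinearGroup.toGL S) ^ m)) = 2 := by
      rw [map_pow, ← hs, orderOf_pow_of_dvd (x := s) (fun e => by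
        rw [e, add_zero] at hm; exact absurd hm (orderOf_pos s).ne') ⟨2, by omega⟩, hm,
        show m + m = 2 * m by omega, Nat.mul_div_cancel _ (by have := orderOf_pos s; omega)]
    obtain ⟨r, hr⟩ := eq_smul_of_traceless h2' hAns hA0 (trace_eq_zero hy)
      (congrArg Units.val (hsA.pow_left m).eq).symm
    have hd : ((SpecialLinearGroup.toGL S ^ m : GL (Fin 2) F) : M2).det = 1 := by
      rw [← map_pow]; exact (S ^ m).2
    rw [hr, Matrix.det_smul, Fintype.card_fin] at hd
    refine ⟨r⁻¹, ?_⟩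
    have hr0 : r ≠ 0 := fun e => by rw [e] at hd; simp at hd
    field_simp
    linear_combination hd
  have hfix : ∀ z ∈ imL F, orderOf z = 2 → ∀ r ∈ imL F, Commute r z → Odd (orderOf r) → r = 1 := by
    intro z hz hz2 r hr hrz hro
    obtain ⟨a₀, ha₀⟩ := id haL
    obtain ⟨z₀, rfl⟩ := id hz
    obtain ⟨c, hc⟩ := isConj_iff.1 (CfsgLib.Fusion.psl_two_involutions_conj hodd z₀ a₀
      (by rwa [orderOf_injective _ ProjectiveSpecialLinearGroup.toPGL_injective] at hz2)
      (by rw [← orderOf_injective _ ProjectiveSpecialLinearGroup.toPGL_injective, ha₀, ha]))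
    set g := ProjectiveSpecialLinearGroup.toPGL c
    have hg : MulAut.conj g (ProjectiveSpecialLinearGroup.toPGL z₀) = mk₂ A := by
      rw [MulAut.conj_apply, ← map_inv, ← map_mul, ← map_mul, hc, ha₀]
    have h1 := hno (MulAut.conj g r) ⟨mem_centralizer_singleton_iff.2
      (hg ▸ (hrz.map (MulAut.conj g).toMonoidHom).eq),
      (imL F).mul_mem ((imL F).mul_mem ⟨c, rfl⟩ hr) ((imL F).inv_mem ⟨c, rfl⟩)⟩ (by rwa [MulEquiv.orderOf_eq])
    exact (MulAut.conj g).injective (h1.trans (map_one _).symm)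
  obtain ⟨S, hS⟩ := exists_anticommute h2' hA0 (Matrix.GeneralLinearGroup.det_ne_zero A)
  set J : GL (Fin 2) F := SpecialLinearGroup.toGL S
  have hJ : (J : M2) * (A : M2) = -((A : M2) * (J : M2)) := hS
  have hJA : Commute (mk₂ J) (mk₂ A) :=
    commute_of_smul (c := (-1 : F)) (by rw [neg_one_smul]; exact hJ)
  have hJne : mk₂ J ≠ 1 := fun e => by
    obtain ⟨c, hc, e'⟩ := exists_smul_of_mk_eq (show mk₂ 1 = mk₂ J by rw [map_one, e])
    rw [Units.val_one] at e'
    rw [e', smul_mul_assoc, mul_smul_comm, one_mul, mul_one, eq_neg_iff_add_eq_zero, ← add_smul,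
      smul_eq_zero] at hJ
    rcases hJ with h | h
    · exact mul_ne_zero h2' hc (by linear_combination h)
    · exact Units.ne_zero A h
  have hJ2 : orderOf (mk₂ J) = 2 := by
    refine orderOf_eq_prime ?_ hJne
    rw [pow_two]
    by_contra e
    have h1 := commute_lift e hJA
    rw [hJ, neg_eq_iff_add_eq_zero, ← two_smul F, smul_eq_zero] at h1
    exact absurd (h1.resolve_left h2') (Units.ne_zero (A * J))
  have hneAJ : mk₂ J ≠ mk₂ A := fun e => by
    obtain ⟨c, hc, e'⟩ := exists_smul_of_mk_eq e.symm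
    rw [e', smul_mul_assoc, mul_smul_comm, eq_neg_iff_add_eq_zero, ← add_smul, smul_eq_zero] at hJ
    rcases hJ with h | h
    · exact mul_ne_zero h2' hc (by linear_combination h)
    · exact Units.ne_zero (A * A) h
  have hAA := mul_self_of_two ha
  have hJJ := mul_self_of_two hJ2
  have haH : mk₂ A ∈ H := hle ⟨mem_centralizer_singleton_iff.2 rfl, haL⟩
  have hjH : mk₂ J ∈ H := hle ⟨mem_centralizer_singleton_iff.2 hJA.eq, toGL_mk_mem_imL S⟩
  have hz : orderOf (mk₂ A * mk₂ J) = 2 := by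
    refine orderOf_eq_prime (by rw [hJA.symm.mul_pow, pow_two, pow_two, hAA, hJJ, one_mul]) fun e =>
      hneAJ ?_
    exact (inv_eq_of_mul_eq_one_right e).symm.trans (inv_eq_of_mul_eq_one_right hAA)
  haveI := CfsgLib.Transfer.pResidual_normal (G := H) (p := 2)
  have hodd1 : ∀ x ∈ H, Odd (orderOf x) → x = 1 := by
    intro x hx hxo
    set R := (Cfsg.pResidual 2 H).map H.subtype
    have hRo : ∀ r ∈ R, Odd (orderOf r) := by
      rintro _ ⟨r, hr, rfl⟩
      rw [Subgroup.coe_subtype, orderOf_coe]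
      exact Nat.coprime_two_right.1 ((CfsgLib.Transfer.mem_pResidual_iff h2 r).1 hr)
    have hRH : R ≤ H := map_subtype_le _
    have hxR : x ∈ R := ⟨⟨x, hx⟩, (CfsgLib.Transfer.mem_pResidual_iff h2 _).2
      (Nat.coprime_two_right.2 (by rwa [Subgroup.orderOf_mk])), rfl⟩
    have hinv : ∀ z : PGL(2, F), orderOf z = 2 → z ∈ H → z * x * z⁻¹ = x⁻¹ := by
      intro z hz hzH
      refine CfsgLib.Recog.GenDihedral.inverts_of_no_fixed (R := R)
        (mul_self_of_two hz) ?_
        (fun r hr h => hfix z (hH hzH) hz r (hH (hRH hr)) (mul_inv_eq_iff_eq_mul.1 h).symm (hRo r hr))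
        x hxR
      rintro _ ⟨r, hr, rfl⟩
      exact ⟨⟨z, hzH⟩ * r * ⟨z, hzH⟩⁻¹,
        (inferInstance : (Cfsg.pResidual 2 H).Normal).conj_mem r hr _, rfl⟩
    refine hfix _ (hH (mul_mem haH hjH)) hz x (hH hx) ?_ hxo
    refine (mul_inv_eq_iff_eq_mul.1 ?_).symm
    calc mk₂ A * mk₂ J * x * (mk₂ A * mk₂ J)⁻¹ = mk₂ A * (mk₂ J * x * (mk₂ J)⁻¹) * (mk₂ A)⁻¹ := by
          group
      _ = (mk₂ A * x * (mk₂ A)⁻¹)⁻¹ := by rw [hinv _ hJ2 hjH]; group
      _ = x := by rw [hinv _ ha haH, inv_inv]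
  have hR : Cfsg.pResidual 2 H = ⊥ := (Subgroup.eq_bot_iff_forall _).2 fun r hr => Subtype.ext
    (hodd1 r r.2 (by
      rw [orderOf_coe]
      exact Nat.coprime_two_right.1 ((CfsgLib.Transfer.mem_pResidual_iff h2 r).1 hr)))
  haveI : (⊥ : Subgroup H).Normal := inferInstance
  have hHp : IsPGroup 2 H := (CfsgLib.Transfer.isPGroup_quotient_of_pResidual_le (G := H) (p := 2)
    (N := ⊥) hR.le).of_equiv QuotientGroup.quotientBot
  haveI : Nontrivial H := ⟨⟨⟨mk₂ A, haH⟩, 1, fun e => by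
    have := congrArg Subtype.val e
    rw [show ((⟨mk₂ A, haH⟩ : H) : PGL(2, F)) = mk₂ A from rfl] at this
    rw [this, Subgroup.coe_one, orderOf_one] at ha
    exact absurd ha (by norm_num)⟩⟩
  haveI := hHp.center_nontrivial
  obtain ⟨z, hz2⟩ := exists_prime_orderOf_dvd_card' (G := center H) 2
    (((hHp.to_subgroup (center H)).card_eq_or_dvd).resolve_left (Finite.one_lt_card.ne'))
  have hz2' : orderOf (((z : H)) : PGL(2, F)) = 2 := by rw [orderOf_coe, orderOf_coe, hz2]
  obtain ⟨a₀, ha₀⟩ := id haL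
  obtain ⟨z₀, hz₀⟩ := hH (z : H).2
  obtain ⟨c, hc⟩ := isConj_iff.1 (CfsgLib.Fusion.psl_two_involutions_conj hodd z₀ a₀
    (by rw [← orderOf_injective _ ProjectiveSpecialLinearGroup.toPGL_injective, hz₀, hz2'])
    (by rw [← orderOf_injective _ ProjectiveSpecialLinearGroup.toPGL_injective, ha₀, ha]))
  have hmap : H.map (MulAut.conj (ProjectiveSpecialLinearGroup.toPGL c)).toMonoidHom ≤
      centralizer {mk₂ A} ⊓ imL F := by
    rintro _ ⟨y, hy, rfl⟩
    refine ⟨mem_centralizer_singleton_iff.2 ?_, (imL F).mul_mem ((imL F).mul_mem ⟨c, rfl⟩ (hH hy)) ((imL F).inv_mem ⟨c, rfl⟩)⟩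
    have h1 : Commute y ((z : H) : PGL(2, F)) :=
      congrArg Subtype.val (mem_center_iff.1 z.2 ⟨y, hy⟩)
    have h3 := h1.map (MulAut.conj (ProjectiveSpecialLinearGroup.toPGL c)).toMonoidHom
    have h4 : (MulAut.conj (ProjectiveSpecialLinearGroup.toPGL c)).toMonoidHom
        ((z : H) : PGL(2, F)) = mk₂ A := by
      show MulAut.conj _ _ = _
      rw [MulAut.conj_apply, ← hz₀, ← map_inv, ← map_mul, ← map_mul, hc, ha₀]
    rw [h4] at h3
    exact h3.eq
  have hcard := Subgroup.card_le_of_le hmap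
  rw [Nat.card_congr (H.equivMapOfInjective _ (MulEquiv.injective _)).toEquiv.symm] at hcard
  rw [← Subgroup.eq_of_le_of_card_ge hle hcard]
  exact inf_le_left

end CfsgLib.GW.Overgroup
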