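import Cfsg.Agent.Lib.GW.NilpOvergroup
import Cfsg.Agent.Lib.GW.Shape
import Cfsg.Agent.Lib.GW.ShapeOvergroup
import Cfsg.Agent.Lib.ClassK.SmallSimple

/-!
The facts on the components of the maximal subgroups of a minimal counterexample to the theorem
of Gorenstein and Walter, read off from the quotient by the core.
-/

set_option autoImplicit false
set_option linter.unusedSectionVars false
set_option linter.style.haveILetI false

namespace CfsgLib.GW.Nilp

open Subgroup CfsgLib.Invol CfsgLib.Recog.GW CfsgLib.Geom.Moebius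
open scoped MatrixGroups

universe u

variable {G : Type u} [Group G] [Finite G]

/-- The overgroups of involution centralisers in `A₇`. -/
def AltOvergroup : Prop :=
  ∀ i : alternatingGroup (Fin 7), orderOf i = 2 → ∀ K : Subgroup (alternatingGroup (Fin 7)),
    Cfsg.HasNormalPComplement 2 K → centralizer ({i} : Set (alternatingGroup (Fin 7))) ≤ K →
      K ≤ centralizer ({i} : Set (alternatingGroup (Fin 7)))

theorem isSolvable_oddCore (H : Type u) [Group H] [Finite H] :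
    Group.IsSolvable (Cfsg.oddCore H) :=
  CfsgLib.FT.odd_order_solvable
    (Nat.coprime_two_right.1 (CfsgLib.Solvable.pPrimeCore_coprime 2))

/-- The layer centralises the odd core. -/
theorem layer_le_centralizer_oddCore (H : Type u) [Group H] [Finite H] :
    Cfsg.layer H ≤ centralizer (Cfsg.oddCore H : Set H) := by
  haveI := isSolvable_oddCore H
  haveI : (Cfsg.oddCore H).Normal := CfsgLib.Solvable.pPrimeCore_normal 2 H
  exact CfsgLib.Comp.layer_le_centralizer_of_isSolvable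
    (Subgroup.Normal.isSubnormal inferInstance) inferInstance

theorem not_isSolvable_layer {H : Type u} [Group H] [Finite H] (h : Cfsg.layer H ≠ ⊥) :
    ¬ Group.IsSolvable (Cfsg.layer H) := fun hs => by
  haveI := hs
  have h1 := CfsgLib.Comp.commutator_layer_self H
  haveI : Nontrivial (Cfsg.layer H) := (nontrivial_iff_ne_bot _).2 h
  have h2 := Group.IsSolvable.commutator_lt_top_of_nontrivial (G := ↥(Cfsg.layer H))
  haveI := CfsgLib.Comp.isPerfect_layer H
  exact h2.ne (Group.IsPerfect.commutator_eq_top)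

theorem not_isSolvable_of_layer {H : Type u} [Group H] [Finite H] (h : Cfsg.layer H ≠ ⊥) :
    ¬ Group.IsSolvable H := fun hs => by
  haveI := hs
  exact not_isSolvable_layer h inferInstance

/-- An involution of `E O(H)` lies in `E`. -/
theorem mem_layer_of_invol {H : Type u} [Group H] [Finite H] {x : H} (hx : x * x = 1)
    (h : QuotientGroup.mk' (Cfsg.oddCore H) x ∈
      (Cfsg.layer H).map (QuotientGroup.mk' (Cfsg.oddCore H))) :
    x ∈ Cfsg.layer H := by
  obtain ⟨e, he, heq⟩ := h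
  obtain ⟨o, ho, hxo⟩ : ∃ o ∈ Cfsg.oddCore H, e * o = x :=
    ⟨e⁻¹ * x, QuotientGroup.eq.1 heq, mul_inv_cancel_left e x⟩
  have hc : Commute e o := (mem_centralizer_iff.1 (layer_le_centralizer_oddCore H he) o ho).symm
  obtain ⟨m, hm⟩ : Odd (orderOf o) := (Nat.coprime_two_right.1
    (CfsgLib.Solvable.pPrimeCore_coprime 2)).of_dvd_nat (Subgroup.orderOf_dvd_natCard _ ho)
  have h1 : x ^ orderOf o = e ^ orderOf o := by
    rw [← hxo, hc.mul_pow, pow_orderOf_eq_one, mul_one]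
  have h2 : x ^ orderOf o = x := by
    rw [hm, pow_succ, pow_mul, pow_two, hx, one_pow, one_mul]
  rw [← h2, h1]
  exact pow_mem he _

/-- The shape of the quotient by the core, with the solvable top. -/
theorem shape_socle (M : Min G) {K : Subgroup G} (hK : K ≠ ⊤) (hns : ¬ Group.IsSolvable K) :
    ¬ Group.IsSolvable (↥K ⧸ Cfsg.oddCore ↥K) ∧
    (Nonempty ((↥K ⧸ Cfsg.oddCore ↥K) ≃* alternatingGroup (Fin 7)) ∨
      ∃ (T : Sylow 2 (↥K ⧸ Cfsg.oddCore ↥K)) (_ : DihData (T : Subgroup (↥K ⧸ Cfsg.oddCore ↥K)))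
        (L : Subgroup (↥K ⧸ Cfsg.oddCore ↥K)) (_ : L.Normal) (F : Type) (_ : Field F)
        (_ : Fintype F), Odd (Fintype.card F) ∧ 3 < Fintype.card F ∧
          centralizer (L : Set (↥K ⧸ Cfsg.oddCore ↥K)) = ⊥ ∧ IsSimpleGroup L ∧
          Group.IsSolvable ((↥K ⧸ Cfsg.oddCore ↥K) ⧸ L) ∧
          Nonempty (L ≃* Matrix.ProjectiveSpecialLinearGroup (Fin 2) F)) := by
  haveI : Fact (Nat.Prime 2) := ⟨Nat.prime_two⟩
  obtain ⟨S, ⟨D⟩⟩ := OnePrime.exists_sylow_dihData M K hns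
  obtain ⟨T, ⟨f⟩⟩ := quotient_sylow S
  obtain ⟨e⟩ := dihEquiv D
  obtain ⟨E⟩ := exists_dihData T.2 (by have := D.h_pos; omega) (f.symm.trans e)
  have hO : Cfsg.oddCore (↥K ⧸ Cfsg.oddCore ↥K) = ⊥ :=
    CfsgLib.Solvable.pPrimeCore_quotient_eq_bot 2
  have hns' : ¬ Group.IsSolvable (↥K ⧸ Cfsg.oddCore ↥K) := fun h => hns (by
    haveI := h
    haveI := isSolvable_oddCore ↥K
    exact Group.isSolvable_of_ker_le_range (Cfsg.oddCore ↥K).subtype
      (QuotientGroup.mk' (Cfsg.oddCore ↥K)) (by rw [QuotientGroup.ker_mk', range_subtype]))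
  have hlt : Nat.card K < Nat.card G := lt_of_le_of_ne (card_le_card_group K)
    fun e => hK (eq_top_of_card_eq K e)
  have hGW : SimpleGW.{u} (Nat.card (↥K ⧸ Cfsg.oddCore ↥K)) := M.below.mono
    ((Nat.card_le_card_of_surjective _ (QuotientGroup.mk'_surjective _)).trans (by omega))
  obtain ⟨L, hLn, hsimp, hC, hmod, hsol⟩ := exists_socle_model hGW hns' hO T E
  refine ⟨hns', ?_⟩
  rcases hmod with ⟨F, i1, i2, hodd, hq, he⟩ | ⟨⟨e7⟩⟩
  · exact Or.inr ⟨T, E, L, hLn, F, i1, i2, hodd, hq, hC, hsimp, hsol, he⟩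
  · exact Or.inl (PElem.equiv_alt_seven T E L hC e7)

/-- A perfect normal subgroup outside the socle. -/
theorem eq_socle {Q : Type u} [Group Q] {Eb L : Subgroup Q} [Eb.Normal] [L.Normal]
    [IsSimpleGroup L] (hperf : ⁅Eb, Eb⁆ = Eb) (hne : Eb ≠ ⊥) (hC : centralizer (L : Set Q) = ⊥)
    (hsol : Group.IsSolvable (Q ⧸ L)) : Eb = L := by
  have hle : L ≤ Eb := by
    rcases IsSimpleGroup.eq_bot_or_eq_top_of_normal (Eb.subgroupOf L) inferInstance with h | h
    · exfalso
      refine hne (le_bot_iff.1 (hC ▸ ?_))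
      intro z hz
      refine mem_centralizer_iff.2 fun l hl => ?_
      exact (commute_of_normal_of_disjoint Eb L inferInstance inferInstance
        (subgroupOf_eq_bot.1 h) z l hz hl).eq.symm
    · exact subgroupOf_eq_top.1 h
  refine le_antisymm ?_ hle
  intro z hz
  haveI := hsol
  by_contra hzL
  have hp : ⁅Eb.map (QuotientGroup.mk' L), Eb.map (QuotientGroup.mk' L)⁆ =
      Eb.map (QuotientGroup.mk' L) := by rw [← map_commutator, hperf]
  have hb : Eb.map (QuotientGroup.mk' L) ≠ ⊥ := fun e => hzL (by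
    have h1 : QuotientGroup.mk' L z ∈ Eb.map (QuotientGroup.mk' L) := ⟨z, hz, rfl⟩
    rw [e, mem_bot] at h1
    exact (QuotientGroup.eq_one_iff z).1 h1)
  exact (Group.IsSolvable.commutator_lt_of_ne_bot hb).ne hp

theorem hasComplement_map {H H' : Type*} [Group H] [Finite H] [Group H'] [Finite H'] (f : H →* H')
    {X : Subgroup H} (h : Cfsg.HasNormalPComplement 2 X) :
    Cfsg.HasNormalPComplement 2 (X.map f) :=
  haveI : Fact (Nat.Prime 2) := ⟨Nat.prime_two⟩
  CfsgLib.Transfer.hasNormalPComplement_of_surjective (f.subgroupMap X)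
    (f.subgroupMap_surjective X) h

/-- A lift of an element of the image of the layer commuting with an involution. -/
theorem exists_fixed_lift {H : Type u} [Group H] [Finite H] {x e : H} (hx : x * x = 1)
    (he : e ∈ Cfsg.layer H)
    (hc : Commute (QuotientGroup.mk' (Cfsg.oddCore H) e) (QuotientGroup.mk' (Cfsg.oddCore H) x)) :
    ∃ j ∈ Cfsg.layer H, Commute j x ∧
      QuotientGroup.mk' (Cfsg.oddCore H) j = QuotientGroup.mk' (Cfsg.oddCore H) e := by
  haveI : (Cfsg.layer H).Normal := CfsgLib.Comp.layer_normal H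
  obtain ⟨o, ho⟩ : ∃ o, o = e⁻¹ * (x * e * x⁻¹) := ⟨_, rfl⟩
  have hoO : o ∈ Cfsg.oddCore H := by
    rw [ho]
    refine (QuotientGroup.eq_one_iff (N := Cfsg.oddCore H) _).1 ?_
    show QuotientGroup.mk' (Cfsg.oddCore H) (e⁻¹ * (x * e * x⁻¹)) = 1
    rw [map_mul, map_mul, map_mul, map_inv, map_inv, ← hc.eq, mul_inv_cancel_right, inv_mul_cancel]
  have hoE : o ∈ Cfsg.layer H := ho ▸ mul_mem (inv_mem he)
    ((inferInstance : (Cfsg.layer H).Normal).conj_mem e he x)
  have hxi : x⁻¹ = x := inv_eq_of_mul_eq_one_left hx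
  have hxo : x * o * x⁻¹ = o⁻¹ := by
    rw [ho, hxi]
    calc x * (e⁻¹ * (x * e * x)) * x = x * e⁻¹ * x * e * (x * x) := by group
      _ = (e⁻¹ * (x * e * x))⁻¹ := by
        rw [hx, mul_inv_rev, mul_inv_rev, mul_inv_rev, inv_inv, hxi]; group
  obtain ⟨m, hm⟩ : Odd (orderOf o) := (Nat.coprime_two_right.1
    (CfsgLib.Solvable.pPrimeCore_coprime 2)).of_dvd_nat (Subgroup.orderOf_dvd_natCard _ hoO)
  refine ⟨e * o ^ (m + 1), mul_mem he (pow_mem hoE _), ?_, ?_⟩
  · have h2 : o ^ (m + 1) * o ^ (m + 1) = o := by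
      rw [← pow_add, show m + 1 + (m + 1) = orderOf o + 1 by omega, pow_succ, pow_orderOf_eq_one,
        one_mul]
    refine (mul_inv_eq_iff_eq_mul.1 ?_).symm
    calc x * (e * o ^ (m + 1)) * x⁻¹ = (x * e * x⁻¹) * (x * o * x⁻¹) ^ (m + 1) := by
          rw [conj_pow]; group
      _ = e * o * (o ^ (m + 1))⁻¹ := by rw [hxo, inv_pow, ho, mul_inv_cancel_left]
      _ = e * o ^ (m + 1) := by
        nth_rewrite 1 [← h2]
        rw [mul_assoc, mul_inv_cancel_right]
  · show QuotientGroup.mk' (Cfsg.oddCore H) (e * o ^ (m + 1)) = _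
    rw [map_mul, map_pow, show QuotientGroup.mk' (Cfsg.oddCore H) o = 1 from
      (QuotientGroup.eq_one_iff o).2 hoO, one_pow, mul_one]

/-- The image of an element of `Z(L)` centralises the image of the layer. -/
theorem center_coe {N : Subgroup G} {w : N} (hE : w ∈ Cfsg.layer ↥N)
    (hO : w ∈ Cfsg.oddCore ↥N) :
    (w : G) ∈ (Cfsg.layer ↥N).map N.subtype ⊓
      centralizer (((Cfsg.layer ↥N).map N.subtype : Subgroup G) : Set G) := by
  refine mem_inf.2 ⟨⟨w, hE, rfl⟩, mem_centralizer_iff.2 ?_⟩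
  rintro _ ⟨v, hv, rfl⟩
  exact (congrArg Subtype.val (mem_centralizer_iff.1 (layer_le_centralizer_oddCore _ hv) w hO)).symm

/-- The facts on the layer of a maximal subgroup. -/
theorem compStmt_of_alt (h7 : AltOvergroup) : CompStmt.{u} := by
  intro G _ _ M N hN hxN hlayer
  classical
  haveI : Fact (Nat.Prime 2) := ⟨Nat.prime_two⟩
  obtain ⟨hnsQ, hshape⟩ := shape_socle M hN.1 (not_isSolvable_of_layer hlayer)
  haveI hEn : (Cfsg.layer ↥N).Normal := CfsgLib.Comp.layer_normal ↥N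
  obtain ⟨π, hπ⟩ : ∃ π : ↥N →* ↥N ⧸ Cfsg.oddCore ↥N, π = QuotientGroup.mk' _ := ⟨_, rfl⟩
  have hπs : Function.Surjective π := hπ ▸ QuotientGroup.mk'_surjective _
  have hπ1 : ∀ z : N, π z = 1 ↔ z ∈ Cfsg.oddCore ↥N := fun z => by
    rw [hπ]; exact QuotientGroup.eq_one_iff z
  obtain ⟨Eb, hEb⟩ : ∃ Eb, Eb = (Cfsg.layer ↥N).map π := ⟨_, rfl⟩
  haveI : Eb.Normal := hEb ▸ hEn.map π hπs
  have hEperf : ⁅Eb, Eb⁆ = Eb := by
    rw [hEb, ← map_commutator, CfsgLib.Comp.commutator_layer_self]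
  have hEne : Eb ≠ ⊥ := fun e => not_isSolvable_layer hlayer (by
    haveI := isSolvable_oddCore ↥N
    refine Group.isSolvable_of_isSolvable_injective
      (inclusion_injective (show Cfsg.layer ↥N ≤ Cfsg.oddCore ↥N from fun z hz => (hπ1 z).1 ?_))
    exact mem_bot.1 (e ▸ hEb ▸ mem_map_of_mem π hz))
  have hpow : ∀ x : N, orderOf x = 2 → orderOf (π x) = 2 := fun x hx => hπ ▸ orderOf_mk'_invol hx
  -- the model of the quotient
  have hmodel : centralizer (Eb : Set (↥N ⧸ Cfsg.oddCore ↥N)) = ⊥ ∧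
      (∀ x y, orderOf x = 2 → orderOf y = 2 → x ∈ Eb ∨ y ∈ Eb ∨ x * y ∈ Eb) ∧
      (∀ x, orderOf x = 2 → ∀ H : Subgroup (↥N ⧸ Cfsg.oddCore ↥N), H ≤ Eb →
        Cfsg.HasNormalPComplement 2 H → Eb ⊓ centralizer {x} ≤ H → H ≤ centralizer {x}) ∧
      (∀ x y z, orderOf x = 2 → x ∉ Eb → Odd (orderOf y) → x * y * x⁻¹ = y⁻¹ →
        orderOf z = 2 → z ∈ Eb → Commute z x →
        (∀ c ∈ Eb, Commute c x → Commute c y) → y = 1) := by
    rcases hshape with ⟨⟨e⟩⟩ | ⟨T, E, L, hLn, F, iF, iFt, hodd, hq, hC, hsimp, hsol, ⟨eL⟩⟩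
    · haveI : IsSimpleGroup (↥N ⧸ Cfsg.oddCore ↥N) := by
        haveI : Fintype (↥N ⧸ Cfsg.oddCore ↥N) := Fintype.ofFinite _
        haveI := alternatingGroup.isSimpleGroup (α := Fin 7) (by simp)
        haveI : Nontrivial (↥N ⧸ Cfsg.oddCore ↥N) := e.toEquiv.nontrivial
        exact IsSimpleGroup.isSimpleGroup_of_surjective e.symm.toMonoidHom e.symm.surjective
      have htop : Eb = ⊤ :=
        (IsSimpleGroup.eq_bot_or_eq_top_of_normal Eb inferInstance).resolve_left hEne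
      have hall : ∀ x, x ∈ Eb := fun x => htop ▸ mem_top x
      refine ⟨?_, fun x y _ _ => Or.inl (hall x), fun x hx H _ h2 hle => ?_,
        fun x y z _ hx => absurd (hall x) hx⟩
      · rcases IsSimpleGroup.eq_bot_or_eq_top_of_normal (center (↥N ⧸ Cfsg.oddCore ↥N))
          inferInstance with h | h
        · rw [htop, coe_top, centralizer_univ, h]
        · exact absurd (Group.isSolvable_of_comm fun p q => mem_center_iff.1 (h ▸ mem_top q) p) hnsQ
      · have h1 := h7 (e x) (by rw [MulEquiv.orderOf_eq, hx]) (H.map e.toMonoidHom)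
          (hasComplement_map e.toMonoidHom h2) fun c hc => ?_
        · intro w hw
          have h2' : e w * e x = e x * e w :=
            mem_centralizer_singleton_iff.1 (h1 ⟨w, hw, rfl⟩)
          rw [← map_mul, ← map_mul] at h2'
          exact mem_centralizer_singleton_iff.2 (e.injective h2')
        · refine ⟨e.symm c, hle (mem_inf.2 ⟨hall _, mem_centralizer_singleton_iff.2 ?_⟩),
            e.apply_symm_apply c⟩
          refine e.injective ?_
          rw [map_mul, map_mul, e.apply_symm_apply]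
          exact mem_centralizer_singleton_iff.1 hc
    · haveI := hsimp
      haveI := hLn
      have hEL : Eb = L := eq_socle hEperf hEne hC hsol
      subst hEL
      obtain ⟨P, χ, hχ, hLP, hχL, hsurj, hinv, hconj⟩ := exists_linear hodd T E Eb eL hC
      have := finite_pgl_two (F := F)
      have hχmem : ∀ p : P, χ p ∈ imL F → (p : ↥N ⧸ Cfsg.oddCore ↥N) ∈ Eb := fun p hp => by
        obtain ⟨p', hp', he⟩ := hsurj _ hp
        rwa [← hχ he]
      have hord : ∀ p : P, orderOf (χ p) = orderOf (p : ↥N ⧸ Cfsg.oddCore ↥N) := fun p => by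
        rw [orderOf_injective χ hχ, orderOf_coe]
      refine ⟨hC, fun x y hx hy => ?_, fun x hx H hH h2 hle => ?_,
        fun x y z hx hxE hyo hxy hz hzE hzx hfix => ?_⟩
      · by_contra hh
        push Not at hh
        refine hh.2.2 (hχmem (⟨x, hinv x hx⟩ * ⟨y, hinv y hy⟩) ?_)
        rw [map_mul]
        exact (mul_mem_iff_of_index_two (imL_index hodd)).2 (iff_of_false
          (fun h => hh.1 (hχmem _ h)) (fun h => hh.2.1 (hχmem _ h)))
      · have hHP : H ≤ P := hH.trans hLP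
        have h1 := CfsgLib.GW.Overgroup.pgl_overgroup hodd hq
          (a := χ ⟨x, hinv x hx⟩) (by rw [hord]; exact hx)
          ((H.subgroupOf P).map χ) (by rintro _ ⟨p, hp, rfl⟩; exact hχL p (hH hp))
          (hasComplement_map χ (CfsgLib.Transfer.hasNormalPComplement_of_surjective
            (subgroupOfEquivOfLe hHP).symm.toMonoidHom (MulEquiv.surjective _) h2)) ?_
        · intro w hw
          have h3 : Commute (χ ⟨w, hHP hw⟩) (χ ⟨x, hinv x hx⟩) :=
            mem_centralizer_singleton_iff.1 (h1 ⟨⟨w, hHP hw⟩, hw, rfl⟩)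
          rw [Commute, SemiconjBy, ← map_mul, ← map_mul] at h3
          exact mem_centralizer_singleton_iff.2 (congrArg Subtype.val (hχ h3))
        · rintro c ⟨hcC, hcL⟩
          obtain ⟨p, hp, rfl⟩ := hsurj c hcL
          refine ⟨p, hle (mem_inf.2 ⟨hp, mem_centralizer_singleton_iff.2 ?_⟩), rfl⟩
          have h3 := mem_centralizer_singleton_iff.1 hcC
          rw [← map_mul, ← map_mul] at h3
          exact congrArg Subtype.val (hχ h3)
      · have hxP := hinv x hx
        have hyP : y ∈ P := hconj y x hyo hxy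
        have hzP := hLP hzE
        have h1 := PGL.eq_one_of_inverted hodd hq (a := χ ⟨x, hxP⟩) (z := χ ⟨z, hzP⟩)
          (x := χ ⟨y, hyP⟩) (by rw [hord]; exact hx) (by rw [hord]; exact hz)
          (Commute.map (Subtype.ext (hfix z hzE hzx).symm.eq : Commute (⟨y, hyP⟩ : P) ⟨z, hzP⟩) χ)
          (by rw [hord]; exact hyo)
          (by rw [← map_inv, ← map_mul, ← map_mul, ← map_inv]; exact congrArg χ (Subtype.ext hxy))
          fun c hc hca => by
            obtain ⟨p, hp, rfl⟩ := hsurj c hc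
            rw [Commute, SemiconjBy, ← map_mul, ← map_mul] at hca
            exact Commute.map (Subtype.ext (hfix p hp (congrArg Subtype.val (hχ hca))).eq :
              Commute p ⟨y, hyP⟩) χ
        exact congrArg Subtype.val (hχ (h1.trans (map_one χ).symm))
  obtain ⟨hCE, hfour, hover, houter⟩ := hmodel
  subst hEb
  -- a Sylow subgroup and the four-groups of the layer
  obtain ⟨T, ⟨D⟩⟩ := OnePrime.exists_sylow_dihData M N (not_isSolvable_of_layer hlayer)
  obtain ⟨i, hi, k, hk, hi2, hk2, hik, hne⟩ :=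
    CfsgLib.Recog.GenDihedral.exists_four_subgroup T D _ (not_isSolvable_layer hlayer)
  have hfourT : ∀ S : Sylow 2 ↥N, ∃ i ∈ Cfsg.layer ↥N ⊓ (S : Subgroup ↥N),
      ∃ k ∈ Cfsg.layer ↥N ⊓ (S : Subgroup ↥N),
        orderOf i = 2 ∧ orderOf k = 2 ∧ Commute i k ∧ i ≠ k := fun S => by
    have hp : IsPGroup 2 ↥(zpowers i ⊔ zpowers k) :=
      (isPGroup_zpowers_of_invol hi2).to_sup_of_normal_right' (isPGroup_zpowers_of_invol hk2)
        (zpowers_le.2 (Subgroup.centralizer_le_normalizer _ (mem_centralizer_iff.2 fun z hz => by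
          obtain ⟨n, rfl⟩ := hz
          exact (hik.zpow_right n).eq.symm)))
    obtain ⟨g, hg⟩ := exists_conj_mem_sylow S hp
    exact ⟨g * i * g⁻¹, ⟨hEn.conj_mem i hi g, hg i (mem_sup_left (mem_zpowers i))⟩,
      g * k * g⁻¹, ⟨hEn.conj_mem k hk g, hg k (mem_sup_right (mem_zpowers k))⟩,
      (orderOf_conj_eq _ _).trans hi2, (orderOf_conj_eq _ _).trans hk2, mem_cI_conj hik g,
      fun e => hne ((MulAut.conj g).injective e)⟩
  have hL : ∀ z : N, (z : G) ∈ (Cfsg.layer ↥N).map N.subtype → z ∈ Cfsg.layer ↥N := by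
    rintro z ⟨z', hz', e⟩
    exact N.subtype_injective e ▸ hz'
  have hLc : ∀ w : N, (w : G) ∈ (Cfsg.layer ↥N).map N.subtype ⊓
      centralizer (((Cfsg.layer ↥N).map N.subtype : Subgroup G) : Set G) → π w = 1 := fun w hw => by
    refine mem_bot.1 (hCE ▸ mem_centralizer_iff.2 ?_)
    rintro _ ⟨v, hv, rfl⟩
    rw [← map_mul, ← map_mul]
    exact congrArg π (Subtype.ext (mem_centralizer_iff.1 hw.2 _ ⟨v, hv, rfl⟩))
  refine ⟨(Cfsg.layer ↥N).map N.subtype, ?_⟩
  refine ⟨?norm, ?four, ?cent, ?overgroup, ?outer, ?not2⟩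
  case norm =>
    intro z hz
    refine mem_normalizer_iff_of_finite fun w hw => ?_
    obtain ⟨w', hw', rfl⟩ := hw
    exact ⟨⟨z, hz⟩ * w' * ⟨z, hz⟩⁻¹, hEn.conj_mem w' hw' _, rfl⟩
  case four =>
    intro x y hx hy hne' hxy hxN hyN
    have hx' : orderOf (⟨x, hxN⟩ : N) = 2 := by rw [orderOf_mk, hx]
    have hy' : orderOf (⟨y, hyN⟩ : N) = 2 := by rw [orderOf_mk, hy]
    have hlift : ∀ z : N, z * z = 1 → π z ∈ (Cfsg.layer ↥N).map π →
        (z : G) ∈ (Cfsg.layer ↥N).map N.subtype := fun z hz h =>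
      ⟨z, mem_layer_of_invol hz (hπ ▸ h), rfl⟩
    rcases hfour _ _ (hpow _ hx') (hpow _ hy') with h | h | h
    · exact Or.inl (hlift _ (invol_mul_self hx') h)
    · exact Or.inr (Or.inl (hlift _ (invol_mul_self hy') h))
    · refine Or.inr (Or.inr (hlift (⟨x, hxN⟩ * ⟨y, hyN⟩) ?_ (by rwa [map_mul])))
      refine Subtype.ext ?_
      show x * y * (x * y) = 1
      calc x * y * (x * y) = x * (y * x) * y := by group
        _ = x * (x * y) * y := by rw [hxy]
        _ = (x * x) * (y * y) := by group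
        _ = 1 := by rw [invol_mul_self hx, invol_mul_self hy, one_mul]
  case cent =>
    intro x hx hle
    by_contra hxL
    obtain ⟨T₀, hxT, hT₀⟩ := M.exists_sylow hx
    obtain ⟨D₀⟩ := M.dih T₀
    obtain ⟨i', hi', k', hk', hi2', hk2', hik', hne''⟩ := hfourT (T₀.subtype (hT₀.trans hle))
    have hcomm : ∀ z : N, z ∈ (T₀.subtype (hT₀.trans hle) : Subgroup ↥N) →
        Commute (z : G) x := fun z hz => mem_cI.1 (hT₀ hz)
    have hE : ∀ z : N, z ∈ Cfsg.layer ↥N → x ≠ (z : G) := fun z hz e => hxL ⟨z, hz, e.symm⟩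
    exact CfsgLib.Recog.GenDihedral.no_eight T₀ D₀ (a := (i' : G)) (b := (k' : G)) (c := x)
      (by rw [orderOf_coe, hi2']) (by rw [orderOf_coe, hk2']) hx
      (congrArg Subtype.val hik'.eq) (hcomm i' hi'.2) (hcomm k' hk'.2)
      (fun e => hne'' (Subtype.ext e)) (hE i' hi'.1) (hE k' hk'.1) (hE _ (mul_mem hi'.1 hk'.1))
  case overgroup =>
    intro x hx hxN H hH h2 hle h hh
    have hLN : (Cfsg.layer ↥N).map N.subtype ≤ N := map_subtype_le _
    have hHN : H ≤ N := hH.trans hLN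
    have hxN2 : orderOf (⟨x, hxN⟩ : N) = 2 := by rw [orderOf_mk, hx]
    have hHb : (H.subgroupOf N).map π ≤ (Cfsg.layer ↥N).map π :=
      map_mono fun z hz => hL z (hH hz)
    have h1 := hover (π ⟨x, hxN⟩) (hpow _ hxN2) ((H.subgroupOf N).map π) hHb
      (hasComplement_map π (CfsgLib.Transfer.hasNormalPComplement_of_surjective
        (subgroupOfEquivOfLe hHN).symm.toMonoidHom (MulEquiv.surjective _) h2)) ?_
    · obtain ⟨e, he, heq⟩ := hH hh
      have h3 : Commute (π e) (π ⟨x, hxN⟩) :=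
        mem_centralizer_singleton_iff.1 (h1 ⟨e, by show (e : G) ∈ H; rw [← N.coe_subtype, heq]; exact hh, rfl⟩)
      obtain ⟨w, hw⟩ : ∃ w : N, w = e * ⟨x, hxN⟩ * e⁻¹ * ⟨x, hxN⟩⁻¹ := ⟨_, rfl⟩
      have hwE : w ∈ Cfsg.layer ↥N := by
        rw [hw, show e * ⟨x, hxN⟩ * e⁻¹ * (⟨x, hxN⟩ : N)⁻¹ =
          e * (⟨x, hxN⟩ * e⁻¹ * (⟨x, hxN⟩ : N)⁻¹) by group]
        exact mul_mem he (hEn.conj_mem _ (inv_mem he) _)
      have hwO : w ∈ Cfsg.oddCore ↥N := (hπ1 w).1 (by
        rw [hw, map_mul, map_mul, map_mul, map_inv, map_inv, h3.eq, mul_inv_cancel_right,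
          mul_inv_cancel])
      have h4 := center_coe hwE hwO
      rw [hw] at h4
      subst heq
      exact h4
    · rintro _ ⟨⟨e, he, rfl⟩, hc⟩
      subst hπ
      obtain ⟨j, hj, hjx, hje⟩ := exists_fixed_lift (x := ⟨x, hxN⟩) (invol_mul_self hxN2) he
        (mem_centralizer_singleton_iff.1 hc)
      exact ⟨j, hle (mem_inf.2 ⟨⟨j, hj, rfl⟩, mem_cI.2 (congrArg Subtype.val hjx.eq)⟩), hje⟩
  case outer =>
    intro x y hx hxN hxL hyN hyo hxy hfix
    have hxN2 : orderOf (⟨x, hxN⟩ : N) = 2 := by rw [orderOf_mk, hx]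
    obtain ⟨S, hS⟩ := (isPGroup_zpowers_of_invol hxN2).exists_le_sylow
    obtain ⟨i', hi', -, -, hi2', -, -, -⟩ := hfourT S
    obtain ⟨z, hz, hz1, hzx⟩ := exists_fixed (isPGroup_zpowers_of_invol hxN2)
      (S.2.to_le inf_le_right : IsPGroup 2 ↥(Cfsg.layer ↥N ⊓ (S : Subgroup ↥N)))
      (zpowers_le.2 (mem_normalizer_iff_of_finite fun w hw => mem_inf.2
        ⟨hEn.conj_mem w hw.1 _, mul_mem (mul_mem (hS (mem_zpowers _)) hw.2)
          (inv_mem (hS (mem_zpowers _)))⟩))
      (fun e => invol_ne_one hi2' (mem_bot.1 (e ▸ hi')))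
    obtain ⟨l, hl⟩ := S.2 ⟨z, hz.2⟩
    obtain ⟨q, -, hq⟩ := (Nat.dvd_prime_pow Nat.prime_two).1
      (orderOf_dvd_of_pow_eq_one (congrArg Subtype.val hl : z ^ 2 ^ l = 1))
    obtain ⟨q', rfl⟩ : ∃ q', q = q' + 1 := Nat.exists_eq_succ_of_ne_zero fun e => hz1 (by
      rwa [e, pow_zero, orderOf_eq_one_iff] at hq)
    have hz2 : orderOf (z ^ 2 ^ q') = 2 := by
      rw [orderOf_pow_of_dvd (by positivity) (hq ▸ pow_dvd_pow 2 (Nat.le_succ q')), hq, pow_succ,
        Nat.mul_div_cancel_left _ (by positivity)]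
    have h1 : π ⟨y, hyN⟩ = 1 := by
      refine houter (π ⟨x, hxN⟩) (π ⟨y, hyN⟩) (π (z ^ 2 ^ q')) (hpow _ hxN2) (fun h => hxL
          ⟨⟨x, hxN⟩, mem_layer_of_invol (invol_mul_self hxN2) (hπ ▸ h), rfl⟩)
        ((by rw [orderOf_mk]; exact hyo : Odd (orderOf (⟨y, hyN⟩ : N))).of_dvd_nat
          (orderOf_map_dvd π _))
        (by rw [← map_inv, ← map_mul, ← map_mul, ← map_inv]; exact congrArg π (Subtype.ext hxy))
        (hpow _ hz2) ⟨_, pow_mem hz.1 _, rfl⟩
        ((((hzx _ (mem_zpowers _)).pow_right _).symm).map π) ?_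
      rintro _ ⟨e, he, rfl⟩ hc
      subst hπ
      obtain ⟨j, hj, hjx, hje⟩ := exists_fixed_lift (x := ⟨x, hxN⟩) (invol_mul_self hxN2) he hc
      rw [← hje]
      have h2 := hLc (⟨y, hyN⟩ * j * ⟨y, hyN⟩⁻¹ * j⁻¹)
        (hfix j (mem_inf.2 ⟨⟨j, hj, rfl⟩, mem_cI.2 (congrArg Subtype.val hjx.eq)⟩))
      rw [map_mul, map_mul, map_mul, map_inv, map_inv, mul_inv_eq_one,
        mul_inv_eq_iff_eq_mul] at h2
      exact h2.symm
    refine mem_centralizer_iff.2 ?_
    rintro _ ⟨e, he, rfl⟩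
    exact (congrArg Subtype.val (mem_centralizer_iff.1 (layer_le_centralizer_oddCore _ he) ⟨y, hyN⟩
      ((hπ1 _).1 h1))).symm
  case not2 =>
    intro h
    obtain ⟨P, hPn, hc, hq⟩ := CfsgLib.Transfer.hasNormalPComplement_iff_exists.1
      (CfsgLib.Transfer.hasNormalPComplement_of_injective
        ((Cfsg.layer ↥N).equivMapOfInjective _ N.subtype_injective).toMonoidHom
        (MulEquiv.injective _) h)
    haveI := hPn
    haveI : Group.IsSolvable P := CfsgLib.FT.odd_order_solvable (Nat.coprime_two_right.1 hc)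
    haveI : Group.IsNilpotent (↥(Cfsg.layer ↥N) ⧸ P) := hq.isNilpotent
    haveI : Group.IsSolvable (↥(Cfsg.layer ↥N) ⧸ P) := inferInstance
    exact not_isSolvable_layer hlayer (Group.isSolvable_of_ker_le_range P.subtype
      (QuotientGroup.mk' P) (by rw [QuotientGroup.ker_mk', range_subtype]))

end CfsgLib.GW.Nilp
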