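import Cfsg.Agent.Lib.GW.OnePrime.Structure

/-!
A3, one prime: a maximal subgroup with normal 2-complement which contains the centralizer of an
involution properly cannot have a Fitting subgroup of prime power order.
-/

set_option autoImplicit false
set_option linter.unusedSectionVars false
set_option linter.style.haveILetI false

namespace CfsgLib.GW

open Subgroup CfsgLib.Invol CfsgLib.PLocal OnePrime

universe u

variable {G : Type u} [Group G] [Finite G] {p : ℕ} [hp : Fact p.Prime]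

namespace OnePrime

variable {a : G} {K R : Subgroup G}

theorem conjMap_le_normalizer {g : G} {A B : Subgroup G} (h : A ≤ normalizer (B : Set G)) :
    conjMap g A ≤ normalizer (conjMap g B : Set G) := by
  rw [← conjMap_normalizer]; exact conjMap_mono h

theorem conjMap_cI (a g : G) : conjMap g (cI a) = cI (g * a * g⁻¹) := cI_conj a g

theorem orderOf_conj' (g x : G) : orderOf (g * x * g⁻¹) = orderOf x :=
  orderOf_injective (MulAut.conj g).toMonoidHom (MulAut.conj g).injective x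

/-- No involution centralizes a maximal invariant `p`-subgroup of a four-group around it. -/
theorem not_le_cI (M : Min G) (S : Setup p a K R) {v w u : G} {Mx : Subgroup G}
    (hv : orderOf v = 2) (hw : orderOf w = 2) (hvw : Commute v w) (hu : orderOf u = 2)
    (hvu : Commute v u) (hwu : Commute w u) (hMx : IsMaxInv p v w Mx) : ¬ Mx ≤ cI u := by
  intro hle
  obtain ⟨g, hg⟩ := isConj_iff.1 (M.one_class S.ha hu)
  have hodd : Odd p := hp.out.odd_of_ne_two S.odd_prime
  set K' := conjMap g K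
  set R' := conjMap g R
  have hcK : cI u ≤ K' := by rw [← hg, ← conjMap_cI]; exact conjMap_mono S.hle
  have hR'odd : Odd (Nat.card R') := by rw [card_conjMap]; exact S.odd
  have hKR : K' ≤ normalizer (R' : Set G) := conjMap_le_normalizer S.norm
  have hMR : Mx ≤ R' := by
    intro x hx
    obtain ⟨n, hn⟩ := hMx.1.exists_card_eq
    have ho : Odd (orderOf x) :=
      (hodd.pow (n := n)).of_dvd_nat (hn ▸ Subgroup.orderOf_dvd_natCard Mx hx)
    have h1 := mem_conjMap.1 (hcK (hle hx))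
    refine mem_conjMap.2 (S.mem_R _ h1 ?_)
    have h2 := orderOf_conj' g⁻¹ x
    rw [inv_inv] at h2
    exact h2 ▸ ho
  set A : Subgroup G := zpowers v ⊔ zpowers w
  have hAK : A ≤ K' := (sup_le (zpowers_le.2 (mem_cI.2 hvu.eq)) (zpowers_le.2 (mem_cI.2 hwu.eq))).trans hcK
  obtain ⟨P, hMP, hAP⟩ := CfsgLib.Coprime.exists_invariant_sylow_ge (hAK.trans hKR)
    (coprime_four hv hw hvw hR'odd) (Or.inr (CfsgLib.FT.odd_order_solvable hR'odd)) hMx.1 hMR
    (sup_le (zpowers_le.2 hMx.2.1) (zpowers_le.2 hMx.2.2.1))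
  set Pu : Subgroup G := (P : Subgroup R').map R'.subtype
  have hPu : Pu = Mx := hMx.2.2.2 Pu (P.2.map _) (hAP (mem_sup_left (mem_zpowers v)))
    (hAP (mem_sup_right (mem_zpowers w))) hMP
  have hs : SylowIn p Pu R' :=
    ⟨map_subtype_le _, P.2.map _, CfsgLib.Fusion.not_dvd_relIndex_of_sylow P⟩
  have hs' : SylowIn p (conjMap g⁻¹ Pu) K := S.sylowIn (by
    have := hs.conj g⁻¹
    rwa [conjMap_inv_conjMap] at this)
  refine S.not_centralized _ hs' a (S.hle (self_mem_cI a)) S.ha ?_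
  rw [hPu]
  have h1 := conjMap_mono (g := g⁻¹) hle
  rw [conjMap_cI, ← hg, show g⁻¹ * (g * a * g⁻¹) * g⁻¹⁻¹ = a by group] at h1
  exact h1

theorem zj_sylow_solvable (S : Setup p a K R) (Q : Sylow p G) :
    Group.IsSolvable (normalizer (Cfsg.centerThompsonAOf (Q : Subgroup G) : Set G)) := by
  obtain ⟨P, hP, -⟩ := exists_sylowIn_le (G := G) (H := K) (R := ⊥)
    (IsPGroup.of_bot (p := p)) bot_le
  obtain ⟨Q0, hQ0⟩ := S.exists_sylow_eq hP
  obtain ⟨g, hg⟩ := MulAction.exists_smul_eq G Q0 Q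
  have e : (Q : Subgroup G) = conjMap g P := by rw [← hQ0, ← hg]; rfl
  have h1 : conjMap g (Cfsg.centerThompsonAOf P) = Cfsg.centerThompsonAOf (Q : Subgroup G) := by
    rw [e]; exact centerThompsonAOf_map_equiv (MulAut.conj g) P
  rw [← h1, ← conjMap_normalizer, S.normalizer_zj P hP]
  exact CfsgLib.Coprime.isSolvable_map _ S.solvable

end OnePrime

/-- **A3, one prime.** -/
theorem false_of_one_prime {G : Type u} [Group G] [Finite G] (hM : Min G) {a : G}
    (ha : orderOf a = 2) {K : Subgroup G} (hK : IsCoatom K) (hle : cI a ≤ K)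
    (hnc : Cfsg.HasNormalPComplement 2 K) (hne : K ≠ cI a) {p : ℕ} [Fact p.Prime]
    (hF : IsPGroup p ↥(Cfsg.fittingSubgroup ↥K)) : False := by
  classical
  have hp : p.Prime := Fact.out
  obtain ⟨R, S⟩ := exists_setup hM ha hK hle hnc hne hF
  have hlocal := local_solvable hM S.odd_prime (fun Q => zj_sylow_solvable S Q)
    (fun v w u Mx hv hw hvw hu hvu hwu hMx => not_le_cI hM S hv hw hvw hu hvu hwu hMx)
  have hodd : Odd p := hp.odd_of_ne_two S.odd_prime
  have hoddP : ∀ {W : Subgroup G}, IsPGroup p W → Odd (Nat.card W) := fun hW => by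
    obtain ⟨n, hn⟩ := hW.exists_card_eq
    exact hn ▸ hodd.pow
  obtain ⟨T, haT, hTc⟩ := hM.exists_sylow ha
  obtain ⟨D⟩ := hM.dih T
  obtain ⟨s, hsT, hs, hsa⟩ : ∃ s ∈ (T : Subgroup G), orderOf s = 2 ∧ s ≠ a := by
    by_cases h : dz T D = a
    · exact ⟨dt T D 0, SetLike.coe_mem _, (Subgroup.orderOf_coe _).trans (D.orderOf_zy 0),
        fun e => D.ne_zpow 0 _ (Subtype.ext (e.trans h.symm))⟩
    · exact ⟨dz T D, SetLike.coe_mem _, (Subgroup.orderOf_coe _).trans D.orderOf_z, h⟩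
  obtain ⟨g, hF4⟩ := hM.exists_four T ha haT hTc hs hsT hsa
  have has : Commute a s := hF4.comm
  -- an invariant Sylow subgroup
  set A0 : Subgroup G := zpowers a ⊔ zpowers s
  have hA0K : A0 ≤ K := (sup_le (zpowers_le.2 (self_mem_cI a))
    (zpowers_le.2 (hTc hsT))).trans hle
  obtain ⟨P0, hP0⟩ := CfsgLib.Coprime.exists_invariant_sylow (hA0K.trans S.norm)
    (coprime_four ha hs has S.odd) (Or.inr (CfsgLib.FT.odd_order_solvable S.odd)) p
  set P : Subgroup G := (P0 : Subgroup R).map R.subtype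
  have hPK : SylowIn p P K := S.sylowIn
    ⟨map_subtype_le _, P0.2.map _, CfsgLib.Fusion.not_dvd_relIndex_of_sylow P0⟩
  have haP : a ∈ normalizer (P : Set G) := hP0 (mem_sup_left (mem_zpowers a))
  have hsP : s ∈ normalizer (P : Set G) := hP0 (mem_sup_right (mem_zpowers s))
  obtain ⟨b, g', hb, hab, hne', hgb, hbP, hU⟩ : ∃ b g' : G, orderOf b = 2 ∧ Commute a b ∧ a ≠ b ∧
      g' * a * g'⁻¹ = b ∧ b ∈ normalizer (P : Set G) ∧ P ⊓ cI b ≠ ⊥ := by
    by_cases h1 : P ⊓ cI s = ⊥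
    · by_cases h2 : P ⊓ cI (a * s) = ⊥
      · exfalso
        refine S.not_centralized P hPK a (hle (self_mem_cI a)) ha ?_
        have := four_gen ha hs hsa.symm has (hoddP hPK.2.1) haP hsP
        rw [h1, h2, sup_bot_eq, sup_bot_eq] at this
        exact this.trans inf_le_right
      · refine ⟨a * s, g * g, orderOf_four_mul ha hs hsa.symm has, (Commute.refl a).mul_right has,
          fun e => invol_ne_one hs (mul_eq_left.1 e.symm), ?_, mul_mem haP hsP, h2⟩
        rw [mul_inv_rev, show g * g * a * (g⁻¹ * g⁻¹) = g * (g * a * g⁻¹) * g⁻¹ by group, hF4.ga,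
          hF4.gb]
    · exact ⟨s, g, hs, has, hsa.symm, hF4.ga, hsP, h1⟩
  set A : Subgroup G := zpowers a ⊔ zpowers b
  have hAcop : ∀ {X : Subgroup G}, Odd (Nat.card X) → (Nat.card A).Coprime (Nat.card X) :=
    fun h => coprime_four ha hb hab h
  have hAn : ∀ {X : Subgroup G}, a ∈ normalizer (X : Set G) → b ∈ normalizer (X : Set G) →
      A ≤ normalizer (X : Set G) := fun h1 h2 => sup_le (zpowers_le.2 h1) (zpowers_le.2 h2)
  -- the conjugate maximal subgroup
  set K' := conjMap g' K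
  set R' := conjMap g' R
  have hcK' : cI b ≤ K' := by rw [← hgb, ← conjMap_cI]; exact conjMap_mono hle
  have hR'odd : Odd (Nat.card R') := by rw [card_conjMap]; exact S.odd
  have hKR' : K' ≤ normalizer (R' : Set G) := conjMap_le_normalizer S.norm
  set U := P ⊓ cI b
  have hUp : IsPGroup p U := hPK.2.1.to_le inf_le_left
  have hUn : ∀ x : G, x ∈ normalizer (P : Set G) → Commute x b → x ∈ normalizer (U : Set G) :=
    fun x hx hxb => mem_normalizer_iff_of_finite fun y hy => ⟨(mem_normalizer_iff.1 hx y).1 hy.1,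
      (cI b).mul_mem ((cI b).mul_mem (mem_cI.2 hxb.eq) hy.2) ((cI b).inv_mem (mem_cI.2 hxb.eq))⟩
  have hUR : U ≤ R' := fun x hx => by
    refine mem_conjMap.2 (S.mem_R _ (mem_conjMap.1 (hcK' hx.2)) ?_)
    have h2 := orderOf_conj' g'⁻¹ x
    rw [inv_inv] at h2
    exact h2 ▸ (hoddP hUp).of_dvd_nat (Subgroup.orderOf_dvd_natCard U hx)
  have hAK' : A ≤ normalizer (R' : Set G) :=
    hAn (hKR' (hcK' (mem_cI.2 hab.eq))) (hKR' (hcK' (self_mem_cI b)))
  obtain ⟨P1, hUP1, hAP1⟩ := CfsgLib.Coprime.exists_invariant_sylow_ge hAK' (hAcop hR'odd)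
    (Or.inr (CfsgLib.FT.odd_order_solvable hR'odd)) hUp hUR
    (hAn (hUn a haP hab) (hUn b hbP (Commute.refl b)))
  set P' : Subgroup G := (P1 : Subgroup R').map R'.subtype
  have hP''K : SylowIn p (conjMap g'⁻¹ P') K := S.sylowIn (by
    have := (show SylowIn p P' R' from
      ⟨map_subtype_le _, P1.2.map _, CfsgLib.Fusion.not_dvd_relIndex_of_sylow P1⟩).conj g'⁻¹
    rwa [conjMap_inv_conjMap] at this)
  obtain ⟨SP, hSP⟩ := S.exists_sylow_eq hPK
  have hbound : ∀ W : Subgroup G, IsPGroup p W → Nat.card W ≤ Nat.card P := fun W hW => by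
    rw [← hSP]; exact (sylowIn_top SP).card_le hW le_top
  have hP'card : Nat.card P' = Nat.card P := by
    obtain ⟨SP', hSP'⟩ := S.exists_sylow_eq hP''K
    rw [← card_conjMap g'⁻¹ P', ← hSP', ← hSP, SP'.card_eq_multiplicity, SP.card_eq_multiplicity]
  have maxOfCard : ∀ W : Subgroup G, IsPGroup p W → a ∈ normalizer (W : Set G) →
      b ∈ normalizer (W : Set G) → Nat.card W = Nat.card P → IsMaxInv p a b W :=
    fun W h1 h2 h3 h4 => ⟨h1, h2, h3, fun M' hM' _ _ hWM =>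
      (eq_of_le_of_card_ge hWM (h4 ▸ hbound M' hM')).symm⟩
  let cl : Subgroup G → Prop := fun W => ∃ c : G, Commute c a ∧ Commute c b ∧ W = conjMap c P
  have clMax : ∀ W, cl W → IsMaxInv p a b W := by
    rintro W ⟨c, hca, hcb, rfl⟩
    refine maxOfCard _ (hPK.2.1.map _) ?_ ?_ (card_conjMap c P)
    · rw [← conjMap_normalizer]; refine mem_conjMap.2 ?_
      rw [show c⁻¹ * a * c = a by rw [mul_assoc, ← hca.eq, inv_mul_cancel_left]]; exact haP
    · rw [← conjMap_normalizer]; refine mem_conjMap.2 ?_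
      rw [show c⁻¹ * b * c = b by rw [mul_assoc, ← hcb.eq, inv_mul_cancel_left]]; exact hbP
  have hP'max : IsMaxInv p a b P' := maxOfCard P' (P1.2.map _) (hAP1 (mem_sup_left (mem_zpowers a)))
    (hAP1 (mem_sup_right (mem_zpowers b))) hP'card
  have hP'not : ¬ cl P' := by
    rintro ⟨c, hca, -, hc⟩
    have hcK : c ∈ K := hle (mem_cI.2 hca.eq)
    have hcKe : conjMap c K = K := conjMap_eq_self_iff.2 (le_normalizer hcK)
    have h1 : SylowIn p P' K := by rw [hc, ← hcKe]; exact hPK.conj c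
    have h2 := S.normalizer_zj P' h1
    have h3 := congrArg (conjMap g') (S.normalizer_zj _ hP''K)
    rw [conjMap_normalizer, show conjMap g' (Cfsg.centerThompsonAOf (conjMap g'⁻¹ P')) =
      Cfsg.centerThompsonAOf P' by
        rw [show conjMap g' (Cfsg.centerThompsonAOf (conjMap g'⁻¹ P')) =
          Cfsg.centerThompsonAOf (conjMap g' (conjMap g'⁻¹ P')) from
            centerThompsonAOf_map_equiv (MulAut.conj g') _, conjMap_conjMap_inv], h2] at h3
    have hKn : normalizer (K : Set G) = K := by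
      rcases eq_or_lt_of_le (le_normalizer : K ≤ normalizer (K : Set G)) with e | hlt
      · exact e.symm
      · refine absurd (hK.2 _ hlt) (hM.normalizer_ne_top (fun e => invol_ne_one ha ?_) hK.1)
        exact mem_bot.1 (e ▸ hle (self_mem_cI a))
    have hg'K : g' ∈ K := hKn ▸ conjMap_eq_self_iff.1 h3.symm
    have h4 := S.central g' hg'K
    rw [hgb, invol_inv ha, ← hab.eq] at h4
    have h5 := eq_one_of_odd_sq S.odd h4 (invol_mul_self (orderOf_four_mul ha hb hne' hab))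
    exact invol_ne_one (orderOf_four_mul ha hb hne' hab) h5
  -- a largest intersection
  obtain ⟨⟨M1, M2⟩, ⟨hM1, hM2, hM2n, hDne⟩, hDmax⟩ := Set.exists_max_image
    {x : Subgroup G × Subgroup G | cl x.1 ∧ IsMaxInv p a b x.2 ∧ ¬ cl x.2 ∧ x.1 ⊓ x.2 ≠ ⊥}
    (fun x => Nat.card (x.1 ⊓ x.2 : Subgroup G)) (Set.toFinite _)
    ⟨(P, P'), ⟨1, Commute.one_left _, Commute.one_left _, (conjMap_one P).symm⟩, hP'max, hP'not,
      fun h => hU (le_bot_iff.1 ((le_inf inf_le_left hUP1).trans h.le))⟩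
  set Dd := M1 ⊓ M2 with hDd
  have hm1 := clMax M1 hM1
  have hD1 : Dd < M1 := lt_of_le_of_ne inf_le_left fun e => hM2n (by
    rw [hm1.2.2.2 M2 hM2.1 hM2.2.1 hM2.2.2.1 (e ▸ inf_le_right)]; exact hM1)
  have hD2 : Dd < M2 := lt_of_le_of_ne inf_le_right fun e => hM2n (by
    rw [← hM2.2.2.2 M1 hm1.1 hm1.2.1 hm1.2.2.1 (e ▸ inf_le_left)]; exact hM1)
  have hDp : IsPGroup p Dd := hm1.1.to_le inf_le_left
  set N := normalizer (Dd : Set G)
  haveI hNs : Group.IsSolvable N := hlocal Dd hDp hDne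
  have haN : a ∈ N := mem_normalizer_iff_of_finite fun y hy =>
    ⟨(mem_normalizer_iff.1 hm1.2.1 y).1 hy.1, (mem_normalizer_iff.1 hM2.2.1 y).1 hy.2⟩
  have hbN : b ∈ N := mem_normalizer_iff_of_finite fun y hy =>
    ⟨(mem_normalizer_iff.1 hm1.2.2.1 y).1 hy.1, (mem_normalizer_iff.1 hM2.2.2.1 y).1 hy.2⟩
  haveI hOn : (Cfsg.oddCore N).Normal := Cfsg.pPrimeCore_normal 2 ↥N
  set Og : Subgroup G := (Cfsg.oddCore N).map N.subtype
  have hOgodd : Odd (Nat.card Og) := by
    rw [card_map_of_injective N.subtype_injective]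
    exact Nat.coprime_two_right.1 (CfsgLib.Solvable.pPrimeCore_coprime 2)
  have hOgN : ∀ x ∈ N, x ∈ normalizer (Og : Set G) := fun x hx => mem_normalizer_iff_of_finite
    fun y hy => by
      obtain ⟨z, hz, rfl⟩ := hy
      exact ⟨_, hOn.conj_mem z hz ⟨x, hx⟩, rfl⟩
  have hAOg : A ≤ normalizer (Og : Set G) := hAn (hOgN a haN) (hOgN b hbN)
  have hsmall : ∀ Mi : Subgroup G, IsMaxInv p a b Mi → Mi ⊓ N ≤ Og := by
    intro Mi hMi
    have hn : ∀ x, x ∈ normalizer (Mi : Set G) → x ∈ N →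
        x ∈ normalizer (Mi ⊓ N : Subgroup G) := fun x h1 h2 => mem_normalizer_iff_of_finite
      fun y hy => ⟨(mem_normalizer_iff.1 h1 y).1 hy.1, N.mul_mem (N.mul_mem h2 hy.2) (N.inv_mem h2)⟩
    refine (four_gen ha hb hne' hab (hoddP (hMi.1.to_le inf_le_left)) (hn a hMi.2.1 haN)
      (hn b hMi.2.2.1 hbN)).trans ?_
    have key : ∀ v : G, orderOf v = 2 → v ∈ N → Mi ⊓ N ⊓ cI v ≤ Og := by
      intro v hv hvN y hy
      refine ⟨⟨y, hy.1.2⟩, mem_oddCore_of_commute hM hNs (v := ⟨v, hvN⟩) (y := ⟨y, hy.1.2⟩) hv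
        ((hoddP hMi.1).of_dvd_nat (Subgroup.orderOf_dvd_natCard Mi hy.1.1)) (mem_cI'.1 hy.2), rfl⟩
    exact sup_le (sup_le (key a ha haN) (key b hb hbN))
      (key (a * b) (orderOf_four_mul ha hb hne' hab) (mul_mem haN hbN))
  have hinv : ∀ Mi : Subgroup G, IsMaxInv p a b Mi → A ≤ normalizer (Mi ⊓ N : Subgroup G) :=
    fun Mi h => hAn
      (mem_normalizer_iff_of_finite fun y hy => ⟨(mem_normalizer_iff.1 h.2.1 y).1 hy.1,
        N.mul_mem (N.mul_mem haN hy.2) (N.inv_mem haN)⟩)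
      (mem_normalizer_iff_of_finite fun y hy => ⟨(mem_normalizer_iff.1 h.2.2.1 y).1 hy.1,
        N.mul_mem (N.mul_mem hbN hy.2) (N.inv_mem hbN)⟩)
  have hOgs : Group.IsSolvable A ∨ Group.IsSolvable Og :=
    Or.inr (CfsgLib.FT.odd_order_solvable hOgodd)
  obtain ⟨Q1, hQ1, hAQ1⟩ := CfsgLib.Coprime.exists_invariant_sylow_ge hAOg (hAcop hOgodd) hOgs
    (hm1.1.to_le inf_le_left) (hsmall M1 hm1) (hinv M1 hm1)
  obtain ⟨Q2, hQ2, hAQ2⟩ := CfsgLib.Coprime.exists_invariant_sylow_ge hAOg (hAcop hOgodd) hOgs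
    (hM2.1.to_le inf_le_left) (hsmall M2 hM2) (hinv M2 hM2)
  obtain ⟨w, hw, hwQ⟩ := CfsgLib.Coprime.exists_conj_invariant_sylow hAOg (hAcop hOgodd) hOgs
    Q1 Q2 hAQ1 hAQ2
  have hwa : Commute w a := (mem_centralizer_iff.1 hw.2 a (mem_sup_left (mem_zpowers a))).symm
  have hwb : Commute w b := (mem_centralizer_iff.1 hw.2 b (mem_sup_right (mem_zpowers b))).symm
  obtain ⟨M3, hM3, hQM3⟩ := exists_maxInv (p := p) (Q1.2.map Og.subtype)
    (hAQ1 (mem_sup_left (mem_zpowers a))) (hAQ1 (mem_sup_right (mem_zpowers b)))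
  have big : ∀ {X Y Z : Subgroup G}, Dd < X → IsPGroup p X → X ⊓ N ≤ Z → X ⊓ Z ≤ Y →
      Nat.card Dd < Nat.card Y := fun h1 h2 h3 h4 =>
    lt_of_lt_of_le (card_lt_card_inf_normalizer h2 h1)
      (card_le_of_le ((le_inf inf_le_left h3).trans h4))
  have h13 : Nat.card Dd < Nat.card (M1 ⊓ M3 : Subgroup G) :=
    big hD1 hm1.1 (hQ1.trans hQM3) le_rfl
  have hM3cl : cl M3 := by
    by_contra hn3
    exact absurd (hDmax (M1, M3) ⟨hM1, hM3, hn3, fun h => by
      rw [h, card_bot] at h13; exact absurd h13 (not_lt.2 Nat.card_pos)⟩)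
      (not_le.2 h13)
  obtain ⟨c, hca, hcb, rfl⟩ := hM3cl
  have hcl3 : cl (conjMap w (conjMap c P)) :=
    ⟨w * c, hwa.mul_left hca, hwb.mul_left hcb, conjMap_conjMap w c P⟩
  have h23 : Nat.card Dd < Nat.card (conjMap w (conjMap c P) ⊓ M2 : Subgroup G) :=
    big hD2 hM2.1 (hQ2.trans (hwQ ▸ map_mono hQM3)) (inf_comm _ _).le
  exact absurd (hDmax (conjMap w (conjMap c P), M2)
    ⟨hcl3, hM2, hM2n, fun h => by
      rw [h, card_bot] at h23; exact absurd h23 (not_lt.2 Nat.card_pos)⟩) (not_le.2 h23)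

end CfsgLib.GW
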