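import Cfsg.Agent.Lib.GW.NilpOvergroup
import Cfsg.Agent.Lib.GW.NilpOneprime

/-!
A maximal subgroup with normal 2-complement over the centralizer of an involution is that
centralizer, given the component facts.
-/

set_option autoImplicit false

namespace CfsgLib.GW

universe u

/-- A3 from the component facts. -/
theorem nilpotentOvergroup_of_comp (hcomp : Nilp.CompStmt.{u}) : NilpotentOvergroupStmt.{u} :=
  Nilp.nilpotentOvergroup_of_pieces hcomp fun _ _ _ M _ ha _ hK hle h2 hne p hp hF =>
    haveI : Fact p.Prime := ⟨hp⟩
    false_of_one_prime M ha hK hle h2 hne hF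

end CfsgLib.GW
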