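import Cfsg.Agent.Lib.Transfer.Basic
import Mathlib.GroupTheory.SpecificGroups.Alternating
import Mathlib.GroupTheory.Perm.Fin

/-!
Involution centralisers of the alternating group of degree 7.
-/

set_option autoImplicit false

namespace CfsgLib.GW.Overgroup

open Equiv Subgroup

/-- The standard involution. -/
def a7 : Perm (Fin 7) := swap 0 1 * swap 2 3

/-- The standard 3-cycle commuting with it. -/
def x7 : Perm (Fin 7) := swap 4 5 * swap 5 6

/-- A witness of even order. -/
abbrev EvenWit (w : Perm (Fin 7)) : Prop := (w ^ 4 = 1 ∧ w ≠ 1) ∨ (w ^ 6 = 1 ∧ w ^ 3 ≠ 1)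

theorem commute_a7_aux : ∀ p : Fin 7, ∀ e : Perm (Fin 6), Perm.decomposeFin.symm (p, e) * a7 = a7 * Perm.decomposeFin.symm (p, e) →
    ((Perm.decomposeFin.symm (p, e)) ^ 12 = 1 ∧ (Perm.decomposeFin.symm (p, e)) ^ 3 ≠ 1) ∨ ((Perm.decomposeFin.symm (p, e)) ^ 3 = 1 ∧ ((Perm.decomposeFin.symm (p, e)) = 1 ∨ (Perm.decomposeFin.symm (p, e)) = x7 ∨ (Perm.decomposeFin.symm (p, e)) = x7 * x7)) := by
  decide +kernel
theorem commute_a7_cases (f : Perm (Fin 7)) (h : f * a7 = a7 * f) :
    (f ^ 12 = 1 ∧ f ^ 3 ≠ 1) ∨ (f ^ 3 = 1 ∧ (f = 1 ∨ f = x7 ∨ f = x7 * x7)) := by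
  obtain ⟨⟨p, e⟩, rfl⟩ := Perm.decomposeFin.symm.surjective f
  exact commute_a7_aux p e h

theorem pair_cases : ∀ p q : Fin 7, p < q → ∀ r s : Fin 7, r < s → p ≠ r → p ≠ s → q ≠ r → q ≠ s →
    swap p q * swap r s = a7 ∨
    EvenWit (swap p q * swap r s * a7) ∨
    EvenWit (swap p q * swap r s * a7 * (swap p q * swap r s * a7) * x7 *
      (swap p q * swap r s * a7)⁻¹ * x7⁻¹) := by
  decide +kernel

theorem not_odd_of_wit {w : Perm (Fin 7)} (h : EvenWit w) : ¬ Odd (orderOf w) := by
  intro ho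
  rcases h with ⟨h1, h2⟩ | ⟨h1, h2⟩
  · exact h2 (orderOf_eq_one_iff.1 (Nat.eq_one_of_dvd_coprimes
      ((Nat.coprime_two_right.2 ho).pow_right 2) dvd_rfl (orderOf_dvd_of_pow_eq_one h1)))
  · exact h2 (orderOf_dvd_iff_pow_eq_one.1
      ((Nat.coprime_two_right.2 ho).dvd_of_dvd_mul_left (orderOf_dvd_of_pow_eq_one h1 : _ ∣ 2 * 3)))

theorem a7_facts : Perm.sign a7 = 1 ∧ Perm.sign x7 = 1 ∧ x7 ^ 3 = 1 ∧ x7 * a7 = a7 * x7 ∧
    a7 * a7 = 1 := by
  decide +kernel

theorem pair_wit {p q r s : Fin 7} (h1 : p ≠ q) (h2 : r ≠ s) (h3 : p ≠ r) (h4 : p ≠ s)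
    (h5 : q ≠ r) (h6 : q ≠ s) : swap p q * swap r s = a7 ∨
    EvenWit (swap p q * swap r s * a7) ∨
    EvenWit (swap p q * swap r s * a7 * (swap p q * swap r s * a7) * x7 *
      (swap p q * swap r s * a7)⁻¹ * x7⁻¹) := by
  rcases h1.lt_or_gt with hp | hp <;> rcases h2.lt_or_gt with hr | hr
  · exact pair_cases p q hp r s hr h3 h4 h5 h6
  · rw [swap_comm r s]; exact pair_cases p q hp s r hr h4 h3 h6 h5
  · rw [swap_comm p q]; exact pair_cases q p hp r s hr h5 h6 h3 h4
  · rw [swap_comm p q, swap_comm r s]; exact pair_cases q p hp s r hr h6 h5 h4 h3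

theorem isConj_a7 (i : alternatingGroup (Fin 7)) (hi : orderOf i = 2) :
    ∃ c : alternatingGroup (Fin 7), MulAut.conj c i = ⟨a7, Perm.mem_alternatingGroup.2 a7_facts.1⟩ := by
  have hσ2 : orderOf (i : Perm (Fin 7)) = 2 := by rw [orderOf_coe, hi]
  haveI : Fact (Nat.Prime 2) := ⟨Nat.prime_two⟩
  obtain ⟨n, hn⟩ := Perm.cycleType_prime_order (σ := (i : Perm (Fin 7)))
    (by rw [hσ2]; exact Nat.prime_two)
  rw [hσ2] at hn
  have hs := (i : Perm (Fin 7)).sum_cycleType
  have hle : (i : Perm (Fin 7)).support.card ≤ 7 := by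
    simpa using (i : Perm (Fin 7)).support.card_le_univ
  have hsign := Perm.sign_of_cycleType (i : Perm (Fin 7))
  rw [Perm.mem_alternatingGroup.1 i.2] at hsign
  rw [hn, Multiset.sum_replicate, smul_eq_mul] at hs
  rw [hn, Multiset.sum_replicate, Multiset.card_replicate, smul_eq_mul] at hsign
  have hn1 : n = 1 := by
    rcases (show n = 0 ∨ n = 1 ∨ n = 2 by omega) with h | h | h <;> subst h
    · exact absurd hsign (by decide)
    · rfl
    · exact absurd hsign (by decide)
  subst hn1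
  have hct : a7.cycleType = Multiset.replicate 2 2 := by decide +kernel
  obtain ⟨c, hc⟩ := isConj_iff.1 (Perm.isConj_iff_cycleType_eq.2 (hn.trans hct.symm))
  rcases Int.units_eq_one_or (Perm.sign c) with h | h
  · exact ⟨⟨c, Perm.mem_alternatingGroup.2 h⟩, Subtype.ext hc⟩
  · refine ⟨⟨swap 4 5 * c, Perm.mem_alternatingGroup.2 (by
      rw [map_mul, h, Perm.sign_swap (by decide)]; rfl)⟩, Subtype.ext ?_⟩
    have h45 : swap 4 5 * a7 * (swap (4 : Fin 7) 5)⁻¹ = a7 := by decide +kernel
    show swap 4 5 * c * (i : Perm (Fin 7)) * (swap 4 5 * c)⁻¹ = a7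
    calc swap 4 5 * c * (i : Perm (Fin 7)) * (swap 4 5 * c)⁻¹
        = swap 4 5 * (c * (i : Perm (Fin 7)) * c⁻¹) * (swap (4 : Fin 7) 5)⁻¹ := by group
      _ = a7 := by rw [hc, h45]

theorem odd_commute_a7 {f : Perm (Fin 7)} (h : f * a7 = a7 * f) (ho : Odd (orderOf f)) :
    f ^ 3 = 1 ∧ (f = 1 ∨ f = x7 ∨ f = x7 * x7) := by
  rcases commute_a7_cases f h with ⟨h1, h2⟩ | h1
  · exact absurd (orderOf_dvd_iff_pow_eq_one.1 (((Nat.coprime_two_right.2 ho).pow_right 2
      ).dvd_of_dvd_mul_left (orderOf_dvd_of_pow_eq_one h1 : _ ∣ 2 ^ 2 * 3))) h2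
  · exact h1

/-- Elements of odd order commuting with an involution have cube one. -/
theorem alt7_odd {x i : alternatingGroup (Fin 7)} (hi : orderOf i = 2) (hx : Commute x i)
    (ho : Odd (orderOf x)) : x ^ 3 = 1 := by
  obtain ⟨c, hc⟩ := isConj_a7 i hi
  have h1 := (hx.map (MulAut.conj c).toMonoidHom).eq
  change MulAut.conj c x * MulAut.conj c i = MulAut.conj c i * MulAut.conj c x at h1
  rw [hc] at h1
  have h2 := (odd_commute_a7 (congrArg Subtype.val h1)
    (by rwa [orderOf_coe, MulEquiv.orderOf_eq])).1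
  apply (MulAut.conj c).injective
  rw [map_pow, map_one]
  exact Subtype.ext h2

/-- Two elements of odd order commuting with an involution commute. -/
theorem alt7_odd_comm {x y i : alternatingGroup (Fin 7)} (hi : orderOf i = 2) (hx : Commute x i)
    (hy : Commute y i) (hox : Odd (orderOf x)) (hoy : Odd (orderOf y)) : Commute x y := by
  obtain ⟨c, hc⟩ := isConj_a7 i hi
  have key : ∀ z : alternatingGroup (Fin 7), Commute z i → Odd (orderOf z) →
      ∃ k : ℕ, ((MulAut.conj c z : alternatingGroup (Fin 7)) : Perm (Fin 7)) = x7 ^ k := by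
    intro z hz hoz
    have h1 := (hz.map (MulAut.conj c).toMonoidHom).eq
    change MulAut.conj c z * MulAut.conj c i = MulAut.conj c i * MulAut.conj c z at h1
    rw [hc] at h1
    rcases (odd_commute_a7 (congrArg Subtype.val h1)
      (by rwa [orderOf_coe, MulEquiv.orderOf_eq])).2 with e | e | e
    · exact ⟨0, by rw [e, pow_zero]⟩
    · exact ⟨1, by rw [e, pow_one]⟩
    · exact ⟨2, by rw [e, pow_two]⟩
  obtain ⟨k, hk⟩ := key x hx hox
  obtain ⟨l, hl⟩ := key y hy hoy
  have : Commute (MulAut.conj c x) (MulAut.conj c y) := Subtype.ext (by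
    rw [Subgroup.coe_mul, Subgroup.coe_mul, hk, hl, ← pow_add, ← pow_add, add_comm])
  exact Commute.of_map (MulAut.conj c).injective this

section Index

variable {M : Type*} [Group M]

/-- A 2-nilpotent group is the product of its odd elements and any subgroup of odd index. -/
theorem le_of_odd_index [Finite M] {K C : Subgroup M} (hK : Cfsg.HasNormalPComplement 2 K)
    (hCK : C ≤ K) (hC : Odd (C.relIndex K)) (hodd : ∀ x ∈ K, Odd (orderOf x) → x ∈ C) : K = C := by
  have : Fact (Nat.Prime 2) := ⟨Nat.prime_two⟩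
  refine le_antisymm (fun x hx => ?_) hCK
  haveI := CfsgLib.Transfer.pResidual_normal (G := K) (p := 2)
  set R := Cfsg.pResidual 2 K with hR
  have hRC : R ≤ C.subgroupOf K := fun r hr => by
    rw [mem_subgroupOf]
    refine hodd _ r.2 ?_
    rw [orderOf_coe]
    exact Nat.coprime_two_right.1 ((CfsgLib.Transfer.mem_pResidual_iff hK r).1 hr)
  obtain ⟨k, hk⟩ := IsPGroup.iff_card.1
    (CfsgLib.Transfer.isPGroup_quotient_of_pResidual_le (G := K) (p := 2) (N := R) le_rfl)
  rw [← Subgroup.index_eq_card] at hk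
  have h1 : (C.subgroupOf K).index ∣ 2 ^ k := hk ▸ index_dvd_of_le hRC
  have h2 : (C.subgroupOf K).index = 1 :=
    Nat.eq_one_of_dvd_coprimes ((Nat.coprime_two_left.2 hC).pow_left k) h1
      (by rw [Subgroup.relIndex])
  have := index_eq_one.1 h2
  have hm : (⟨x, hx⟩ : K) ∈ C.subgroupOf K := by rw [this]; exact mem_top _
  exact mem_subgroupOf.1 hm

/-- In a group with one class of involutions their centralisers have odd index. -/
theorem odd_index_centralizer [Finite M] (hconj : ∀ i j : M, orderOf i = 2 → orderOf j = 2 → IsConj i j)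
    {i : M} (hi : orderOf i = 2) : Odd (centralizer ({i} : Set M)).index := by
  classical
  have : Fact (Nat.Prime 2) := ⟨Nat.prime_two⟩
  obtain ⟨S⟩ := (inferInstance : Nonempty (Sylow 2 M))
  have hne : Nontrivial (S : Subgroup M) := by
    rw [← Finite.one_lt_card_iff_nontrivial]
    have : 2 ∣ Nat.card (S : Subgroup M) :=
      Sylow.dvd_card_of_dvd_card S (hi ▸ orderOf_dvd_natCard i)
    exact lt_of_lt_of_le one_lt_two (Nat.le_of_dvd Nat.card_pos this)
  obtain ⟨z, hz⟩ := exists_prime_orderOf_dvd_card' 2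
    (show 2 ∣ Nat.card (center (S : Subgroup M)) by
      haveI := hne
      haveI := S.2.center_nontrivial
      obtain ⟨n, hn⟩ := IsPGroup.iff_card.1 (S.2.to_subgroup (center (S : Subgroup M)))
      have : 1 < Nat.card (center (S : Subgroup M)) := Finite.one_lt_card_iff_nontrivial.2 inferInstance
      rw [hn] at this ⊢
      exact dvd_pow_self 2 fun h => by simp [h] at this)
  have hz2 : orderOf ((z : (S : Subgroup M)) : M) = 2 := by rw [orderOf_coe, orderOf_coe, hz]
  obtain ⟨c, hc⟩ := isConj_iff.1 (hconj _ i hz2 hi)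
  have hle : ((S : Subgroup M).map (MulAut.conj c).toMonoidHom) ≤ centralizer ({i} : Set M) := by
    rintro _ ⟨s, hs, rfl⟩
    rw [mem_centralizer_singleton_iff, ← hc]
    show c * s * c⁻¹ * (c * z * c⁻¹) = c * z * c⁻¹ * (c * s * c⁻¹)
    have h := congrArg Subtype.val ((mem_center_iff.1 z.2) (⟨s, hs⟩ : (S : Subgroup M)))
    simp only [Subgroup.coe_mul] at h
    calc c * s * c⁻¹ * (c * z * c⁻¹) = c * (s * ((z : (S : Subgroup M)) : M)) * c⁻¹ := by group
      _ = c * (((z : (S : Subgroup M)) : M) * s) * c⁻¹ := by rw [h]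
      _ = _ := by group
  refine Nat.not_even_iff_odd.1 fun he => S.not_dvd_index ?_
  have h1 := (index_dvd_of_le hle)
  have h2 : ((S : Subgroup M).map (MulAut.conj c).toMonoidHom).index = (S : Subgroup M).index :=
    index_map_equiv (S : Subgroup M) (MulAut.conj c)
  exact h2 ▸ (even_iff_two_dvd.1 he).trans h1

end Index

/-- A subgroup with a normal 2-complement containing an involution centraliser lies in it. -/
theorem alt7_overgroup : ∀ i : alternatingGroup (Fin 7), orderOf i = 2 →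
    ∀ K : Subgroup (alternatingGroup (Fin 7)), Cfsg.HasNormalPComplement 2 K →
    centralizer ({i} : Set (alternatingGroup (Fin 7))) ≤ K →
    K ≤ centralizer ({i} : Set (alternatingGroup (Fin 7))) := by
  intro i hi K hK hle
  obtain ⟨c, hc⟩ := isConj_a7 i hi
  haveI : Fact (Nat.Prime 2) := ⟨Nat.prime_two⟩
  haveI := CfsgLib.Transfer.pResidual_normal (G := K) (p := 2)
  have hres : ∀ r : K, r ∈ Cfsg.pResidual 2 K ↔ Odd (orderOf (r : alternatingGroup (Fin 7))) :=
    fun r => by rw [orderOf_coe, CfsgLib.Transfer.mem_pResidual_iff hK, Nat.coprime_two_right]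
  have hiC : i ∈ centralizer ({i} : Set (alternatingGroup (Fin 7))) :=
    mem_centralizer_singleton_iff.2 rfl
  obtain ⟨X, hX⟩ := (MulAut.conj c).surjective ⟨x7, Perm.mem_alternatingGroup.2 a7_facts.2.1⟩
  have hXi : Commute X i := by
    apply (MulAut.conj c).injective
    rw [map_mul, map_mul, hX, hc]
    exact Subtype.ext a7_facts.2.2.2.1
  have hXo : Odd (orderOf X) := by
    have h3 : orderOf X ∣ 3 := orderOf_dvd_of_pow_eq_one (by
      apply (MulAut.conj c).injective
      rw [map_pow, map_one, hX]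
      exact Subtype.ext a7_facts.2.2.1)
    exact (show Odd 3 by decide).of_dvd_nat h3
  -- odd elements of `K` centralise `i`
  have hoddC : ∀ r : K, r ∈ Cfsg.pResidual 2 K → Commute (r : alternatingGroup (Fin 7)) i := by
    intro r hr
    set ri : K := ⟨i, hle hiC⟩
    set xk : K := ⟨X, hle (mem_centralizer_singleton_iff.2 hXi.eq)⟩
    set s : K := r * ri * r⁻¹ * ri with hs
    have hs' : s ∈ Cfsg.pResidual 2 K := by
      have h1 := mul_mem hr ((inferInstance : (Cfsg.pResidual 2 K).Normal).conj_mem _ (inv_mem hr) ri)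
      have hii : ri⁻¹ = ri := Subtype.ext (inv_eq_of_mul_eq_one_right (by
        show i * i = 1
        have := pow_orderOf_eq_one i
        rwa [hi, pow_two] at this))
      rw [hii] at h1
      rw [hs]
      simpa [mul_assoc] using h1
    have hx' : xk ∈ Cfsg.pResidual 2 K := (hres xk).2 hXo
    have hw : s * s * xk * s⁻¹ * xk⁻¹ ∈ Cfsg.pResidual 2 K :=
      mul_mem (mul_mem (mul_mem (mul_mem hs' hs') hx') (inv_mem hs')) (inv_mem hx')
    let ψ : alternatingGroup (Fin 7) →* Perm (Fin 7) :=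
      (alternatingGroup (Fin 7)).subtype.comp (MulAut.conj c).toMonoidHom
    have hψinj : Function.Injective ψ := Subtype.val_injective.comp (MulAut.conj c).injective
    have hψi : ψ i = a7 := congrArg Subtype.val hc
    have hψX : ψ X = x7 := congrArg Subtype.val hX
    set d := ψ (r : alternatingGroup (Fin 7)) with hd
    have hconj : d * a7 * d⁻¹ = swap (d 0) (d 1) * swap (d 2) (d 3) := by
      rw [a7, swap_apply_apply, swap_apply_apply]
      group
    have hne : ∀ m n : Fin 7, m ≠ n → d m ≠ d n := fun m n h e => h (d.injective e)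
    have hψs : ψ s = d * a7 * d⁻¹ * a7 := by
      rw [hs, Subgroup.coe_mul, Subgroup.coe_mul, Subgroup.coe_mul, Subgroup.coe_inv, map_mul, map_mul,
        map_mul, map_inv, hψi]
    have hodd : ∀ z : K, z ∈ Cfsg.pResidual 2 K → Odd (orderOf (ψ z)) := fun z hz => by
      rw [orderOf_injective ψ hψinj]
      exact (hres z).1 hz
    rcases pair_wit (hne 0 1 (by decide)) (hne 2 3 (by decide)) (hne 0 2 (by decide))
      (hne 0 3 (by decide)) (hne 1 2 (by decide)) (hne 1 3 (by decide)) with h | h | h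
    · rw [← hconj, mul_inv_eq_iff_eq_mul] at h
      apply hψinj
      rw [map_mul, map_mul, hψi, ← hd]
      exact h
    · refine absurd (hodd s hs') (not_odd_of_wit ?_)
      rwa [hψs, hconj]
    · refine absurd (hodd _ hw) (not_odd_of_wit ?_)
      simp only [Subgroup.coe_mul, Subgroup.coe_inv, map_mul, map_inv]
      rwa [hψs, show (xk : alternatingGroup (Fin 7)) = X from rfl, hψX, hconj]
  have hconj : ∀ a b : alternatingGroup (Fin 7), orderOf a = 2 → orderOf b = 2 → IsConj a b :=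
    fun a b ha hb => by
      obtain ⟨u, hu⟩ := isConj_a7 a ha
      obtain ⟨v, hv⟩ := isConj_a7 b hb
      exact (isConj_iff.2 ⟨u, hu⟩).trans (isConj_iff.2 ⟨v, hv⟩).symm
  refine le_of_eq (le_of_odd_index hK hle
    ((odd_index_centralizer hconj hi).of_dvd_nat (relIndex_dvd_index_of_le hle)) fun x hx hxo =>
      mem_centralizer_singleton_iff.2 (hoddC ⟨x, hx⟩ ((hres _).2 hxo)).eq)

end CfsgLib.GW.Overgroup
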