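import Cfsg.Agent.Lib.GW.CompFacts
import Cfsg.Agent.Lib.GW.ShapeOvergroupAlt
import Cfsg.Agent.Lib.GW.NilpCombine

/-!
The component facts, and with them the theorem on nilpotent overgroups of involution centralisers.
-/

set_option autoImplicit false

namespace CfsgLib.GW

universe u

theorem comp_stmt : Nilp.CompStmt.{u} :=
  Nilp.compStmt_of_alt fun i hi K h2 hle => Overgroup.alt7_overgroup i hi K h2 hle

/-- A3. -/
theorem nilpotentOvergroup_stmt : NilpotentOvergroupStmt.{u} :=
  nilpotentOvergroup_of_comp comp_stmt

end CfsgLib.GW
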