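import Cfsg.Agent.Lib.GW.Defs
import Cfsg.Agent.S0514
import Cfsg.Agent.Lib.Solvable.Fitting
import Cfsg.Agent.Lib.Solvable.PCore
import Cfsg.Agent.Lib.InvChar.BSWDihedral

/-!
Basic facts on a minimal counterexample to the theorem of Gorenstein and Walter.
-/

set_option autoImplicit false
set_option linter.unusedSectionVars false
set_option linter.style.haveILetI false

namespace CfsgLib.GW

open Subgroup CfsgLib.Invol

universe u

variable {G : Type u} [Group G]

theorem mem_cI {a x : G} : x ∈ cI a ↔ x * a = a * x := mem_centralizer_singleton_iff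

theorem self_mem_cI (a : G) : a ∈ cI a := mem_cI.2 rfl

theorem coreC_le_cI (a : G) : coreC a ≤ cI a := map_subtype_le _

theorem fitC_le_coreC (a : G) : fitC a ≤ coreC a := map_subtype_le _

theorem fitC_le_cI (a : G) : fitC a ≤ cI a := (fitC_le_coreC a).trans (coreC_le_cI a)

theorem fitP_le_coreC (a : G) (p : ℕ) : fitP a p ≤ coreC a := map_subtype_le _

theorem fitP_le_cI (a : G) (p : ℕ) : fitP a p ≤ cI a := (fitP_le_coreC a p).trans (coreC_le_cI a)

theorem cI_conj (a x : G) : (cI a).map (MulAut.conj x).toMonoidHom = cI (x * a * x⁻¹) := by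
  refine le_antisymm ?_ fun z hz => ?_
  · rintro _ ⟨z, hz, rfl⟩
    refine mem_cI.2 ?_
    show x * z * x⁻¹ * (x * a * x⁻¹) = x * a * x⁻¹ * (x * z * x⁻¹)
    calc x * z * x⁻¹ * (x * a * x⁻¹) = x * (z * a) * x⁻¹ := by group
      _ = x * (a * z) * x⁻¹ := by rw [mem_cI.1 hz]
      _ = _ := by group
  · refine ⟨x⁻¹ * z * x, mem_cI.2 ?_, ?_⟩
    · calc x⁻¹ * z * x * a = x⁻¹ * (z * (x * a * x⁻¹)) * x := by group
        _ = x⁻¹ * ((x * a * x⁻¹) * z) * x := by rw [mem_cI.1 hz]
        _ = _ := by group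
    · show x * (x⁻¹ * z * x) * x⁻¹ = z
      group

/-- Characteristic subgroups of a subgroup are moved along with it. -/
theorem map_char_conj (F : ∀ (H : Subgroup G), Subgroup H) (x : G)
    (hF : ∀ H : Subgroup G, (F H).map ((MulAut.conj x).subgroupMap H).toMonoidHom =
      F (H.map (MulAut.conj x).toMonoidHom))
    {H K : Subgroup G} (hHK : H.map (MulAut.conj x).toMonoidHom = K) :
    ((F H).map H.subtype).map (MulAut.conj x).toMonoidHom = (F K).map K.subtype := by
  subst hHK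
  ext z
  constructor
  · rintro ⟨_, ⟨y, hy, rfl⟩, rfl⟩
    exact ⟨(MulAut.conj x).subgroupMap H y, (hF H).le ⟨y, hy, rfl⟩, rfl⟩
  · rintro ⟨y', hy', rfl⟩
    obtain ⟨y, hy, rfl⟩ := (hF H).ge hy'
    exact ⟨_, ⟨y, hy, rfl⟩, rfl⟩

theorem map_oddCore {H K : Type u} [Group H] [Group K] [Finite H] (e : H ≃* K) :
    (Cfsg.oddCore H).map e.toMonoidHom = Cfsg.oddCore K := by
  haveI : Finite K := Finite.of_equiv H e.toEquiv
  have h : ∀ {H K : Type u} [Group H] [Group K] [Finite H] (e : H ≃* K),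
      (Cfsg.oddCore H).map e.toMonoidHom ≤ Cfsg.oddCore K := fun {H K} _ _ _ e => by
    refine CfsgLib.Solvable.le_pPrimeCore ((CfsgLib.Solvable.pPrimeCore_normal 2 H).map _ e.surjective) ?_
    rw [card_map_of_injective (f := e.toMonoidHom) e.injective]
    exact CfsgLib.Solvable.pPrimeCore_coprime 2
  exact le_antisymm (h e) fun y hy => ⟨e.symm y, h e.symm ⟨y, hy, rfl⟩, e.apply_symm_apply y⟩

theorem map_fitting {H K : Type u} [Group H] [Group K] (e : H ≃* K) :
    (Cfsg.fittingSubgroup H).map e.toMonoidHom = Cfsg.fittingSubgroup K := by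
  have h : ∀ {H K : Type u} [Group H] [Group K] (e : H ≃* K),
      (Cfsg.fittingSubgroup H).map e.toMonoidHom ≤ Cfsg.fittingSubgroup K := fun {H K} _ _ e => by
    rw [map_le_iff_le_comap]
    refine sSup_le fun N hN => map_le_iff_le_comap.1 ?_
    obtain ⟨hn, hnil⟩ := hN
    exact le_sSup ⟨hn.map _ e.surjective,
      (Group.isNilpotent_congr (N.equivMapOfInjective e.toMonoidHom e.injective)).1 hnil⟩
  exact le_antisymm (h e) fun y hy => ⟨e.symm y, h e.symm ⟨y, hy, rfl⟩, e.apply_symm_apply y⟩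

theorem map_pCore (p : ℕ) {H K : Type u} [Group H] [Group K] (e : H ≃* K) :
    (Cfsg.pCore p H).map e.toMonoidHom = Cfsg.pCore p K := by
  have h : ∀ {H K : Type u} [Group H] [Group K] (e : H ≃* K),
      (Cfsg.pCore p H).map e.toMonoidHom ≤ Cfsg.pCore p K := fun {H K} _ _ e => by
    rw [map_le_iff_le_comap]
    refine sSup_le fun N hN => map_le_iff_le_comap.1 ?_
    exact le_sSup ⟨hN.1.map _ e.surjective, hN.2.map _⟩
  exact le_antisymm (h e) fun y hy => ⟨e.symm y, h e.symm ⟨y, hy, rfl⟩, e.apply_symm_apply y⟩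

theorem coreC_conj [Finite G] (a x : G) :
    (coreC a).map (MulAut.conj x).toMonoidHom = coreC (x * a * x⁻¹) :=
  map_char_conj (fun H => Cfsg.oddCore H) x
    (fun H => map_oddCore ((MulAut.conj x).subgroupMap H)) (cI_conj a x)

theorem fitC_conj [Finite G] (a x : G) :
    (fitC a).map (MulAut.conj x).toMonoidHom = fitC (x * a * x⁻¹) :=
  map_char_conj (fun H => Cfsg.fittingSubgroup H) x
    (fun H => map_fitting ((MulAut.conj x).subgroupMap H)) (coreC_conj a x)

theorem fitP_conj [Finite G] (a x : G) (p : ℕ) :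
    (fitP a p).map (MulAut.conj x).toMonoidHom = fitP (x * a * x⁻¹) p :=
  map_char_conj (fun H => Cfsg.pCore p H) x
    (fun H => map_pCore p ((MulAut.conj x).subgroupMap H)) (coreC_conj a x)

theorem conj_eq_self {a x : G} (hx : x ∈ cI a) : x * a * x⁻¹ = a := by
  rw [mem_cI.1 hx, mul_inv_cancel_right]

theorem conj_mem_coreC [Finite G] {a x y : G} (hx : x ∈ cI a) (hy : y ∈ coreC a) :
    x * y * x⁻¹ ∈ coreC a := by
  have h : (coreC a).map (MulAut.conj x).toMonoidHom = coreC a := by rw [coreC_conj, conj_eq_self hx]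
  exact h ▸ ⟨y, hy, rfl⟩

theorem conj_mem_fitC [Finite G] {a x y : G} (hx : x ∈ cI a) (hy : y ∈ fitC a) : x * y * x⁻¹ ∈ fitC a := by
  have h : (fitC a).map (MulAut.conj x).toMonoidHom = fitC a := by rw [fitC_conj, conj_eq_self hx]
  exact h ▸ ⟨y, hy, rfl⟩

theorem conj_mem_fitP [Finite G] {a x y : G} {p : ℕ} (hx : x ∈ cI a) (hy : y ∈ fitP a p) :
    x * y * x⁻¹ ∈ fitP a p := by
  have h : (fitP a p).map (MulAut.conj x).toMonoidHom = fitP a p := by rw [fitP_conj, conj_eq_self hx]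
  exact h ▸ ⟨y, hy, rfl⟩

theorem cI_le_normalizer_coreC [Finite G] (a : G) : cI a ≤ normalizer (coreC a : Set G) :=
  fun _ hx => mem_normalizer_iff_of_finite fun _ hy => conj_mem_coreC hx hy

theorem cI_le_normalizer_fitC [Finite G] (a : G) : cI a ≤ normalizer (fitC a : Set G) :=
  fun _ hx => mem_normalizer_iff_of_finite fun _ hy => conj_mem_fitC hx hy

theorem cI_le_normalizer_fitP [Finite G] (a : G) (p : ℕ) : cI a ≤ normalizer (fitP a p : Set G) :=
  fun _ hx => mem_normalizer_iff_of_finite fun _ hy => conj_mem_fitP hx hy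

theorem fitP_le_fitC [Finite G] (a : G) (p : ℕ) [Fact p.Prime] : fitP a p ≤ fitC a :=
  map_mono (CfsgLib.Solvable.pCore_le_fittingSubgroup p)

theorem isPGroup_fitP [Finite G] (a : G) (p : ℕ) [Fact p.Prime] : IsPGroup p (fitP a p) :=
  (CfsgLib.Solvable.pCore_isPGroup (G := ↥(coreC a)) p).map _

theorem odd_coreC [Finite G] (a : G) : Odd (Nat.card (coreC a)) := by
  show Odd (Nat.card ((Cfsg.oddCore (centralizer ({a} : Set G))).map _ : Subgroup G))
  rw [card_map_of_injective (subtype_injective _)]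
  exact Nat.coprime_two_right.1 (CfsgLib.Solvable.pPrimeCore_coprime 2)

theorem odd_orderOf_mem_coreC [Finite G] {a x : G} (hx : x ∈ coreC a) : Odd (orderOf x) :=
  (odd_coreC a).of_dvd_nat (Subgroup.orderOf_dvd_natCard _ hx)

theorem dihEquiv {S : Type*} [Group S] (D : DihData S) :
    Nonempty (S ≃* DihedralGroup (2 * D.h)) := by
  haveI : NeZero (2 * D.h) := ⟨by have := D.h_pos; omega⟩
  haveI : Finite S := Nat.finite_of_card_ne_zero (by rw [D.card_eq]; have := D.h_pos; omega)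
  let f : DihedralGroup (2 * D.h) → S := fun x => match x with
    | .r i => D.r ^ (i.val : ℤ)
    | .sr i => D.r ^ (-(i.val : ℤ)) * D.s
  have hr : ∀ i j : ℤ, ((i : ZMod (2 * D.h)) = (j : ZMod (2 * D.h))) → D.r ^ i = D.r ^ j := by
    intro i j h
    rw [D.zpow_eq_iff]
    exact_mod_cast (ZMod.intCast_eq_intCast_iff_dvd_sub i j (2 * D.h)).1 h
  have hmul : ∀ x y, f (x * y) = f x * f y := by
    rintro (i | i) (j | j)
    · show D.r ^ (((i + j : ZMod (2 * D.h)).val : ℤ)) = _ * _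
      rw [← zpow_add]
      exact hr _ _ (by simp)
    · show D.r ^ (-((j - i : ZMod (2 * D.h)).val : ℤ)) * D.s = _ * _
      rw [← mul_assoc, ← zpow_add]
      congr 1
      exact hr _ _ (by simp [sub_eq_add_neg] <;> ring)
    · show D.r ^ (-((i + j : ZMod (2 * D.h)).val : ℤ)) * D.s = _ * _
      rw [D.zy_mul_z]
      congr 1
      exact hr _ _ (by simp <;> ring)
    · show D.r ^ (((j - i : ZMod (2 * D.h)).val : ℤ)) = _ * _
      rw [D.zy_mul_zy]
      exact hr _ _ (by simp [sub_eq_add_neg] <;> ring)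
  have hsurj : Function.Surjective f := fun u => by
    rcases D.cases u with ⟨i, rfl⟩ | ⟨i, rfl⟩
    · exact ⟨.r (i : ZMod (2 * D.h)), hr _ _ (by simp)⟩
    · refine ⟨.sr (-(i : ZMod (2 * D.h))), ?_⟩
      show D.r ^ (-(_ : ℤ)) * D.s = _
      congr 1
      exact hr _ _ (by simp)
  have hbij : Function.Bijective f := (Nat.bijective_iff_surjective_and_card f).2
    ⟨hsurj, by rw [DihedralGroup.nat_card, D.card_eq]; ring⟩
  exact ⟨(MulEquiv.ofBijective (MonoidHom.mk' f hmul) hbij).symm⟩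

variable [Finite G]

theorem Min.normalizer_ne_top (M : Min G) {Q : Subgroup G} (h : Q ≠ ⊥) (h' : Q ≠ ⊤) :
    normalizer (Q : Set G) ≠ ⊤ := fun e => by
  haveI := M.simple
  exact (IsSimpleGroup.eq_bot_or_eq_top_of_normal Q (normalizer_eq_top_iff.1 e)).elim h h'

theorem Min.cI_ne_top (M : Min G) {a : G} (ha : a ≠ 1) : cI a ≠ ⊤ := fun e => by
  haveI := M.simple
  have hz : a ∈ center G := mem_center_iff.2 fun x => mem_cI.1 (e ▸ mem_top x)
  rcases IsSimpleGroup.eq_bot_or_eq_top_of_normal (center G) inferInstance with h | h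
  · rw [h, mem_bot] at hz
    exact ha hz
  · exact M.noncomm (center_eq_top_iff.1 h)

theorem Min.no_index_two (M : Min G) (H : Subgroup G) : H.index ≠ 2 := fun h => by
  haveI := M.simple
  haveI := normal_of_index_eq_two h
  rcases IsSimpleGroup.eq_bot_or_eq_top_of_normal H inferInstance with e | e
  · rw [e, index_bot] at h
    haveI : Fact (Nat.Prime 2) := ⟨Nat.prime_two⟩
    haveI := isCyclic_of_prime_card (p := 2) h
    exact M.noncomm IsCyclic.isMulCommutative
  · rw [e, index_top] at h; omega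

theorem Min.one_class (M : Min G) {a b : G} (ha : orderOf a = 2) (hb : orderOf b = 2) :
    IsConj a b := by
  obtain ⟨T⟩ := (inferInstance : Nonempty (Sylow 2 G))
  obtain ⟨D⟩ := M.dih T
  exact one_class_of_no_index_two T D M.no_index_two a b ha hb

/-- A central Sylow subgroup over an involution. -/
theorem Min.exists_sylow (M : Min G) {a : G} (ha : orderOf a = 2) :
    ∃ T : Sylow 2 G, a ∈ (T : Subgroup G) ∧ (T : Subgroup G) ≤ cI a := by
  obtain ⟨T⟩ := (inferInstance : Nonempty (Sylow 2 G))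
  obtain ⟨D⟩ := M.dih T
  have hz : orderOf (dz T D) = 2 := (Subgroup.orderOf_coe _).trans D.orderOf_z
  obtain ⟨x, rfl⟩ := isConj_iff.1 (M.one_class hz ha)
  refine ⟨x • T, ⟨_, SetLike.coe_mem _, rfl⟩, ?_⟩
  rintro _ ⟨w, hw, rfl⟩
  refine mem_cI.2 ?_
  show x * w * x⁻¹ * (x * dz T D * x⁻¹) = x * dz T D * x⁻¹ * (x * w * x⁻¹)
  calc x * w * x⁻¹ * (x * dz T D * x⁻¹) = x * (w * dz T D) * x⁻¹ := by group
    _ = x * (dz T D * w) * x⁻¹ := by rw [(dz_commute T D hw).eq]
    _ = _ := by group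

/-- The elements of odd order of the centralizer of an involution lie in its core. -/
theorem Min.mem_coreC (M : Min G) {a x : G} (ha : orderOf a = 2) (hx : x ∈ cI a)
    (hodd : Odd (orderOf x)) : x ∈ coreC a := by
  obtain ⟨T⟩ := (inferInstance : Nonempty (Sylow 2 G))
  obtain ⟨D⟩ := M.dih T
  obtain ⟨e⟩ := dihEquiv D
  obtain ⟨N, hN, hNo, k, hk⟩ :=
    Cfsg.Agent.S0514.result T (2 * D.h) (by have := D.h_pos; omega) ⟨e⟩ a ha
  refine ⟨⟨x, hx⟩, CfsgLib.Solvable.le_pPrimeCore hN (Nat.coprime_two_right.2 hNo) ?_, rfl⟩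
  haveI := hN
  rw [← QuotientGroup.eq_one_iff]
  refine orderOf_eq_one_iff.1 (Nat.eq_one_of_dvd_coprimes (a := orderOf x) (b := N.index) ?_ ?_ ?_)
  · rw [hk]; exact (Nat.coprime_two_right.2 hodd).pow_right k
  · have h := orderOf_map_dvd (QuotientGroup.mk' N) (⟨x, hx⟩ : cI a)
    rwa [orderOf_mk] at h
  · rw [Subgroup.index_eq_card]; exact orderOf_dvd_natCard _

theorem Min.inf_cI_eq (M : Min G) {a b : G} (hb : orderOf b = 2) :
    coreC a ⊓ cI b = coreC a ⊓ coreC b :=
  le_antisymm (fun _ hx => ⟨hx.1, M.mem_coreC hb hx.2 (odd_orderOf_mem_coreC hx.1)⟩)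
    (inf_le_inf_left _ (coreC_le_cI b))

theorem Four.rot {a b g : G} (h : Four a b g) : Four b (a * b) g where
  ha := h.hb
  hb := by rw [← h.gb, orderOf_conj_eq]; exact h.hb
  hab := fun e => invol_ne_one h.ha (mul_eq_right.1 e.symm)
  comm := by
    calc b * (a * b) = b * a * b := (mul_assoc _ _ _).symm
      _ = a * b * b := by rw [h.comm]
  ga := h.gb
  gb := by
    have e : b * (a * b) = a := by
      rw [← mul_assoc, ← h.comm, mul_assoc, invol_mul_self h.hb, mul_one]
    rw [h.gab, e]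
  gab := by
    have e : b * (a * b) = a := by
      rw [← mul_assoc, ← h.comm, mul_assoc, invol_mul_self h.hb, mul_one]
    rw [e, h.ga]

/-- The rotation normalizes the common core of the centralizers. -/
theorem Four.rot_core {a b g : G} (M : Min G) (h : Four a b g) {x : G}
    (hx : x ∈ coreC a ⊓ coreC b) : g * x * g⁻¹ ∈ coreC a ⊓ coreC b := by
  have h1 : g * x * g⁻¹ ∈ coreC b := by
    rw [← h.ga, ← coreC_conj]; exact ⟨x, hx.1, rfl⟩
  have h2 : g * x * g⁻¹ ∈ coreC (a * b) := by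
    rw [← h.gb, ← coreC_conj]; exact ⟨x, hx.2, rfl⟩
  refine ⟨M.mem_coreC h.ha ?_ (odd_orderOf_mem_coreC h1), h1⟩
  have e1 := mem_cI.1 (coreC_le_cI _ h1)
  have e2 := mem_cI.1 (coreC_le_cI _ h2)
  refine mem_cI.2 ?_
  have ea : a = a * b * b := by rw [mul_assoc, invol_mul_self h.hb, mul_one]
  calc g * x * g⁻¹ * a = g * x * g⁻¹ * (a * b) * b := by rw [mul_assoc _ (a * b) b, ← ea]
    _ = a * b * (g * x * g⁻¹ * b) := by rw [e2, mul_assoc]
    _ = a * b * b * (g * x * g⁻¹) := by rw [e1, ← mul_assoc]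
    _ = _ := by rw [← ea]

/-- Two commuting involutions, one of them central in a Sylow subgroup, with a rotation. -/
theorem Min.exists_four (M : Min G) (T : Sylow 2 G) {a s : G} (ha : orderOf a = 2)
    (haT : a ∈ (T : Subgroup G)) (hc : (T : Subgroup G) ≤ cI a) (hs : orderOf s = 2)
    (hsT : s ∈ (T : Subgroup G)) (hne : s ≠ a) : ∃ g, Four a s g := by
  classical
  obtain ⟨D₀⟩ := M.dih T
  obtain ⟨D, hD⟩ := CfsgLib.InvChar.BSW.exists_dihData_central D₀ ⟨a, haT⟩
    (by rw [orderOf_mk, ha]) fun w => Subtype.ext (mem_cI.1 (hc w.2))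
  have hza : dz T D = a := congrArg Subtype.val hD
  obtain ⟨j, hj⟩ : ∃ j, dt T D j = s := by
    rcases D.invol_cases (u := ⟨s, hsT⟩) (by rw [orderOf_mk, hs]) with e | ⟨i, e⟩
    · exact absurd ((congrArg Subtype.val e : s = dz T D).trans hza) hne
    · exact ⟨i, (congrArg Subtype.val e).symm⟩
  have comm : a * s = s * a := (mem_cI.1 (hc hsT)).symm
  have hass : a * s * a⁻¹ = s := by rw [comm, mul_inv_cancel_right]
  have cm : ∀ g u v : G, g * (u * v) * g⁻¹ = g * u * g⁻¹ * (g * v * g⁻¹) := fun g u v => by group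
  have mk : ∀ g : G, g * a * g⁻¹ = s → g * s * g⁻¹ = a * s → ∃ g, Four a s g := fun g h1 h2 =>
    ⟨g, ha, hs, hne.symm, comm, h1, h2, by
      rw [cm, h1, h2, comm, ← mul_assoc, invol_mul_self hs, one_mul]⟩
  obtain ⟨y, hy⟩ := isConj_iff.1 (M.one_class hs ha)
  set U := dU T D j
  have hU : ∀ u, u ∈ U → u = 1 ∨ u = a ∨ u = s ∨ u = a * s := by
    rintro _ ⟨w, hw, rfl⟩
    obtain rfl | rfl | rfl | rfl := hw
    · exact Or.inl rfl
    · exact Or.inr (Or.inl hza)
    · exact Or.inr (Or.inr (Or.inl hj))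
    · refine Or.inr (Or.inr (Or.inr ?_))
      rw [← hza, ← hj]; rfl
  haveI : Fact (Nat.Prime 2) := ⟨Nat.prime_two⟩
  have hUT : U ≤ (T : Subgroup G) := map_subtype_le _
  have haU : a ∈ U := ⟨D.z, Or.inr (Or.inl rfl), hza⟩
  have hsU : s ∈ U := ⟨_, Or.inr (Or.inr (Or.inl rfl)), hj⟩
  obtain ⟨k, hk, hkU⟩ := exists_conj_extend T (a := a) (b := s) (g := y)
    (fun w hw => (mem_cI.1 (hc hw)).symm) hy (H := U) (T.2.to_le hUT) (by
      intro u hu
      rcases hU u hu with rfl | rfl | rfl | rfl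
      · exact Commute.one_left _
      · exact comm
      · exact Commute.refl _
      · exact Commute.mul_left comm (Commute.refl _))
  rcases Nat.lt_or_ge D.h 2 with hh | hh
  · -- four-group Sylow subgroup: a conjugating element is odd on the four-group
    have hh1 : D.h = 1 := by have := D.h_pos; omega
    have hTU : (T : Subgroup G) = U := (eq_of_le_of_card_ge hUT
      (by rw [(dU_isKleinFour T D j).card_four, D.card_eq, hh1])).symm
    have hkN : k ∈ normalizer (U : Set G) :=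
      mem_normalizer_iff_of_finite fun u hu => hTU ▸ hkU u hu
    -- `k` sends `s` to `a`
    have hkne : k * a * k⁻¹ ≠ a := fun e => by
      exact hne.symm ((MulAut.conj k).injective (e.trans hk.symm : MulAut.conj k a = MulAut.conj k s))
    have hk1 : k * a * k⁻¹ ≠ 1 := fun e => invol_ne_one ha (conj_eq_one_iff.1 e)
    rcases hU _ ((mem_normalizer_iff.1 hkN a).1 haU) with e | e | e | e
    · exact absurd e hk1
    · exact absurd e hkne
    · -- a transposition is impossible
      exfalso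
      set m := orderOf k
      obtain ⟨i, l, hl, hkl⟩ : ∃ i l, Odd l ∧ orderOf k = 2 ^ i * l := by
        obtain ⟨i, l, hl, hkl⟩ := Nat.exists_eq_two_pow_mul_odd (orderOf_pos k).ne'
        exact ⟨i, l, hl, hkl⟩
      have h2 : k ^ 2 * a * (k ^ 2)⁻¹ = a := by
        rw [pow_two, mul_inv_rev, show k * k * a * (k⁻¹ * k⁻¹) = k * (k * a * k⁻¹) * k⁻¹ by group, e, hk]
      have h2s : k ^ 2 * s * (k ^ 2)⁻¹ = s := by
        rw [pow_two, mul_inv_rev, show k * k * s * (k⁻¹ * k⁻¹) = k * (k * s * k⁻¹) * k⁻¹ by group, hk, e]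
      obtain ⟨l', hl'⟩ := hl
      set w := k ^ l
      have hpow : ∀ q : ℕ, ∀ z : G, k ^ 2 * z * (k ^ 2)⁻¹ = z →
          k ^ (2 * q) * z * (k ^ (2 * q))⁻¹ = z := by
        intro q z hz
        have hcz : Commute (k ^ 2) z := mul_inv_eq_iff_eq_mul.1 hz
        rw [pow_mul, (hcz.pow_left q).eq, mul_inv_cancel_right]
      have hwa : w * a * w⁻¹ = s := by
        rw [show w = k * k ^ (2 * l') by show k ^ l = _; rw [hl', pow_succ'], mul_inv_rev,
          show k * k ^ (2 * l') * a * ((k ^ (2 * l'))⁻¹ * k⁻¹) =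
            k * (k ^ (2 * l') * a * (k ^ (2 * l'))⁻¹) * k⁻¹ by group, hpow l' a h2, e]
      have hwN : w ∈ normalizer ((T : Subgroup G) : Set G) := hTU ▸ pow_mem hkN l
      have hw1 : w ^ 2 ^ i = 1 := by
        rw [← pow_mul, mul_comm, ← hkl]; exact pow_orderOf_eq_one k
      have hwT : w ∈ (T : Subgroup G) := by
        have hz : IsPGroup 2 (zpowers w) := by
          obtain ⟨q, -, hq⟩ := (Nat.dvd_prime_pow Nat.prime_two).1 (orderOf_dvd_of_pow_eq_one hw1)
          exact IsPGroup.of_card (n := q) (by rw [Nat.card_zpowers, hq])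
        have hle : (T : Subgroup G) ⊔ zpowers w = T :=
          T.3 (T.2.to_sup_of_normal_left' hz (zpowers_le.2 hwN)) le_sup_left
        exact hle ▸ mem_sup_right (mem_zpowers w)
      rw [mem_cI.1 (hc hwT), mul_inv_cancel_right] at hwa
      exact hne hwa.symm
    · -- `k` is a rotation `s ↦ a ↦ a s`; take its inverse
      refine mk k⁻¹ ?_ ?_
      · rw [← hk]; group
      · have h3 : k * (a * s) * k⁻¹ = s := by
          rw [cm, e, hk]
          rw [mul_assoc, ← comm, ← mul_assoc, invol_mul_self ha, one_mul]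
        calc k⁻¹ * s * k⁻¹⁻¹ = k⁻¹ * (k * (a * s) * k⁻¹) * k := by rw [h3, inv_inv]
          _ = a * s := by group
  · -- compose two involutory automorphisms of the four-group
    obtain ⟨e, he⟩ : 2 ∣ D.h := by
      obtain ⟨i, hi⟩ := D.h_pow
      rcases i with _ | i
      · rw [hi] at hh; simp at hh
      · exact hi ▸ dvd_pow_self 2 (Nat.succ_ne_zero i)
    set ρ : G := ((D.r ^ (e : ℤ) : (T : Subgroup G)) : G)
    have hρ : ∀ i, ρ * dt T D i * ρ⁻¹ = a * dt T D i := fun i => by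
      rw [← hza]
      refine congrArg Subtype.val (?_ : D.r ^ (e : ℤ) * (D.r ^ i * D.s) * (D.r ^ (e : ℤ))⁻¹
        = D.z * (D.r ^ i * D.s))
      rw [D.conj_refl, DihData.z, ← mul_assoc, ← zpow_add]
      congr 2; push_cast [he]; ring
    have hρa : ρ * a * ρ⁻¹ = a := conj_eq_self (hc (SetLike.coe_mem _))
    -- the image of `U` is again a four-group through `a`
    have hka : k * a * k⁻¹ ∈ (T : Subgroup G) := hkU a haU
    obtain ⟨i, hi⟩ : ∃ i, dt T D i = k * a * k⁻¹ := by
      rcases D.invol_cases (u := ⟨_, hka⟩) (by rw [orderOf_mk, orderOf_conj_eq, ha]) with e1 | ⟨i, e1⟩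
      · have h := (congrArg Subtype.val e1 : k * a * k⁻¹ = dz T D).trans (hza.trans hk.symm)
        exact absurd ((MulAut.conj k).injective (h : MulAut.conj k a = MulAut.conj k s)) hne.symm
      · exact ⟨i, (congrArg Subtype.val e1).symm⟩
    set β := k⁻¹ * ρ * k
    have hβs : β * s * β⁻¹ = s := by
      calc β * s * β⁻¹ = k⁻¹ * (ρ * (k * s * k⁻¹) * ρ⁻¹) * k := by simp only [β]; group
        _ = k⁻¹ * a * k := by rw [hk, hρa]
        _ = s := by rw [← hk]; group
    have hβa : β * a * β⁻¹ = a * s := by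
      calc β * a * β⁻¹ = k⁻¹ * (ρ * (k * a * k⁻¹) * ρ⁻¹) * k := by simp only [β]; group
        _ = k⁻¹ * (a * (k * a * k⁻¹)) * k := by rw [← hi, hρ, hi]
        _ = (k⁻¹ * a * k) * a := by group
        _ = a * s := by rw [show k⁻¹ * a * k = s by rw [← hk]; group, comm]
    refine mk (ρ * β) ?_ ?_
    · rw [mul_inv_rev, show ρ * β * a * (β⁻¹ * ρ⁻¹) = ρ * (β * a * β⁻¹) * ρ⁻¹ by group, hβa,
        cm, hρa, ← hj, hρ, ← mul_assoc, invol_mul_self ha, one_mul]
    · rw [mul_inv_rev, show ρ * β * s * (β⁻¹ * ρ⁻¹) = ρ * (β * s * β⁻¹) * ρ⁻¹ by group, hβs,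
        ← hj, hρ]

end CfsgLib.GW
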