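import Mathlib

/-!
The arithmetic of a maximal subgroup with two classes of involutions in a minimal counterexample
to the theorem of Gorenstein and Walter.
-/

set_option autoImplicit false

namespace CfsgLib.GW

private theorem not_sq_ratio {P R : ℕ} {a c : ℤ} (h : (P : ℤ) * a ^ 2 = (R : ℤ) * c ^ 2)
    (hc : c ≠ 0) (hns : ¬ IsSquare (P * R)) : False := by
  refine hns (Rat.isSquare_natCast_iff.1 ⟨(P : ℚ) * a / c, ?_⟩)
  have h' : (P : ℚ) * (a : ℚ) ^ 2 = (R : ℚ) * (c : ℚ) ^ 2 := by exact_mod_cast h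
  have hc' : (c : ℚ) ≠ 0 := by exact_mod_cast hc
  field_simp
  push_cast
  linear_combination -(P : ℚ) * h'

/-- The parameters of the character identity. -/
private theorem twoClass_param (n x A B : ℕ) (d u v : ℤ) (hn : 3 ≤ n) (hd : d = 1 ∨ d = -1)
    (hA : Odd A) (hB : Odd B) (huv : u + v = x + d)
    (hx : ∃ s t : ℤ, Odd t ∧ Odd s ∧ ∃ b, ((A : ℤ) + B) = 2 ^ b * s ∧ (x : ℤ) - d = 2 ^ (n - 1 + b) * t)
    (hI : ((A : ℤ) - B) ^ 2 * u * v * (x - d) ^ 2 = d * x * (u - v) ^ 2 * ((A : ℤ) + B) ^ 2) :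
    ∃ α Q : ℤ, 0 < α ∧ 2 ^ (n - 1) ∣ α ∧ (x : ℤ) = 2 * α + d ∧ 0 ≤ Q ∧ 2 ^ (n - 1) ∣ Q ∧
      ((A : ℤ) - B) ^ 2 * ((α + d) ^ 2 - Q ^ 2) * α ^ 2 = d * x * Q ^ 2 * ((A : ℤ) + B) ^ 2 := by
  obtain ⟨s, t, ht, hs, b, hab, hxd⟩ := hx
  obtain ⟨m, rfl⟩ : ∃ m, n = m + 3 := ⟨n - 3, by omega⟩
  obtain ⟨A', hA'⟩ := hA
  obtain ⟨B', hB'⟩ := hB
  obtain ⟨c, rfl⟩ : ∃ c, b = c + 1 := by
    refine ⟨b - 1, ?_⟩
    rcases b with _ | b
    · obtain ⟨s', hs'⟩ := hs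
      simp only [pow_zero, one_mul] at hab
      omega
    · omega
  set α : ℤ := 2 ^ (m + 2 + c) * t with hα
  have hxa : (x : ℤ) - d = 2 * α := by
    rw [hxd, hα, show m + 3 - 1 + (c + 1) = (m + 2 + c) + 1 by omega, pow_succ]; ring
  have hdvd : (2 : ℤ) ^ (m + 3 - 1) ∣ α := by
    rw [show m + 3 - 1 = m + 2 by omega, hα, pow_add]
    exact Dvd.intro (2 ^ c * t) (by ring)
  have h4 : (4 : ℤ) ∣ α :=
    dvd_trans (by simpa using pow_dvd_pow (2 : ℤ) (show 2 ≤ m + 3 - 1 by omega)) hdvd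
  have ht0 : t ≠ 0 := fun e => by rw [e] at ht; simp at ht
  have hα0 : α ≠ 0 := mul_ne_zero (pow_ne_zero _ two_ne_zero) ht0
  have hαpos : 0 < α := by
    obtain ⟨r, hr⟩ := h4
    rcases hd with rfl | rfl <;> omega
  obtain ⟨xx, hxx⟩ : ∃ xx, (x : ℤ) = 2 * α + d := ⟨0, by linarith⟩
  set Q : ℤ := |u - (α + d)| with hQdef
  have hQ2 : Q ^ 2 = (u - (α + d)) ^ 2 := sq_abs _
  have hv : v = 2 * (α + d) - u := by linarith
  have heq : ((A : ℤ) - B) ^ 2 * ((α + d) ^ 2 - Q ^ 2) * α ^ 2 = d * x * Q ^ 2 * ((A : ℤ) + B) ^ 2 := by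
    rw [hQ2]
    rw [hv, hxa] at hI
    refine mul_left_cancel₀ (show (4 : ℤ) ≠ 0 by norm_num) ?_
    linear_combination hI
  refine ⟨α, Q, hαpos, hdvd, hxx, abs_nonneg _, ?_, heq⟩
  have heq2 : ((A : ℤ) - B) ^ 2 * ((α + d) ^ 2 - Q ^ 2) * (2 ^ (m + 1) * t) ^ 2 = d * x * Q ^ 2 * s ^ 2 := by
    refine mul_left_cancel₀ (pow_ne_zero 2 (pow_ne_zero (c + 1) (two_ne_zero (α := ℤ)))) ?_
    rw [hab, hα] at heq
    have e1 : ((2 : ℤ) ^ (m + 2 + c)) = 2 ^ (c + 1) * 2 ^ (m + 1) := by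
      rw [← pow_add]; congr 1; omega
    rw [hα, e1] at *
    linear_combination heq
  have hdiv : ((2 : ℤ) ^ (m + 2)) ^ 2 ∣ d * x * s ^ 2 * Q ^ 2 := by
    obtain ⟨r, hr⟩ : (2 : ℤ) ∣ (A : ℤ) - B := ⟨(A' : ℤ) - B', by omega⟩
    refine ⟨r ^ 2 * ((α + d) ^ 2 - Q ^ 2) * t ^ 2, ?_⟩
    rw [hr] at heq2
    rw [pow_succ' (2 : ℤ) (m + 1)]
    linear_combination -heq2
  have hodd : Odd (d * x * s ^ 2) := by
    refine Int.odd_mul.2 ⟨Int.odd_mul.2 ⟨?_, ?_⟩, hs.pow⟩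
    · rcases hd with rfl | rfl <;> decide
    · obtain ⟨r, hr⟩ := h4
      rcases hd with rfl | rfl
      · exact ⟨4 * r, by omega⟩
      · exact ⟨4 * r - 1, by omega⟩
  have hcop : IsCoprime (((2 : ℤ) ^ (m + 2)) ^ 2) (d * x * s ^ 2) := by
    obtain ⟨r, hr⟩ := hodd
    exact IsCoprime.pow_left (IsCoprime.pow_left ⟨-r, 1, by rw [hr]; ring⟩)
  rw [show m + 3 - 1 = m + 2 by omega]
  exact (Int.pow_dvd_pow_iff two_ne_zero).1 (hcop.dvd_of_dvd_mul_left hdiv)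

private theorem twoClass_equal {n x B k q i M : ℕ} {h a α d e : ℤ} (hd : d = 1 ∨ d = -1) (he : e = 1 ∨ e = -1)
    (hn : 3 ≤ n) (hh : (2 : ℤ) ^ (n - 2) = h) (hh2 : 2 ≤ h) (hB1 : (1 : ℤ) ≤ B) (hM1 : (1 : ℤ) ≤ M)
    (hi1 : (1 : ℤ) ≤ i) (hxa : (x : ℤ) = 2 * α + d) (ha : α = 2 * h * a) (ha1 : 1 ≤ a) (hj : (i : ℤ) ≤ h * i + e)
    (hq : (q : ℤ) = 2 * h * i + e) (hrho : (B : ℤ) * M * (h * i + e) = B * i)
    (hkq : (k : ℤ) * (x - d) ^ 2 * q * (2 * (h * i + e)) * B ^ 2 =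
      x * (x + d) * (2 * h * i) ^ 2 * ((B : ℤ) + B) ^ 2) :
    n = 3 ∧ q = 3 ∧ ((x = 7 ∧ k = 7) ∨ (x = 9 ∧ k = 15)) := by
  have hMj : (M : ℤ) * (h * i + e) = i := mul_left_cancel₀ (by linarith : (B : ℤ) ≠ 0) (by linarith)
  have hje : h * (i : ℤ) + e = i :=
    le_antisymm (by linarith [mul_le_mul_of_nonneg_right hM1 (by linarith : (0 : ℤ) ≤ h * i + e)]) hj
  have hhi := mul_le_mul_of_nonneg_right hh2 (by linarith : (0 : ℤ) ≤ i)
  rcases he with rfl | rfl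
  · linarith
  have hi' : (i : ℤ) = 1 := by linarith
  rw [hi'] at hje
  obtain rfl : h = 2 := by linarith
  have hn3 : n = 3 := by
    by_contra hne
    have : (4 : ℤ) ≤ 2 := by
      calc (4 : ℤ) = 2 ^ 2 := by norm_num
        _ ≤ 2 ^ (n - 2) := pow_le_pow_right₀ (by norm_num) (by omega)
        _ = 2 := hh
    omega
  rw [hi'] at hq hkq
  norm_num at hq
  have hq' : q = 3 := by exact_mod_cast hq
  subst hq'
  have hk' : 3 * (k : ℤ) * (x - d) ^ 2 = 32 * (x * (x + d)) := by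
    refine mul_left_cancel₀ (show (2 : ℤ) * B ^ 2 ≠ 0 by positivity) ?_
    push_cast at hkq
    linear_combination hkq
  rw [hxa, ha] at hk'
  have hd2 : d * d = 1 := by rcases hd with rfl | rfl <;> norm_num
  have hka : 3 * (k : ℤ) * a ^ 2 = 32 * a ^ 2 + 12 * d * a + 1 := by
    refine mul_left_cancel₀ (show (64 : ℤ) ≠ 0 by norm_num) ?_
    linear_combination hk' + 64 * hd2
  obtain rfl : a = 1 := by
    have h1 : a ∣ (1 : ℤ) := ⟨3 * (k : ℤ) * a - 32 * a - 12 * d, by linear_combination -hka⟩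
    exact le_antisymm (Int.le_of_dvd one_pos h1) ha1
  refine ⟨hn3, rfl, ?_⟩
  rcases hd with rfl | rfl
  · exact Or.inr ⟨by omega, by omega⟩
  · exact Or.inl ⟨by omega, by omega⟩

private theorem twoClass_dev {x A B : ℕ} {h a α Q w d : ℤ} (hd : d = 1 ∨ d = -1)
    (hB1 : (1 : ℤ) ≤ B) (hab : (B : ℤ) < A) (hh2 : 2 ≤ h)
    (hα : 0 < α) (ha : α = 2 * h * a) (ha1 : 1 ≤ a) (hxa : (x : ℤ) = 2 * α + d)
    (hQ : 0 ≤ Q) (hw : Q = 2 * h * w)
    (heq : ((A : ℤ) - B) ^ 2 * ((α + d) ^ 2 - Q ^ 2) * α ^ 2 = d * x * Q ^ 2 * ((A : ℤ) + B) ^ 2) :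
    1 ≤ w ∧ ((d = 1 ∧ Q ≤ α + 1 - (2 * h + 1) ∧
      (2 * h + 1) * ((A : ℤ) - B) ^ 2 < ((A : ℤ) + B) ^ 2) ∨ (d = -1 ∧ α - 1 + (2 * h + 1) ≤ Q)) := by
  have h4 : 4 ≤ α := by
    rw [ha]
    linarith [mul_le_mul (show 4 ≤ 2 * h by linarith) ha1 (by norm_num) (by linarith)]
  have hD : (0 : ℤ) < ((A : ℤ) - B) ^ 2 := pow_pos (by linarith) 2
  have hS : (0 : ℤ) < ((A : ℤ) + B) ^ 2 := pow_pos (by linarith) 2
  have hAB0 : (0 : ℤ) < A * B := mul_pos (by linarith) (by linarith)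
  have hxpos : (0 : ℤ) < x := by rcases hd with rfl | rfl <;> linarith
  have hb : (0 : ℤ) < α + d := by rcases hd with rfl | rfl <;> linarith
  have hQ0 : 0 < Q := by
    rcases hQ.eq_or_lt with e0 | e0
    · exfalso
      rw [← e0] at heq
      linarith [mul_pos (mul_pos hD (pow_pos hb 2)) (pow_pos hα 2)]
    · exact e0
  have hw1 : 1 ≤ w := by
    by_contra hc
    linarith [mul_nonpos_of_nonneg_of_nonpos (show (0 : ℤ) ≤ 2 * h by linarith) (show w ≤ 0 by omega)]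
  refine ⟨hw1, ?_⟩
  have hh0 : (0 : ℤ) ≤ 2 * h := by linarith
  rcases hd with rfl | rfl
  · left
    have hlt : Q < α + 1 := by
      by_contra hc
      push Not at hc
      have : (α + 1) ^ 2 - Q ^ 2 ≤ 0 := sub_nonpos.2 (pow_le_pow_left₀ (by linarith) hc 2)
      linarith [mul_pos (mul_pos hxpos (pow_pos hQ0 2)) hS,
        mul_nonpos_of_nonneg_of_nonpos (sq_nonneg (((A : ℤ) - B) * α)) this]
    have hT : Q ≤ α + 1 - (2 * h + 1) := by
      have h1 : w ≤ a := by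
        by_contra hc
        linarith [mul_le_mul_of_nonneg_left (show a + 1 ≤ w by omega) hh0]
      rcases h1.eq_or_lt with rfl | h1
      · exfalso
        rw [hxa, hw, ← ha] at heq
        have e1 : α ^ 2 * (2 * α + 1) * (((A : ℤ) - B) ^ 2 - ((A : ℤ) + B) ^ 2) = 0 := by
          linear_combination heq
        have : 0 < α ^ 2 * (2 * α + 1) := mul_pos (pow_pos hα 2) (by linarith)
        linarith [(mul_eq_zero.1 e1).resolve_left this.ne']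
      · linarith [mul_le_mul_of_nonneg_left (show w + 1 ≤ a by omega) hh0]
    refine ⟨rfl, hT, ?_⟩
    have hQα : Q < α := by linarith
    have hkey : (x : ℤ) * Q ^ 2 < α ^ 2 * (α + 1 + Q) := by
      rw [hxa]
      linarith [mul_pos (mul_pos hQ0 hα) (sub_pos.2 hQα),
        mul_pos hb (mul_pos (sub_pos.2 hQα) (add_pos hα hQ0))]
    have h3 : (α + 1 - Q) * ((A : ℤ) - B) ^ 2 < ((A : ℤ) + B) ^ 2 := by
      refine lt_of_mul_lt_mul_right ?_ (show 0 ≤ α ^ 2 * (α + 1 + Q) from mul_nonneg (sq_nonneg α) (by linarith))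
      linarith [mul_lt_mul_of_pos_right hkey hS]
    linarith [mul_le_mul_of_nonneg_right (show 2 * h + 1 ≤ α + 1 - Q by linarith) (sq_nonneg ((A : ℤ) - B))]
  · right
    refine ⟨rfl, ?_⟩
    have hgt : α - 1 < Q := by
      by_contra hc
      push Not at hc
      have : 0 ≤ (α + -1) ^ 2 - Q ^ 2 := sub_nonneg.2 (pow_le_pow_left₀ hQ (by linarith) 2)
      linarith [mul_pos (mul_pos hxpos (pow_pos hQ0 2)) hS,
        mul_nonneg (sq_nonneg (((A : ℤ) - B) * α)) this]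
    have h1 : a ≤ w := by
      by_contra hc
      linarith [mul_le_mul_of_nonneg_left (show w + 1 ≤ a by omega) hh0]
    rcases h1.eq_or_lt with rfl | h1
    · exfalso
      rw [hxa, hw, ← ha] at heq
      have e1 : α ^ 2 * (2 * α - 1) * (((A : ℤ) + B) ^ 2 - ((A : ℤ) - B) ^ 2) = 0 := by
        linear_combination heq
      have : 0 < α ^ 2 * (2 * α - 1) := mul_pos (pow_pos hα 2) (by linarith)
      linarith [(mul_eq_zero.1 e1).resolve_left this.ne']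
    · linarith [mul_le_mul_of_nonneg_left (show a + 1 ≤ w by omega) hh0]

private theorem twoClass_large_core {x A B : ℕ} {h a α Q w d : ℤ} (hh48 : h = 4 ∨ 8 ≤ h)
    (hB1 : (1 : ℤ) ≤ B) (h3 : 3 * (B : ℤ) ≤ A)
    (hα : 0 < α) (ha : α = 2 * h * a) (ha1 : 1 ≤ a) (hxa : (x : ℤ) = 2 * α + d) (hw : Q = 2 * h * w)
    (heq : ((A : ℤ) - B) ^ 2 * ((α + d) ^ 2 - Q ^ 2) * α ^ 2 = d * x * Q ^ 2 * ((A : ℤ) + B) ^ 2)
    (hbig : (d = 1 ∧ Q ≤ α + 1 - (2 * h + 1) ∧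
      (2 * h + 1) * ((A : ℤ) - B) ^ 2 < ((A : ℤ) + B) ^ 2) ∨ (d = -1 ∧ α - 1 + (2 * h + 1) ≤ Q)) : False := by
  have hh4 : 4 ≤ h := by omega
  have hab : (B : ℤ) < A := by linarith
  have hr : ((A : ℤ) + B) ^ 2 ≤ 4 * ((A : ℤ) - B) ^ 2 := by
    linarith [pow_le_pow_left₀ (by linarith) (show (A : ℤ) + B ≤ 2 * (A - B) by linarith) 2]
  rcases hbig with ⟨rfl, -, hlt⟩ | ⟨rfl, hT⟩
  · linarith [mul_le_mul_of_nonneg_right (show 4 ≤ 2 * h + 1 by linarith) (sq_nonneg ((A : ℤ) - B))]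
  have hup : α ^ 2 * (Q ^ 2 - (α - 1) ^ 2) ≤ 4 * x * Q ^ 2 := by
    refine le_of_mul_le_mul_left ?_ (show (0 : ℤ) < ((A : ℤ) - B) ^ 2 from pow_pos (by linarith) 2)
    linarith [mul_le_mul_of_nonneg_left hr (show (0 : ℤ) ≤ x * Q ^ 2 by positivity)]
  rw [hxa] at hup
  rcases le_or_gt 16 α with h16 | h16
  · have hc : 0 ≤ α ^ 2 - 4 * (2 * α + -1) := by linarith [mul_le_mul_of_nonneg_left h16 hα.le]
    linarith [mul_le_mul_of_nonneg_right (pow_le_pow_left₀ (by linarith) (show α + 8 ≤ Q by linarith) 2) hc,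
      mul_nonneg (sq_nonneg α) (sub_nonneg.2 h16), mul_nonneg (sub_nonneg.2 h16) hα.le]
  have ha' : a = 1 := by
    by_contra hc
    linarith [mul_le_mul hh4 (show 2 ≤ a by omega) (by norm_num) (by linarith)]
  subst ha'
  obtain rfl : h = 4 := by omega
  obtain rfl : α = 8 := by linarith
  have hw4 : w ≤ 3 := by
    by_contra hc
    subst hw
    linarith [pow_le_pow_left₀ (by norm_num) (show (4 : ℤ) ≤ w by omega) 2]
  have hx15 : (x : ℤ) = 15 := by linarith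
  rw [hx15] at heq
  have hc0 : (A : ℤ) + B ≠ 0 := by linarith
  have : w = 2 ∨ w = 3 := by omega
  subst hw
  rcases this with rfl | rfl
  · exact not_sq_ratio (P := 69) (R := 20) (a := (A : ℤ) - B) (c := (A : ℤ) + B)
      (by push_cast; linarith) hc0 (by decide +kernel)
  · exact not_sq_ratio (P := 527) (R := 135) (a := (A : ℤ) - B) (c := (A : ℤ) + B)
      (by push_cast; linarith) hc0 (by decide +kernel)

private theorem twoClass_large {x A B i M : ℕ} {h a α Q w d e : ℤ} (he : e = 1 ∨ e = -1) (hh48 : h = 4 ∨ 8 ≤ h)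
    (hB1 : (1 : ℤ) ≤ B) (hab : (B : ℤ) < A) (hM1 : (1 : ℤ) ≤ M) (hi1 : (1 : ℤ) ≤ i)
    (hα : 0 < α) (ha : α = 2 * h * a) (ha1 : 1 ≤ a) (hxa : (x : ℤ) = 2 * α + d) (hw : Q = 2 * h * w)
    (hrho : (B : ℤ) * M * (h * i + e) = A * i)
    (heq : ((A : ℤ) - B) ^ 2 * ((α + d) ^ 2 - Q ^ 2) * α ^ 2 = d * x * Q ^ 2 * ((A : ℤ) + B) ^ 2)
    (hbig : (d = 1 ∧ Q ≤ α + 1 - (2 * h + 1) ∧
      (2 * h + 1) * ((A : ℤ) - B) ^ 2 < ((A : ℤ) + B) ^ 2) ∨ (d = -1 ∧ α - 1 + (2 * h + 1) ≤ Q)) : False := by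
  have hh4 : 4 ≤ h := by omega
  have h3 : 3 * (B : ℤ) ≤ A := by
    have h0 := mul_le_mul_of_nonneg_right hh4 (show (0 : ℤ) ≤ i by linarith)
    have : 3 * (i : ℤ) ≤ h * i + e := by rcases he with rfl | rfl <;> linarith
    refine le_of_mul_le_mul_right ?_ (show (0 : ℤ) < i by linarith)
    linarith [mul_le_mul_of_nonneg_left this (show (0 : ℤ) ≤ B * M by positivity),
      mul_nonneg (mul_nonneg (show (0 : ℤ) ≤ B by linarith) (show (0 : ℤ) ≤ i by linarith)) (sub_nonneg.2 hM1)]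
  exact twoClass_large_core hh48 hB1 h3 hα ha ha1 hxa hw heq hbig

private theorem twoClass_three {x A B k q i M : ℕ} {α a Q w d e : ℤ} (he : e = 1 ∨ e = -1) (hi : Odd i)
    (hB1 : (1 : ℤ) ≤ B) (hM1 : (1 : ℤ) ≤ M)
    (hα : 0 < α) (ha : α = 2 * 2 * a) (ha1 : 1 ≤ a) (hxa : (x : ℤ) = 2 * α + d) (hw : Q = 2 * 2 * w) (hw1 : 1 ≤ w)
    (hq : (q : ℤ) = 2 * 2 * i + e) (hrho : (B : ℤ) * M * (2 * i + e) = A * i)
    (hkq : (k : ℤ) * (x - d) ^ 2 * q * (2 * (2 * i + e)) * B ^ 2 =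
      x * (x + d) * (2 * 2 * i) ^ 2 * ((A : ℤ) + B) ^ 2)
    (heq : ((A : ℤ) - B) ^ 2 * ((α + d) ^ 2 - Q ^ 2) * α ^ 2 = d * x * Q ^ 2 * ((A : ℤ) + B) ^ 2)
    (hbig : (d = 1 ∧ Q ≤ α + 1 - (2 * 2 + 1) ∧
      (2 * 2 + 1) * ((A : ℤ) - B) ^ 2 < ((A : ℤ) + B) ^ 2) ∨ (d = -1 ∧ α - 1 + (2 * 2 + 1) ≤ Q))
    (h3 : (A : ℤ) = 3 * B) :
    (q = 3 ∧ A = 3 * B ∧ x = 15 ∧ k = 35) ∨ (q = 5 ∧ k = 7 ∧ A = 3 * B) := by
  rw [h3] at hrho heq hkq hbig
  rcases hbig with ⟨-, -, hlt⟩ | ⟨rfl, hT⟩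
  · linarith [mul_pos (show (0 : ℤ) < B by linarith) (show (0 : ℤ) < B by linarith)]
  have hq4 : Q ^ 2 * (α ^ 2 - 4 * x) = α ^ 2 * (α - 1) ^ 2 := by
    refine mul_left_cancel₀ (show (4 : ℤ) * B ^ 2 ≠ 0 by positivity) ?_
    linear_combination -heq
  rw [hxa] at hq4
  have ha6 : a ≤ 6 := by
    by_contra hc
    have h28 : 28 ≤ α := by linarith
    have hc' : 0 ≤ α ^ 2 - 4 * (2 * α + -1) := by linarith [mul_le_mul_of_nonneg_left h28 hα.le]
    linarith [mul_le_mul_of_nonneg_right (pow_le_pow_left₀ (by linarith) (show α + 4 ≤ Q by linarith) 2) hc',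
      mul_nonneg (sq_nonneg α) (sub_nonneg.2 h28), mul_nonneg (sub_nonneg.2 h28) hα.le]
  obtain rfl : a = 2 := by
    subst ha hw
    interval_cases a
    · exfalso
      norm_num at hq4
      linarith [sq_nonneg (4 * w)]
    · rfl
    all_goals
      exfalso
      norm_num at hq4
      have hw8 : w ≤ 12 := by
        by_contra hc
        linarith [pow_le_pow_left₀ (by norm_num) (show (13 : ℤ) ≤ w by omega) 2]
      interval_cases w <;> norm_num at hq4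
  obtain rfl : α = 8 := by linarith
  have hx15 : x = 15 := by omega
  subst hx15
  have hmj : (M : ℤ) * (2 * i + e) = 3 * i :=
    mul_left_cancel₀ (by linarith : (B : ℤ) ≠ 0) (by linarith)
  have hki : (k : ℤ) * q * (2 * i + e) = 105 * i ^ 2 := by
    refine mul_left_cancel₀ (show (512 : ℤ) * B ^ 2 ≠ 0 by positivity) ?_
    push_cast at hkq
    linear_combination hkq
  obtain ⟨r, rfl⟩ := hi
  rcases Nat.eq_zero_or_pos r with rfl | hr
  swap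
  · exfalso
    push_cast at hmj
    rcases Nat.lt_or_ge M 2 with hM2 | hM2
    · have : (M : ℤ) = 1 := by omega
      rw [this] at hmj
      rcases he with rfl | rfl <;> omega
    · have hM2' : (2 : ℤ) ≤ M := by exact_mod_cast hM2
      rcases he with rfl | rfl <;>
        linarith [mul_le_mul_of_nonneg_right hM2' (show (0 : ℤ) ≤ 2 * (2 * r + 1) + -1 by omega),
          mul_le_mul_of_nonneg_right hM2' (show (0 : ℤ) ≤ 2 * (2 * r + 1) + 1 by omega)]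
  rcases he with rfl | rfl <;> norm_num at hq hki
  · have hq' : q = 5 := by exact_mod_cast hq
    subst hq'
    exact Or.inr ⟨rfl, by omega, by omega⟩
  · have hq' : q = 3 := by exact_mod_cast hq
    subst hq'
    exact Or.inl ⟨rfl, by omega, rfl, by omega⟩

private theorem twoClass_five {x A B k q i M : ℕ} {α a Q w d e : ℤ} (he : e = 1 ∨ e = -1) (hM : Odd M)
    (hB1 : (1 : ℤ) ≤ B) (hi1 : (1 : ℤ) ≤ i)
    (hα : 0 < α) (ha : α = 2 * 2 * a) (ha1 : 1 ≤ a) (hxa : (x : ℤ) = 2 * α + d) (hw : Q = 2 * 2 * w)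
    (hq : (q : ℤ) = 2 * 2 * i + e) (hrho : (B : ℤ) * M * (2 * i + e) = A * i)
    (hkq : (k : ℤ) * (x - d) ^ 2 * q * (2 * (2 * i + e)) * B ^ 2 =
      x * (x + d) * (2 * 2 * i) ^ 2 * ((A : ℤ) + B) ^ 2)
    (heq : ((A : ℤ) - B) ^ 2 * ((α + d) ^ 2 - Q ^ 2) * α ^ 2 = d * x * Q ^ 2 * ((A : ℤ) + B) ^ 2)
    (hbig : (d = 1 ∧ Q ≤ α + 1 - (2 * 2 + 1) ∧
      (2 * 2 + 1) * ((A : ℤ) - B) ^ 2 < ((A : ℤ) + B) ^ 2) ∨ (d = -1 ∧ α - 1 + (2 * 2 + 1) ≤ Q))
    (h5 : 5 * (B : ℤ) ≤ A) :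
    q = 3 ∧ A = 5 * B ∧ x = 7 ∧ k = 63 := by
  have hr : 4 * ((A : ℤ) + B) ^ 2 ≤ 9 * ((A : ℤ) - B) ^ 2 := by
    linarith [pow_le_pow_left₀ (by linarith) (show 2 * ((A : ℤ) + B) ≤ 3 * (A - B) by linarith) 2]
  rcases hbig with ⟨-, -, hlt⟩ | ⟨rfl, hT⟩
  · linarith [sq_nonneg ((A : ℤ) - B)]
  have hup : 4 * (α ^ 2 * (Q ^ 2 - (α - 1) ^ 2)) ≤ 9 * x * Q ^ 2 := by
    refine le_of_mul_le_mul_left ?_ (show (0 : ℤ) < ((A : ℤ) - B) ^ 2 from pow_pos (by linarith) 2)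
    linarith [mul_le_mul_of_nonneg_left hr (show (0 : ℤ) ≤ x * Q ^ 2 by positivity)]
  rw [hxa] at hup
  obtain rfl : a = 1 := by
    by_contra hc
    have h8 : 8 ≤ α := by omega
    have hc' : 0 ≤ 4 * α ^ 2 - 9 * (2 * α + -1) := by linarith [mul_le_mul_of_nonneg_left h8 hα.le]
    linarith [mul_le_mul_of_nonneg_right (pow_le_pow_left₀ (by linarith) (show α + 4 ≤ Q by linarith) 2) hc',
      mul_nonneg (sq_nonneg α) (sub_nonneg.2 h8), mul_nonneg (sub_nonneg.2 h8) hα.le]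
  obtain rfl : α = 4 := by linarith
  have hx7 : x = 7 := by omega
  subst hx7
  subst hw
  have hw6 : w ≤ 6 := by
    by_contra hc
    norm_num at hup
    linarith [pow_le_pow_left₀ (by norm_num) (show (7 : ℤ) ≤ w by omega) 2]
  have hw2 : 2 ≤ w := by omega
  have hc0 : (A : ℤ) + B ≠ 0 := by linarith
  push_cast at heq
  interval_cases w
  · exact (not_sq_ratio (P := 55) (R := 28) (a := (A : ℤ) - B) (c := (A : ℤ) + B)
      (by push_cast; linarith) hc0 (by decide +kernel)).elim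
  · exact (not_sq_ratio (P := 15) (R := 7) (a := (A : ℤ) - B) (c := (A : ℤ) + B)
      (by push_cast; linarith) hc0 (by decide +kernel)).elim
  · exact (not_sq_ratio (P := 247) (R := 112) (a := (A : ℤ) - B) (c := (A : ℤ) + B)
      (by push_cast; linarith) hc0 (by decide +kernel)).elim
  · exact (not_sq_ratio (P := 391) (R := 175) (a := (A : ℤ) - B) (c := (A : ℤ) + B)
      (by push_cast; linarith) hc0 (by decide +kernel)).elim
  have hA5 : (A : ℤ) = 5 * B := by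
    have hsq : (3 * ((A : ℤ) - B)) ^ 2 = (2 * ((A : ℤ) + B)) ^ 2 := by linarith
    have := (pow_left_inj₀ (by linarith) (by linarith) two_ne_zero).1 hsq
    linarith
  rw [hA5] at hrho hkq
  have hmj : (M : ℤ) * (2 * i + e) = 5 * i :=
    mul_left_cancel₀ (by linarith : (B : ℤ) ≠ 0) (by linarith)
  have hki : (k : ℤ) * q * (2 * i + e) = 189 * i ^ 2 := by
    refine mul_left_cancel₀ (show (128 : ℤ) * B ^ 2 ≠ 0 by positivity) ?_
    push_cast at hkq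
    linear_combination hkq
  have hM5 : (M : ℤ) ≤ 5 := by
    by_contra hc
    rcases he with rfl | rfl
    · linarith [mul_le_mul_of_nonneg_right (show (6 : ℤ) ≤ M by omega) (show (0 : ℤ) ≤ 2 * i + 1 by linarith)]
    · linarith [mul_le_mul_of_nonneg_right (show (6 : ℤ) ≤ M by omega) (show (0 : ℤ) ≤ 2 * i + -1 by linarith)]
  have hM5' : M ≤ 5 := by exact_mod_cast hM5
  obtain ⟨mr, rfl⟩ := hM
  have hmr : mr ≤ 2 := by omega
  interval_cases mr <;> push_cast at hmj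
  · rcases he with rfl | rfl <;> omega
  · obtain ⟨hi', rfl⟩ : (i : ℤ) = 3 ∧ e = -1 := by rcases he with rfl | rfl <;> omega
    rw [hi'] at hq hki
    norm_num at hq
    rw [hq] at hki
    omega
  · obtain ⟨hi', rfl⟩ : (i : ℤ) = 1 ∧ e = -1 := by rcases he with rfl | rfl <;> omega
    rw [hi'] at hq hki
    norm_num at hq
    have hq' : q = 3 := by exact_mod_cast hq
    subst hq'
    exact ⟨rfl, by omega, rfl, by omega⟩

private theorem twoClass_index {x A B k q i : ℕ} {α a Q w d e : ℤ} (hd : d = 1 ∨ d = -1) (he : e = 1 ∨ e = -1)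
    (hB1 : (1 : ℤ) ≤ B) (ha : α = 2 * 2 * a) (ha1 : 1 ≤ a) (hxa : (x : ℤ) = 2 * α + d)
    (hw : Q = 2 * 2 * w) (hw1 : 1 ≤ w)
    (hq : (q : ℤ) = 2 * 2 * i + e) (hrho : (B : ℤ) * (2 * i + e) = A * i)
    (hkq : (k : ℤ) * (x - d) ^ 2 * q * (2 * (2 * i + e)) * B ^ 2 =
      x * (x + d) * (2 * 2 * i) ^ 2 * ((A : ℤ) + B) ^ 2)
    (hbig : (d = 1 ∧ Q ≤ α + 1 - (2 * 2 + 1) ∧
      (2 * 2 + 1) * ((A : ℤ) - B) ^ 2 < ((A : ℤ) + B) ^ 2) ∨ (d = -1 ∧ α - 1 + (2 * 2 + 1) ≤ Q))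
    (hi3 : 3 ≤ i) :
    5 < q ∧ k ≤ 11 := by
  have hi3' : (3 : ℤ) ≤ i := by exact_mod_cast hi3
  refine ⟨by rcases he with rfl | rfl <;> omega, ?_⟩
  have hsum : ((A : ℤ) + B) * i = B * (3 * i + e) := by linarith
  have hmain : (k : ℤ) * (x - d) ^ 2 * q * (2 * i + e) = 8 * (x * (x + d)) * (3 * i + e) ^ 2 := by
    refine mul_left_cancel₀ (show (2 : ℤ) * B ^ 2 ≠ 0 by positivity) ?_
    linear_combination hkq + 16 * (x : ℤ) * (x + d) * (((A : ℤ) + B) * i + B * (3 * i + e)) * hsum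
  have hα4 : 4 ≤ α := by linarith
  have hxpos : (0 : ℤ) ≤ x := Int.natCast_nonneg x
  have hf : 256 * ((x : ℤ) * (x + d)) ≤ 306 * (x - d) ^ 2 := by
    rw [hxa]
    rcases hbig with ⟨rfl, hT, -⟩ | ⟨rfl, -⟩
    · have h8 : 8 ≤ α := by omega
      linarith [mul_nonneg (sub_nonneg.2 h8) (show (0 : ℤ) ≤ 200 * α + 64 by linarith)]
    · linarith [mul_nonneg (show (0 : ℤ) ≤ α by linarith) (show (0 : ℤ) ≤ α by linarith)]
  have hs : 55 * (8 * (3 * (i : ℤ) + e) ^ 2) ≤ 512 * (q * (2 * i + e)) := by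
    rw [hq]
    rcases he with rfl | rfl
    · linarith [mul_nonneg (show (0 : ℤ) ≤ i by linarith) (show (0 : ℤ) ≤ i by linarith)]
    · linarith [mul_nonneg (sub_nonneg.2 hi3') (show (0 : ℤ) ≤ 136 * i - 24 by linarith)]
  by_contra hk'
  have hk12 : (12 : ℤ) ≤ k := by omega
  have hqj : 0 < (x - d : ℤ) ^ 2 * (q * (2 * i + e)) := by
    refine mul_pos (sq_pos_of_ne_zero (by omega)) (mul_pos ?_ ?_) <;> rcases he with rfl | rfl <;> linarith
  linarith [mul_le_mul hf hs (by positivity) (by positivity : (0 : ℤ) ≤ 306 * (x - d) ^ 2),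
    mul_le_mul_of_nonneg_right hk12 hqj.le]

/-- The arithmetic of two classes: only three small configurations and a bounded index remain. -/
theorem twoClass_arith (n x A B M i k q : ℕ) (d e u v : ℤ) (hn : 3 ≤ n) (hd : d = 1 ∨ d = -1)
    (he : e = 1 ∨ e = -1) (hA : Odd A) (hB : Odd B) (hM : Odd M) (hi : Odd i) (hk : Odd k)
    (hq : (q : ℤ) = 2 ^ (n - 1) * i + e) (hq3 : 3 ≤ q) (huv : u + v = x + d)
    (hx : ∃ s t : ℤ, Odd t ∧ Odd s ∧ ∃ b, ((A : ℤ) + B) = 2 ^ b * s ∧ (x : ℤ) - d = 2 ^ (n - 1 + b) * t)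
    (hI : ((A : ℤ) - B) ^ 2 * u * v * (x - d) ^ 2 = d * x * (u - v) ^ 2 * ((A : ℤ) + B) ^ 2)
    (hrho : (B : ℤ) * M * (2 ^ (n - 2) * i + e) = A * i)
    (hkq : (k : ℤ) * (x - d) ^ 2 * q * (2 * (2 ^ (n - 2) * i + e)) * B ^ 2 =
      x * (x + d) * (2 ^ (n - 1) * i) ^ 2 * ((A : ℤ) + B) ^ 2) :
    n = 3 ∧ ((q = 3 ∧ ((A = B ∧ ((x = 7 ∧ k = 7) ∨ (x = 9 ∧ k = 15))) ∨
        (A = 3 * B ∧ x = 15 ∧ k = 35) ∨ (A = 5 * B ∧ x = 7 ∧ k = 63))) ∨
      (q = 5 ∧ k = 7 ∧ A = 3 * B) ∨ (5 < q ∧ k ≤ 11)) := by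
  obtain ⟨α, Q, hα, hαd, hxa, hQ, hQd, heq⟩ := twoClass_param n x A B d u v hn hd hA hB huv hx hI
  have hB1 : (1 : ℤ) ≤ B := by exact_mod_cast hB.pos
  have hM1 : (1 : ℤ) ≤ M := by exact_mod_cast hM.pos
  have hi1 : (1 : ℤ) ≤ i := by exact_mod_cast hi.pos
  obtain ⟨h, hh, h2⟩ : ∃ h : ℤ, (2 : ℤ) ^ (n - 2) = h ∧ (2 : ℤ) ^ (n - 1) = 2 * h :=
    ⟨_, rfl, by rw [show n - 1 = (n - 2) + 1 by omega, pow_succ]; ring⟩
  rw [h2] at hq hαd hQd hkq
  rw [hh] at hrho hkq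
  have hh2 : 2 ≤ h := by
    rw [← hh]
    calc (2 : ℤ) = 2 ^ 1 := (pow_one _).symm
      _ ≤ 2 ^ (n - 2) := pow_le_pow_right₀ (by norm_num) (by omega)
  obtain ⟨a, ha⟩ := hαd
  have ha1 : 1 ≤ a := by
    by_contra hc
    linarith [mul_nonpos_of_nonneg_of_nonpos (show (0 : ℤ) ≤ 2 * h by linarith) (show a ≤ 0 by omega)]
  obtain ⟨w, hw⟩ := hQd
  -- the ratio `A / B` is at least one
  have hhi := mul_le_mul_of_nonneg_right hh2 (show (0 : ℤ) ≤ i by linarith)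
  have hj : (i : ℤ) ≤ h * i + e := by rcases he with rfl | rfl <;> linarith
  have hAB : (B : ℤ) ≤ A := by
    refine le_of_mul_le_mul_right ?_ (show (0 : ℤ) < i by linarith)
    linarith [mul_le_mul_of_nonneg_left hj (show (0 : ℤ) ≤ B * M by positivity),
      mul_nonneg (mul_nonneg (show (0 : ℤ) ≤ B by linarith) (show (0 : ℤ) ≤ i by linarith)) (sub_nonneg.2 hM1)]
  rcases hAB.eq_or_lt with hab | hab
  · rw [← hab] at hrho hkq
    obtain ⟨h1, h2', h3⟩ := twoClass_equal hd he hn hh hh2 hB1 hM1 hi1 hxa ha ha1 hj hq hrho hkq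
    exact ⟨h1, Or.inl ⟨h2', Or.inl ⟨by exact_mod_cast hab.symm, h3⟩⟩⟩
  obtain ⟨hw1, hbig⟩ := twoClass_dev hd hB1 hab hh2 hα ha ha1 hxa hQ hw heq
  rcases Nat.lt_or_ge 3 n with hn4 | hn3
  · have h48 : h = 4 ∨ 8 ≤ h := by
      rw [← hh]
      rcases Nat.lt_or_ge n 5 with hn5 | hn5
      · obtain rfl : n = 4 := by omega
        left; norm_num
      · right
        calc (8 : ℤ) = 2 ^ 3 := by norm_num
          _ ≤ 2 ^ (n - 2) := pow_le_pow_right₀ (by norm_num) (by omega)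
    exact (twoClass_large he h48 hB1 hab hM1 hi1 hα ha ha1 hxa hw hrho heq hbig).elim
  obtain rfl : n = 3 := by omega
  obtain rfl : h = 2 := by rw [← hh]; norm_num
  refine ⟨rfl, ?_⟩
  -- the three possible shapes of the ratio
  have hcase : (A : ℤ) = 3 * B ∨ 5 * (B : ℤ) ≤ A ∨ (M = 1 ∧ 3 ≤ i) := by
    rcases Nat.lt_or_ge M 3 with hM3 | hM3
    · obtain rfl : M = 1 := by obtain ⟨r, rfl⟩ := hM; omega
      rcases Nat.lt_or_ge i 3 with hi3 | hi3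
      · obtain rfl : i = 1 := by obtain ⟨r, rfl⟩ := hi; omega
        push_cast at hrho
        rcases he with rfl | rfl <;> left <;> linarith
      · exact Or.inr (Or.inr ⟨rfl, hi3⟩)
    · have hM3' : (3 : ℤ) ≤ M := by exact_mod_cast hM3
      rcases Nat.lt_or_ge i 3 with hi3 | hi3
      · obtain rfl : i = 1 := by obtain ⟨r, rfl⟩ := hi; omega
        push_cast at hrho
        rcases he with rfl | rfl
        · right; left
          linarith [mul_le_mul_of_nonneg_left hM3' (show (0 : ℤ) ≤ B by linarith)]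
        · rcases Nat.lt_or_ge M 5 with hM5 | hM5
          · obtain rfl : M = 3 := by obtain ⟨r, rfl⟩ := hM; omega
            left; push_cast at hrho; linarith
          · have hM5' : (5 : ℤ) ≤ M := by exact_mod_cast hM5
            right; left
            linarith [mul_le_mul_of_nonneg_left hM5' (show (0 : ℤ) ≤ B by linarith)]
      · right; left
        have hi3' : (3 : ℤ) ≤ i := by exact_mod_cast hi3
        have : 5 * (i : ℤ) ≤ M * (2 * i + e) := by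
          have := mul_le_mul_of_nonneg_right hM3' (show (0 : ℤ) ≤ 2 * i + e by rcases he with rfl | rfl <;> linarith)
          rcases he with rfl | rfl <;> linarith
        refine le_of_mul_le_mul_right ?_ (show (0 : ℤ) < i by linarith)
        linarith [mul_le_mul_of_nonneg_left this (show (0 : ℤ) ≤ B by linarith)]
  rcases hcase with h3 | h5 | ⟨hM', hi3⟩
  · rcases twoClass_three he hi hB1 hM1 hα ha ha1 hxa hw hw1 hq hrho hkq heq hbig h3 with hc | hc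
    · exact Or.inl ⟨hc.1, Or.inr (Or.inl hc.2)⟩
    · exact Or.inr (Or.inl hc)
  · have hc := twoClass_five he hM hB1 hi1 hα ha ha1 hxa hw hq hrho hkq heq hbig h5
    exact Or.inl ⟨hc.1, Or.inr (Or.inr hc.2)⟩
  · subst hM'
    exact Or.inr (Or.inr (twoClass_index hd he hB1 ha ha1 hxa hw hw1 hq (by simpa using hrho) hkq hbig hi3))

/-- With the Sylow subgroup of order at least 16 the two odd parts are less than three times
apart. -/
theorem twoClass_ratio (n x A B : ℕ) (d u v : ℤ) (hn : 4 ≤ n) (hd : d = 1 ∨ d = -1)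
    (hA : Odd A) (hB : Odd B) (h3 : 3 * B ≤ A) (huv : u + v = x + d)
    (hx : ∃ s t : ℤ, Odd t ∧ Odd s ∧ ∃ b, ((A : ℤ) + B) = 2 ^ b * s ∧ (x : ℤ) - d = 2 ^ (n - 1 + b) * t)
    (hI : ((A : ℤ) - B) ^ 2 * u * v * (x - d) ^ 2 = d * x * (u - v) ^ 2 * ((A : ℤ) + B) ^ 2) :
    False := by
  obtain ⟨α, Q, hα, hαd, hxa, hQ, hQd, heq⟩ := twoClass_param n x A B d u v (by omega) hd hA hB huv hx hI
  have hB1 : (1 : ℤ) ≤ B := by exact_mod_cast hB.pos
  have h3' : 3 * (B : ℤ) ≤ A := by exact_mod_cast h3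
  have h2 : (2 : ℤ) ^ (n - 1) = 2 * 2 ^ (n - 2) := by
    rw [show n - 1 = (n - 2) + 1 by omega, pow_succ]; ring
  rw [h2] at hαd hQd
  have h48 : (2 : ℤ) ^ (n - 2) = 4 ∨ 8 ≤ (2 : ℤ) ^ (n - 2) := by
    rcases Nat.lt_or_ge n 5 with hn5 | hn5
    · obtain rfl : n = 4 := by omega
      left; norm_num
    · right
      calc (8 : ℤ) = 2 ^ 3 := by norm_num
        _ ≤ 2 ^ (n - 2) := pow_le_pow_right₀ (by norm_num) (by omega)
  generalize (2 : ℤ) ^ (n - 2) = h at hαd hQd h48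
  obtain ⟨a, ha⟩ := hαd
  obtain ⟨w, hw⟩ := hQd
  have ha1 : 1 ≤ a := by
    by_contra hc
    linarith [mul_nonpos_of_nonneg_of_nonpos (show (0 : ℤ) ≤ 2 * h by omega) (show a ≤ 0 by omega)]
  obtain ⟨-, hbig⟩ := twoClass_dev hd hB1 (by linarith) (by omega) hα ha ha1 hxa hQ hw heq
  exact twoClass_large_core h48 hB1 h3' hα ha ha1 hxa hw heq hbig

end CfsgLib.GW
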