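import Cfsg.Agent.Lib.GW.Combine
import Cfsg.Agent.Lib.GW.Twist.Klein
import Cfsg.Agent.Lib.GW.Twist.DihedralRot

/-!
The twist lemma.
-/

set_option autoImplicit false

namespace CfsgLib.GW

universe u

/-- The twist lemma. -/
theorem twist : TwistStmt.{u} :=
  twist_of_cases
    (fun G _ _ M hco T a b g h4 hg haT hT hbT hsc hsq F h1 h2 h3 h5 h6 =>
      twist_klein G M hco T a b g hg haT hT hbT hsc hsq F h1 h2 h3 h5 h6 h4)
    twist_dihedral

end CfsgLib.GW
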