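import Cfsg.Agent.Lib.BlockA.DihedralOrder

/-!
The second identity of the principal 2-block of a group with a dihedral Sylow 2-subgroup and one
class of involutions: pairs of involutions whose product has 2-part of the largest possible order,
counted by the block and by the two classes of four-groups.
-/

set_option autoImplicit false
set_option linter.unusedSectionVars false
set_option maxHeartbeats 1000000

namespace CfsgLib.GW.IdentityI

open Cfsg CfsgLib.Invol CfsgLib.Block CfsgLib.BlockA.DihedralBlock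

universe u

variable {G : Type u} [Group G] [Finite G] (P : Sylow 2 G) (D : DihData (P : Subgroup G))

local notation "CJ" => Subgroup.centralizer (Singleton.singleton (dz P D) : Set G)

/-- The class of `u` under the centralizer of `J`. -/
def cls (J u : G) : Set G := {v | ∃ x : G, Commute x J ∧ x * u * x⁻¹ = v}

theorem mem_cls_self (J u : G) : u ∈ cls J u :=
  ⟨1, Commute.one_left J, by rw [one_mul, inv_one, mul_one]⟩

theorem cls_eq {J u v : G} (h : v ∈ cls J u) : cls J v = cls J u := by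
  obtain ⟨x, hx, rfl⟩ := h
  ext w
  constructor
  · rintro ⟨y, hy, rfl⟩
    exact ⟨y * x, hy.mul_left hx, by group⟩
  · rintro ⟨y, hy, rfl⟩
    exact ⟨y * x⁻¹, hy.mul_left hx.inv_left, by group⟩

theorem cls_card {J u : G} (hu : Commute u J) :
    (cls J u).ncard * Nat.card (Subgroup.centralizer ({J, u} : Set G)) =
      Nat.card (Subgroup.centralizer ({J} : Set G)) := by
  set U : Subgroup.centralizer ({J} : Set G) := ⟨u, Subgroup.mem_centralizer_singleton_iff.2 hu.eq⟩
  have h := card_class_mul_card_centralizer U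
  rw [card_centralizer_pair (Subgroup.mem_centralizer_singleton_iff.2 hu.eq)] at h
  rw [← h]
  congr 1
  have hset : cls J u = Subtype.val '' {t : Subgroup.centralizer ({J} : Set G) | IsConj U t} := by
    ext w
    constructor
    · rintro ⟨x, hx, rfl⟩
      exact ⟨⟨x, Subgroup.mem_centralizer_singleton_iff.2 hx.eq⟩ * U *
        (⟨x, Subgroup.mem_centralizer_singleton_iff.2 hx.eq⟩)⁻¹, isConj_iff.2 ⟨_, rfl⟩, rfl⟩
    · rintro ⟨t, ht, rfl⟩
      obtain ⟨x, hx⟩ := isConj_iff.1 ht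
      exact ⟨x, Subgroup.mem_centralizer_singleton_iff.1 x.2, congrArg Subtype.val hx⟩
  rw [hset, Set.ncard_image_of_injective _ Subtype.val_injective, ← Nat.card_coe_set_eq]
  rfl

section retraction

theorem q_dvd_orderOf_zpow (c : ℤ) : 2 * D.h ∣ orderOf (D.r ^ c) ↔ Odd c := by
  obtain ⟨k, hk⟩ := D.h_pow
  constructor
  · intro h
    by_contra hc
    obtain ⟨e, rfl⟩ := Int.not_odd_iff_even.1 hc
    have h1 : orderOf (D.r ^ (e + e)) ∣ D.h := orderOf_dvd_of_pow_eq_one (by
      rw [← zpow_natCast, ← zpow_mul, D.zpow_eq_one_iff]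
      exact ⟨e, by ring⟩)
    have := Nat.le_of_dvd D.h_pos (h.trans h1)
    have := D.h_pos
    omega
  · rintro ⟨e, rfl⟩
    have h1 : orderOf (D.r ^ (2 * e + 1)) ∣ 2 ^ (k + 1) := orderOf_dvd_of_pow_eq_one (by
      rw [← zpow_natCast, ← zpow_mul, D.zpow_eq_one_iff, hk]
      exact ⟨2 * e + 1, by push_cast; ring⟩)
    obtain ⟨i, hi, he⟩ := (Nat.dvd_prime_pow Nat.prime_two).1 h1
    rcases Nat.lt_or_ge i (k + 1) with hlt | hge
    · exfalso
      have h2 : (D.r ^ (2 * e + 1)) ^ D.h = 1 := by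
        rw [← orderOf_dvd_iff_pow_eq_one, he, hk]
        exact pow_dvd_pow 2 (by omega)
      rw [← zpow_natCast, ← zpow_mul, D.zpow_eq_one_iff] at h2
      obtain ⟨c, hc⟩ := h2
      have hpos : (0 : ℤ) < D.h := by exact_mod_cast D.h_pos
      have h3 : 2 * e + 1 = 2 * c := mul_right_cancel₀ hpos.ne' (by linear_combination hc)
      omega
    · rw [he, show i = k + 1 by omega, hk, pow_succ']

theorem q_dvd_orderOf_iff {π : CJ →* (P : Subgroup G)}
    (hker : ∀ x : CJ, π x = 1 ↔ ¬ 2 ∣ orderOf (x : G)) (y : CJ) : 2 * D.h ∣ orderOf (y : G) ↔ 2 * D.h ∣ orderOf (π y) := by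
  rw [Subgroup.orderOf_coe]
  refine ⟨fun h => ?_, fun h => h.trans (orderOf_map_dvd π y)⟩
  have hodd : ¬ 2 ∣ orderOf ((y ^ orderOf (π y) : CJ) : G) :=
    (hker _).1 (by rw [map_pow, pow_orderOf_eq_one])
  rw [Subgroup.orderOf_coe] at hodd
  have h1 : orderOf y ∣ orderOf (π y) * orderOf (y ^ orderOf (π y)) :=
    orderOf_dvd_of_pow_eq_one (by rw [pow_mul, pow_orderOf_eq_one])
  obtain ⟨k, hk⟩ := D.h_pow
  refine Nat.Coprime.dvd_of_dvd_mul_right ?_ (h.trans h1)
  rw [hk, ← pow_succ']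
  exact ((Nat.prime_two.coprime_iff_not_dvd).2 hodd).pow_left _

/-- Reflections of the same parity come from one class. -/
theorem conj_of_even {π : CJ →* (P : Subgroup G)}
    (hid : ∀ (x : CJ) (hx : (x : G) ∈ (P : Subgroup G)), π x = ⟨x, hx⟩)
    (hker : ∀ x : CJ, π x = 1 ↔ ¬ 2 ∣ orderOf (x : G)) {u v : CJ} (hu : orderOf (u : G) = 2) (hv : orderOf (v : G) = 2) {a b : ℤ}
    (ha : π u = D.r ^ a * D.s) (hb : π v = D.r ^ b * D.s) (hab : Even (b - a)) :
    (v : G) ∈ cls (dz P D) (u : G) := by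
  obtain ⟨m, hm⟩ := hab
  set R : CJ := ⟨((D.r ^ m : (P : Subgroup G)) : G), sylow_le_centralizer_dz P D (SetLike.coe_mem _)⟩
  set U' : CJ := R * u * R⁻¹ with hU'
  have hπ : π U' = D.r ^ b * D.s := by
    rw [hU', map_mul, map_mul, map_inv, ha,
      show π R = D.r ^ m from hid R (D.r ^ m : (P : Subgroup G)).2, D.conj_refl,
      show a + 2 * m = b by omega]
  have hu'2 : orderOf ((U' : CJ) : G) = 2 := (orderOf_conj_eq _ _).trans hu
  have hodd : Odd (orderOf (((U' : CJ) : G) * (v : G))) := by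
    rw [← Nat.not_even_iff_odd, even_iff_two_dvd]
    exact (hker (U' * v)).1 (by rw [map_mul, hπ, hb, D.zy_mul_zy, sub_self, zpow_zero])
  obtain ⟨d, hd, hde⟩ := exists_conj_of_odd hu'2 hv hodd
  have hdC : Commute d (dz P D) :=
    Subgroup.mem_centralizer_singleton_iff.1 ((Subgroup.zpowers_le.2 (mul_mem U'.2 v.2)) hd)
  exact ⟨d * (R : G), hdC.mul_left (Subgroup.mem_centralizer_singleton_iff.1 R.2), by
    rw [← hde, hU', Subgroup.coe_mul, Subgroup.coe_mul, Subgroup.coe_inv]; group⟩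

/-- Conjugation in the Sylow subgroup keeps the parity of a reflection. -/
theorem parity_conj {e : (P : Subgroup G)} {a b : ℤ}
    (h : e * (D.r ^ a * D.s) * e⁻¹ = D.r ^ b * D.s) : Even (b - a) := by
  rcases D.cases e with ⟨i, rfl⟩ | ⟨i, rfl⟩
  · rw [D.conj_refl, mul_left_inj, D.zpow_eq_iff] at h
    obtain ⟨c, hc⟩ := h
    exact ⟨i + (D.h : ℤ) * c, by linarith⟩
  · rw [D.zy_inv, D.zy_mul_zy, ← mul_assoc, ← zpow_add, mul_left_inj, D.zpow_eq_iff] at h
    obtain ⟨c, hc⟩ := h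
    exact ⟨i - a + (D.h : ℤ) * c, by linarith⟩

end retraction

/-- Two involutions of the centralizer have product with 2-part of order `2h` exactly when they are
not conjugate there. -/
theorem q_dvd_mul_iff {v u : G} (hv : v ∈ invSet (dz P D)) (hu : u ∈ invSet (dz P D)) :
    2 * D.h ∣ orderOf (v * u) ↔ u ∉ cls (dz P D) v := by
  obtain ⟨π, hid, hker⟩ := exists_retraction P D
  obtain ⟨hv2, hvJ, hvne⟩ := hv
  obtain ⟨hu2, huJ, hune⟩ := hu
  set V : CJ := ⟨v, Subgroup.mem_centralizer_singleton_iff.2 hvJ.eq⟩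
  set U : CJ := ⟨u, Subgroup.mem_centralizer_singleton_iff.2 huJ.eq⟩
  obtain ⟨a, ha⟩ := retract_reflection P D hid hker (u := V) hv2 hvne
  obtain ⟨b, hb⟩ := retract_reflection P D hid hker (u := U) hu2 hune
  have h1 := q_dvd_orderOf_iff P D hker (V * U)
  rw [map_mul, ha, hb, D.zy_mul_zy, q_dvd_orderOf_zpow P D] at h1
  rw [show v * u = ((V * U : CJ) : G) from rfl, h1]
  constructor
  · rintro hodd ⟨x, hx, hxe⟩
    have h2 := congrArg π (show (⟨x, Subgroup.mem_centralizer_singleton_iff.2 hx.eq⟩ : CJ) * V *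
      (⟨x, Subgroup.mem_centralizer_singleton_iff.2 hx.eq⟩ : CJ)⁻¹ = U from Subtype.ext hxe)
    rw [map_mul, map_mul, map_inv, ha, hb] at h2
    exact Int.not_even_iff_odd.2 hodd (by simpa using (parity_conj P D h2).neg)
  · intro hn
    rw [← Int.not_even_iff_odd]
    exact fun he => hn (conj_of_even P D hid hker hv2 hu2 ha hb (by simpa using he.neg))

theorem dt_mem_invSet (i : ℤ) : dt P D i ∈ invSet (dz P D) :=
  ⟨(Subgroup.orderOf_coe _).trans (D.orderOf_zy i),
    Subgroup.mem_centralizer_singleton_iff.1 (sylow_le_centralizer_dz P D (SetLike.coe_mem _)),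
    fun e => D.ne_zpow i _ (Subtype.ext e)⟩

/-- The two classes. -/
theorem invSet_eq (j : ℤ) :
    invSet (dz P D) = cls (dz P D) (dt P D j) ∪ cls (dz P D) (dt P D (j + 1)) ∧
      Disjoint (cls (dz P D) (dt P D j)) (cls (dz P D) (dt P D (j + 1))) := by
  obtain ⟨π, hid, hker⟩ := exists_retraction P D
  let T : ℤ → CJ := fun i => ⟨dt P D i, sylow_le_centralizer_dz P D (SetLike.coe_mem _)⟩
  have hT : ∀ i, π (T i) = D.r ^ i * D.s :=
    fun i => hid (T i) (D.r ^ i * D.s : (P : Subgroup G)).2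
  refine ⟨?_, ?_⟩
  · ext u
    constructor
    · intro hu
      obtain ⟨hu2, huJ, hne⟩ := hu
      set U : CJ := ⟨u, Subgroup.mem_centralizer_singleton_iff.2 huJ.eq⟩
      obtain ⟨i, hi⟩ := retract_reflection P D hid hker (u := U) hu2 hne
      rcases Int.even_or_odd (i - j) with he | ho
      · exact Or.inl (conj_of_even P D hid hker (u := T j) (v := U) (dt_mem_invSet P D j).1 hu2
          (hT j) hi he)
      · exact Or.inr (conj_of_even P D hid hker (u := T (j + 1)) (v := U)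
          (dt_mem_invSet P D (j + 1)).1 hu2 (hT (j + 1)) hi (by
            obtain ⟨c, hc⟩ := ho
            exact ⟨c, by omega⟩))
    · have key : ∀ i, cls (dz P D) (dt P D i) ⊆ invSet (dz P D) := by
        rintro i _ ⟨x, hx, rfl⟩
        obtain ⟨h1, h2, h3⟩ := dt_mem_invSet P D i
        refine ⟨(orderOf_conj_eq _ _).trans h1, (hx.mul_left h2).mul_left hx.inv_left, fun e => h3 ?_⟩
        calc dt P D i = x⁻¹ * (x * dt P D i * x⁻¹) * x := by group
          _ = x⁻¹ * (dz P D * x) := by rw [e, mul_assoc]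
          _ = dz P D := by rw [← hx.eq, inv_mul_cancel_left]
      rintro (h | h) <;> exact key _ h
  · rw [Set.disjoint_left]
    intro u hu hu'
    have h1 : dt P D (j + 1) ∈ cls (dz P D) (dt P D j) := by
      rw [← cls_eq hu, cls_eq hu']
      exact mem_cls_self _ _
    obtain ⟨x, hx, hxe⟩ := h1
    have h2 := congrArg π (show (⟨x, Subgroup.mem_centralizer_singleton_iff.2 hx.eq⟩ : CJ) * T j *
      (⟨x, Subgroup.mem_centralizer_singleton_iff.2 hx.eq⟩ : CJ)⁻¹ = T (j + 1) from Subtype.ext hxe)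
    rw [map_mul, map_mul, map_inv, hT, hT] at h2
    obtain ⟨c, hc⟩ := parity_conj P D h2
    omega

theorem card_pair_conj (g a b : G) :
    Nat.card (Subgroup.centralizer ({g * a * g⁻¹, g * b * g⁻¹} : Set G)) =
      Nat.card (Subgroup.centralizer ({a, b} : Set G)) := by
  refine (Nat.card_congr (Equiv.subtypeEquiv (MulAut.conj g).toEquiv fun x => ?_)).symm
  have key : ∀ c : G, Commute c x ↔ Commute (g * c * g⁻¹) (g * x * g⁻¹) :=
    fun c => (Commute.conj_iff g).symm
  simp only [Subgroup.mem_centralizer_iff, Set.mem_insert_iff, Set.mem_singleton_iff,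
    forall_eq_or_imp, forall_eq]
  exact and_congr (key a) (key b)

/-- **The pairs with product of largest 2-part.** -/
theorem count_full_pairs (hh : 2 ≤ D.h)
    (hone : ∀ s t : G, orderOf s = 2 → orderOf t = 2 → IsConj s t) (j : ℤ) :
    {u : G | orderOf u = 2 ∧ 2 * D.h ∣ orderOf (dz P D * u)}.ncard =
      2 * (cls (dz P D) (dt P D j)).ncard * (cls (dz P D) (dt P D (j + 1))).ncard := by
  classical
  have := Fintype.ofFinite G
  set J := dz P D with hJ
  have hJ2 : orderOf J = 2 := (Subgroup.orderOf_coe _).trans D.orderOf_z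
  set I := (invSet J).toFinite.toFinset with hI
  have hImem : ∀ {z}, z ∈ I → z ∈ invSet J := fun hz => (Set.Finite.mem_toFinset _).1 hz
  let A : G → Finset G := fun z => Finset.univ.filter fun u =>
    orderOf u = 2 ∧ 2 * D.h ∣ orderOf (J * u) ∧ z ∈ Subgroup.zpowers (J * u)
  have hq2 : 2 ∣ 2 * D.h := dvd_mul_right 2 D.h
  have hN : {u : G | orderOf u = 2 ∧ 2 * D.h ∣ orderOf (J * u)}.ncard = ∑ z ∈ I, (A z).card := by
    rw [← Finset.card_biUnion]
    · rw [Set.ncard_eq_toFinset_card']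
      congr 1
      ext u
      simp only [Set.mem_toFinset, Finset.mem_biUnion, A, Finset.mem_filter, Finset.mem_univ,
        true_and, Set.mem_ofPred_eq, I, Set.Finite.mem_toFinset]
      constructor
      · rintro ⟨hu, he⟩
        obtain ⟨z, hz, hz2⟩ := exists_invol_zpowers (hq2.trans he)
        have hzJ : Commute z J := by
          obtain ⟨i, hi⟩ := hz
          have h1 : J * z * J⁻¹ = z⁻¹ := by
            rw [← hi, ← conj_zpow, conj_left_mul hJ2 hu, inv_zpow]
          rw [invol_inv hz2] at h1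
          exact (mul_inv_eq_iff_eq_mul.1 h1).symm
        refine ⟨z, ⟨hz2, hzJ, fun e => ?_⟩, hu, he, hz⟩
        obtain ⟨i, hi⟩ := hz
        have hc : Commute J (J * u) := by
          have h1 : Commute z (J * u) := hi ▸ (Commute.refl (J * u)).zpow_left i
          rwa [e] at h1
        have h2 : (J * u) * (J * u) = 1 := by
          have h3 := conj_left_mul hJ2 hu
          rw [hc.eq, mul_inv_cancel_right] at h3
          exact mul_eq_one_iff_eq_inv.2 h3
        have h5 := Nat.le_of_dvd two_pos (he.trans (orderOf_dvd_of_pow_eq_one (by rw [pow_two, h2])))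
        omega
      · rintro ⟨z, -, hu, he, -⟩
        exact ⟨hu, he⟩
    · intro a ha b hb hab
      rw [Function.onFun, Finset.disjoint_left]
      intro u hua hub
      simp only [A, Finset.mem_filter] at hua hub
      exact hab (invol_zpowers_unique hua.2.2.2 hub.2.2.2 (hImem ha).1 (hImem hb).1)
  have hA : ∀ z ∈ I, (A z).card + (cls J z).ncard = (invSet J).ncard := by
    intro z hz
    obtain ⟨hz2, hzJ, hzne⟩ := hImem hz
    obtain ⟨g, hg⟩ := isConj_iff.1 (hone J z hJ2 hz2)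
    set v := g⁻¹ * J * g with hv
    have hgv : g * v * g⁻¹ = J := by rw [hv]; group
    have hv2 : orderOf v = 2 := by rw [← hJ2, ← hgv, orderOf_conj_eq]
    have hvI : v ∈ invSet J := by
      refine ⟨hv2, ?_, fun e => hzne ?_⟩
      · refine (Commute.conj_iff g).1 ?_
        rw [hgv, hg]
        exact hzJ.symm
      · rw [← hg, ← e, hgv, e]
    have hsub : cls J v ⊆ invSet J := by
      rintro _ ⟨x, hx, rfl⟩
      refine ⟨(orderOf_conj_eq _ _).trans hv2, (hx.mul_left hvI.2.1).mul_left hx.inv_left,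
        fun e => hvI.2.2 ?_⟩
      calc v = x⁻¹ * (x * v * x⁻¹) * x := by group
        _ = x⁻¹ * (J * x) := by rw [e, mul_assoc]
        _ = J := by rw [← hx.eq, inv_mul_cancel_left]
    have hcls : (cls J v).ncard = (cls J z).ncard := by
      have h1 := cls_card (J := J) hvI.2.1
      have h2 := cls_card (J := J) hzJ
      have h3 : Nat.card (Subgroup.centralizer ({J, z} : Set G)) =
          Nat.card (Subgroup.centralizer ({J, v} : Set G)) := by
        rw [← card_pair_conj g J v, hg, hgv, Set.pair_comm]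
      rw [h3, ← h1] at h2
      exact (Nat.eq_of_mul_eq_mul_right Nat.card_pos h2).symm
    have himg : (A z : Set G) = (fun x => g * x * g⁻¹) '' (invSet J \ cls J v) := by
      ext u
      simp only [A, Finset.coe_filter, Finset.mem_univ, true_and, Set.mem_ofPred_eq]
      constructor
      · rintro ⟨hu, he, hzm⟩
        obtain ⟨i, hi⟩ := hzm
        have h1 : Commute z (J * u) := hi ▸ (Commute.refl (J * u)).zpow_left i
        have hcu : Commute u z := by
          have := (hzJ.mul_right h1).symm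
          rwa [← mul_assoc, invol_mul_self hJ2, one_mul] at this
        have hune : u ≠ z := by
          intro e
          have h3 : (J * u) * (J * u) = 1 := by
            rw [e, hzJ.mul_mul_mul_comm, invol_mul_self hJ2, invol_mul_self hz2, one_mul]
          have := Nat.le_of_dvd two_pos (he.trans (orderOf_dvd_of_pow_eq_one (by rw [pow_two, h3])))
          omega
        have hu'I : g⁻¹ * u * g ∈ invSet J := by
          refine ⟨?_, ?_, fun e => hune ?_⟩
          · rw [← hu, ← orderOf_conj_eq g⁻¹ u, inv_inv]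
          · refine (Commute.conj_iff g).1 ?_
            rw [show g * (g⁻¹ * u * g) * g⁻¹ = u by group, hg]
            exact hcu
          · rw [← hg, ← e]; group
        refine ⟨g⁻¹ * u * g, ⟨hu'I, (q_dvd_mul_iff P D hvI hu'I).1 ?_⟩, by group⟩
        rw [← orderOf_conj_eq g, show g * (v * (g⁻¹ * u * g)) * g⁻¹ = (g * v * g⁻¹) * u by group, hgv]
        exact he
      · rintro ⟨w, ⟨hwI, hw⟩, rfl⟩
        have hq := (q_dvd_mul_iff P D hvI hwI).2 hw
        have hconj : J * (g * w * g⁻¹) = g * (v * w) * g⁻¹ := by rw [← hgv]; group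
        refine ⟨(orderOf_conj_eq _ _).trans hwI.1, by rwa [hconj, orderOf_conj_eq], ?_⟩
        obtain ⟨i, hi⟩ := dz_mem_zpowers_mul P D hv2 hwI.1 hvI.2.1 hwI.2.1 hvI.2.2 hwI.2.2
          (hq2.trans hq)
        refine ⟨i, ?_⟩
        show (J * (g * w * g⁻¹)) ^ i = z
        rw [hconj, conj_zpow, show (v * w) ^ i = J from hi, hg]
    rw [← Set.ncard_coe_finset, himg,
      Set.ncard_image_of_injective _ (fun a b e => mul_left_cancel (mul_right_cancel e)), ← hcls,
      Set.ncard_sdiff_add_ncard_of_subset hsub]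
  obtain ⟨hU, hdis⟩ := invSet_eq P D j
  rw [← hJ] at hU hdis
  set K := cls J (dt P D j) with hK
  set K' := cls J (dt P D (j + 1)) with hK'
  have hZ : (invSet J).ncard = K.ncard + K'.ncard := by rw [hU, Set.ncard_union_eq hdis]
  have hsum : ∑ z ∈ I, (cls J z).ncard = K.ncard ^ 2 + K'.ncard ^ 2 := by
    have hIeq : I = K.toFinite.toFinset ∪ K'.toFinite.toFinset := by
      ext x; simp [I, hU]
    rw [hIeq, Finset.sum_union (by
      rw [Finset.disjoint_left]
      intro x hx hx'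
      exact Set.disjoint_left.1 hdis (K.toFinite.mem_toFinset.1 hx) (K'.toFinite.mem_toFinset.1 hx')),
      Finset.sum_congr (s₁ := K.toFinite.toFinset) rfl (g := fun _ => K.ncard) (fun x hx => by
        rw [cls_eq (K.toFinite.mem_toFinset.1 hx)]),
      Finset.sum_congr (s₁ := K'.toFinite.toFinset) rfl (g := fun _ => K'.ncard) (fun x hx => by
        rw [cls_eq (K'.toFinite.mem_toFinset.1 hx)]),
      Finset.sum_const, Finset.sum_const, ← Set.ncard_eq_toFinset_card _ K.toFinite,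
      ← Set.ncard_eq_toFinset_card _ K'.toFinite, smul_eq_mul, smul_eq_mul]
    ring
  have htot := Finset.sum_congr (rfl : I = I) hA
  rw [Finset.sum_add_distrib, ← hN, hsum, Finset.sum_const, smul_eq_mul, hI,
    ← Set.ncard_eq_toFinset_card _ (invSet J).toFinite, hZ] at htot
  nlinarith [htot]

variable {M : Ideal AlgInt} [M.IsPrime] (hM : IsPModular 2 M) (hh : 2 ≤ D.h)

/-- The weight which picks the odd powers of the rotation. -/
noncomputable def oddWeight (χ : IrrCharacter G) : ℂ :=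
  ∑ k ∈ Finset.range D.h, (χ : G → ℂ) (rot P D ^ (2 * k + 1))

include hM hh

open scoped Classical in
theorem sum_oddWeight_mul (hone : ∀ s t : G, orderOf s = 2 → orderOf t = 2 → IsConj s t) (g : G) :
    ∑ χ ∈ (principalBlock M G).toFinite.toFinset, oddWeight P D χ * (χ : G → ℂ) g =
      ((2 * (2 * D.h) : ℕ) : ℂ) * (if 2 * D.h ∣ orderOf g then 1 else 0) := by
  have : Fact (Nat.Prime 2) := ⟨Nat.prime_two⟩
  have hnd : ∀ k : ℕ, ¬ 2 * D.h ∣ 2 * k + 1 := fun k h => by
    have := (dvd_mul_right 2 D.h).trans h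
    omega
  simp only [oddWeight, Finset.sum_mul]
  rw [Finset.sum_comm]
  by_cases hg : 2 ∣ orderOf g
  · obtain ⟨w, hw⟩ := exists_isPPart Nat.prime_two g
    obtain ⟨y, hy, hc, hk, hyr⟩ := id hw
    have hw1 : w ≠ 1 := by
      rintro rfl
      rw [one_mul] at hy
      exact hyr (hy ▸ hg)
    obtain ⟨m, hm, hcm⟩ := exists_conj_rot P D hone hk hw1
    obtain ⟨a, ha⟩ := isConj_iff.1 hcm.symm
    have hval : ∀ χ ∈ (principalBlock M G).toFinite.toFinset,
        (χ : G → ℂ) g = (χ : G → ℂ) (rot P D ^ m) := by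
      intro χ hχ
      rw [← CfsgLib.Char.irr_isClassFunction χ.2 g a, ← hy,
        show a * (w * y) * a⁻¹ = (a * w * a⁻¹) * (a * y * a⁻¹) by group, ha]
      refine (principal_section hM (orderOf_rot_pow_two P D m) (complement_rot_all P D hm)).1 χ
        ((Set.Finite.mem_toFinset _).1 hχ) _ ?_ ?_
      · rw [← ha]; exact hc.map (MulAut.conj a).toMonoidHom
      · rwa [show a * y * a⁻¹ = MulAut.conj a y from rfl, MulEquiv.orderOf_eq]
    obtain ⟨k2, hk2⟩ := exists_pow_two_q P D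
    have hiff : 2 * D.h ∣ orderOf g ↔ Odd m := by
      have hwo : orderOf w = orderOf (rot P D ^ m) := by rw [← ha, orderOf_conj_eq]
      obtain ⟨e, he⟩ := hk
      have hcop : Nat.Coprime (orderOf w) (orderOf y) :=
        he ▸ ((Nat.prime_two.coprime_iff_not_dvd).2 hyr).pow_left _
      have hcop' : Nat.Coprime (2 * D.h) (orderOf y) :=
        hk2 ▸ ((Nat.prime_two.coprime_iff_not_dvd).2 hyr).pow_left _
      rw [← hy, hc.orderOf_mul_eq_mul_orderOf_of_coprime hcop, hcop'.dvd_mul_right, hwo,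
        ← Int.odd_coe_nat, ← q_dvd_orderOf_zpow P D, zpow_natCast, ← SubmonoidClass.coe_pow,
        Subgroup.orderOf_coe]
    have hm0 : m % (2 * D.h) < 2 * D.h := Nat.mod_lt _ (by omega)
    have hmm : rot P D ^ m = rot P D ^ (m % (2 * D.h)) := by
      conv_lhs => rw [← pow_mod_orderOf, orderOf_rot]
    have hpar : m % (2 * D.h) % 2 = m % 2 := Nat.mod_mod_of_dvd m (dvd_mul_right 2 D.h)
    have hinj : ∀ i j, i < 2 * D.h → j < 2 * D.h → rot P D ^ i = rot P D ^ j → i = j :=
      fun i j hi hj h => pow_injOn_Iio_orderOf (show i < orderOf (rot P D) by rwa [orderOf_rot])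
        (show j < orderOf (rot P D) by rwa [orderOf_rot]) h
    have hinv : ∀ l, l ≤ 2 * D.h → (rot P D ^ l)⁻¹ = rot P D ^ (2 * D.h - l) := fun l hl =>
      inv_eq_of_mul_eq_one_right (by rw [← pow_add, Nat.add_sub_cancel' hl, rot_pow_eq_one_iff])
    rw [Finset.sum_congr rfl (g := fun k => ((2 * D.h : ℕ) : ℂ) *
        ((if rot P D ^ m = rot P D ^ (2 * k + 1) then 1 else 0) +
          (if rot P D ^ m = (rot P D ^ (2 * k + 1))⁻¹ then 1 else 0))) (fun k _ => by
        rw [← sum_val_mul P D hh (hnd k) hm hM]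
        exact Finset.sum_congr rfl fun χ hχ => by rw [hval χ hχ]),
      ← Finset.mul_sum, Finset.sum_add_distrib]
    rcases Nat.even_or_odd m with hev | hod
    · rw [if_neg (fun h => Nat.not_even_iff_odd.2 (hiff.1 h) hev)]
      have hm2 : m % 2 = 0 := Nat.even_iff.1 hev
      rw [Finset.sum_eq_zero, Finset.sum_eq_zero]
      · simp
      · intro k hk
        have hk' := Finset.mem_range.1 hk
        refine if_neg fun h => ?_
        rw [hmm, hinv _ (by omega)] at h
        have := hinj _ _ hm0 (by omega) h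
        omega
      · intro k hk
        have hk' := Finset.mem_range.1 hk
        refine if_neg fun h => ?_
        rw [hmm] at h
        have := hinj _ _ hm0 (by omega) h
        omega
    · rw [if_pos (hiff.2 hod)]
      have hm2 : m % 2 = 1 := Nat.odd_iff.1 hod
      rw [Finset.sum_eq_single (m % (2 * D.h) / 2), Finset.sum_eq_single
        ((2 * D.h - m % (2 * D.h)) / 2), if_pos, if_pos]
      · push_cast; ring
      · rw [hinv _ (by omega), hmm]; congr 1; omega
      · rw [hmm]; congr 1; omega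
      · intro k hk hne
        have hk' := Finset.mem_range.1 hk
        refine if_neg fun h => hne ?_
        rw [hmm, hinv _ (by omega)] at h
        have := hinj _ _ hm0 (by omega) h
        omega
      · exact fun h => absurd (Finset.mem_range.2 (by omega)) h
      · intro k hk hne
        have hk' := Finset.mem_range.1 hk
        refine if_neg fun h => hne ?_
        rw [hmm] at h
        have := hinj _ _ hm0 (by omega) h
        omega
      · exact fun h => absurd (Finset.mem_range.2 (by omega)) h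
  · have horth : ∀ l, ¬ 2 * D.h ∣ l → ∑ χ ∈ (principalBlock M G).toFinite.toFinset,
        (χ : G → ℂ) (rot P D ^ l) * (χ : G → ℂ) g = 0 := by
      intro l hl
      have hd : 2 ∣ orderOf (rot P D ^ l) := by
        obtain ⟨k, hk⟩ := orderOf_rot_pow_two P D l
        rcases k with _ | k
        · exact absurd
            ((rot_pow_eq_one_iff P D l).1 (orderOf_eq_one_iff.1 (hk.trans (pow_zero 2)))) hl
        · exact hk ▸ dvd_pow_self 2 (Nat.succ_ne_zero k)
      have h := sum_block_eq_zero_of_regular_singular hM (isPBlock_principalBlock (M := M)) hg hd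
      rw [finsum_mem_eq_finite_toFinset_sum _ (principalBlock M G).toFinite] at h
      simp only [val_real] at h
      rw [← h]
      exact Finset.sum_congr rfl fun χ _ => mul_comm _ _
    rw [if_neg (fun h => hg ((dvd_mul_right 2 D.h).trans h)), mul_zero]
    exact Finset.sum_eq_zero fun k _ => horth _ (hnd k)

/-- The sum form of the second identity. -/
theorem oddWeight_order_sum (hone : ∀ s t : G, orderOf s = 2 → orderOf t = 2 → IsConj s t) :
    (Nat.card G : ℂ) * ∑ χ ∈ (principalBlock M G).toFinite.toFinset,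
        oddWeight P D χ * (χ : G → ℂ) (dz P D) ^ 2 / (χ : G → ℂ) 1 =
      ((2 * (2 * D.h) : ℕ) : ℂ) * (Nat.card (Subgroup.centralizer ({dz P D} : Set G)) : ℂ) *
        ({u : G | orderOf u = 2 ∧ 2 * D.h ∣ orderOf (dz P D * u)}.ncard : ℂ) := by
  classical
  have := Fintype.ofFinite G
  set J := dz P D with hJ
  have hJ2 : orderOf J = 2 := (Subgroup.orderOf_coe _).trans D.orderOf_z
  set cJ := Nat.card (Subgroup.centralizer ({J} : Set G))
  have hfib : ((Finset.univ.filter fun t => 2 * D.h ∣ orderOf (J * (t * J * t⁻¹))).card : ℂ) =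
        (cJ : ℂ) * ({u : G | orderOf u = 2 ∧ 2 * D.h ∣ orderOf (J * u)}.ncard : ℂ) := by
    rw [← Nat.cast_mul, Nat.cast_inj, Finset.card_eq_sum_card_fiberwise (f := fun t => t * J * t⁻¹)
      (t := {u : G | orderOf u = 2 ∧ 2 * D.h ∣ orderOf (J * u)}.toFinset) fun t ht => by
        simpa [orderOf_conj_eq, hJ2] using (Finset.mem_filter.1 ht).2,
      Finset.sum_congr rfl (g := fun _ => cJ), Finset.sum_const, ← Set.ncard_eq_toFinset_card',
      smul_eq_mul, mul_comm]
    intro u hu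
    simp only [Set.mem_toFinset, Set.mem_ofPred_eq] at hu
    obtain ⟨g, hg⟩ := isConj_iff.1 (hone J u hJ2 hu.1)
    rw [← Fintype.card_coe]
    simp only [cJ, Nat.card_eq_fintype_card]
    refine Fintype.card_congr ?_
    exact
      { toFun := fun t => ⟨g⁻¹ * t.1, Subgroup.mem_centralizer_singleton_iff.2 (by
          have ht : t.1 * J * (t.1)⁻¹ = g * J * g⁻¹ :=
            ((Finset.mem_filter.1 t.2).2).trans hg.symm
          calc g⁻¹ * t.1 * J = g⁻¹ * (t.1 * J * (t.1)⁻¹) * t.1 := by group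
            _ = J * (g⁻¹ * t.1) := by rw [ht]; group)⟩
        invFun := fun c => ⟨g * c.1, by
          have hc := Subgroup.mem_centralizer_singleton_iff.1 c.2
          have he : g * (c : G) * J * (g * (c : G))⁻¹ = u := by
            rw [← hg, mul_assoc g, hc]; group
          simp only [Finset.mem_filter, Finset.mem_univ, true_and]
          exact ⟨by rw [he]; exact hu.2, he⟩⟩
        left_inv := fun t => Subtype.ext (mul_inv_cancel_left g t.1)
        right_inv := fun c => Subtype.ext (inv_mul_cancel_left g c.1) }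
  rw [mul_assoc ((2 * (2 * D.h) : ℕ) : ℂ), ← hfib, ← Finset.sum_boole, Finset.mul_sum,
    Finset.mul_sum,
    Finset.sum_congr (s₁ := (Finset.univ : Finset G)) rfl (g := fun t =>
      ∑ χ ∈ (principalBlock M G).toFinite.toFinset,
        oddWeight P D χ * (χ : G → ℂ) (J * (t * J * t⁻¹))) (fun t _ => by
      rw [sum_oddWeight_mul P D hM hh hone]),
    Finset.sum_comm]
  refine Finset.sum_congr rfl fun χ _ => ?_
  rw [← Finset.mul_sum, CfsgLib.BlockB.sum_irr_mul_conj]
  ring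

variable {χ₁ χ₂ χ₃ : IrrCharacter G} {χ' : ℕ → IrrCharacter G} {δ₁ δ₂ δ₃ : ℤ} {ζ : ℂ}

omit hM in
theorem oddWeight_values (hζ : IsPrimitiveRoot ζ (2 * D.h))
    (S : Shape M P D ζ χ₁ χ₂ χ₃ χ' δ₁ δ₂ δ₃) :
    oddWeight P D χ₁ = D.h * δ₁ ∧ oddWeight P D χ₂ = D.h * δ₂ ∧ oddWeight P D χ₃ = D.h * δ₃ ∧
      ∀ j ∈ Finset.Ico 1 D.h, oddWeight P D (χ' j) = 0 := by
  have hnd : ∀ k : ℕ, ¬ 2 * D.h ∣ 2 * k + 1 := fun k h => by
    have := (dvd_mul_right 2 D.h).trans h
    omega
  have hconst : ∀ (χ : IrrCharacter G) (δ : ℤ),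
      (∀ k : ℕ, (χ : G → ℂ) (rot P D ^ (2 * k + 1)) = δ) → oddWeight P D χ = D.h * δ := by
    intro χ δ hv
    rw [oddWeight, Finset.sum_congr rfl (fun k _ => hv k), Finset.sum_const, Finset.card_range,
      nsmul_eq_mul]
  have hsgn : ∀ k : ℕ, (-1 : ℂ) ^ (2 * k + 1 + 1) = 1 := fun k =>
    Even.neg_one_pow ⟨k + 1, by ring⟩
  refine ⟨hconst _ _ fun k => S.val₁ _ (hnd k),
    hconst _ _ fun k => by rw [S.val₂ _ (hnd k), hsgn, mul_one],
    hconst _ _ fun k => by rw [S.val₃ _ (hnd k), hsgn, mul_one], fun j hj => ?_⟩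
  obtain ⟨hj1, hj2⟩ := Finset.mem_Ico.1 hj
  have hz : ∀ ω : ℂ, ω ^ (2 * D.h) = 1 → ω ^ 2 ≠ 1 →
      ∑ k ∈ Finset.range D.h, ω ^ (2 * k + 1) = 0 := by
    intro ω h h1
    rw [Finset.sum_congr rfl (g := fun k => ω * (ω ^ 2) ^ k) (fun k _ => by
      rw [pow_succ', pow_mul]), ← Finset.mul_sum, sum_pow_root (by rw [← pow_mul, h]), if_neg h1,
      mul_zero]
  have hp : (ζ ^ j) ^ (2 * D.h) = 1 := by rw [← pow_mul, mul_comm, pow_mul, hζ.pow_eq_one, one_pow]
  have hp2 : (ζ ^ j) ^ 2 ≠ 1 := fun h => by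
    rw [← pow_mul, hζ.pow_eq_one_iff_dvd] at h
    have := Nat.le_of_dvd (by omega) h
    omega
  rw [oddWeight, Finset.sum_congr rfl
    (g := fun k => (δ₁ : ℂ) * ((ζ ^ j) ^ (2 * k + 1) + (ζ ^ j)⁻¹ ^ (2 * k + 1)))
    (fun k _ => by rw [S.val' _ (hnd k) j hj, pow_mul, inv_pow (ζ ^ j)]), ← Finset.mul_sum,
    Finset.sum_add_distrib, hz _ hp hp2,
    hz _ (by rw [inv_pow, hp, inv_one]) (fun h => hp2 (inv_eq_one.1 (by rw [← inv_pow]; exact h)))]
  ring

omit hM in
/-- The degree of the first character is congruent to its sign modulo `2h`. -/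
theorem dvd_degree_sub (S : Shape M P D ζ χ₁ χ₂ χ₃ χ' δ₁ δ₂ δ₃) :
    (2 * D.h : ℤ) ∣ (charDegree (χ₁ : G → ℂ) : ℤ) - δ₁ := by
  classical
  obtain ⟨n, ρ, hρ⟩ := CfsgLib.Char.irr_isCharacter χ₁.2
  obtain ⟨ι, hι, B, μ, -, h2, h3, -⟩ := CfsgLib.Char.exists_char_eigen ρ (rot P D)
  rw [orderOf_rot] at h2
  have hsum : ∑ l ∈ Finset.range (2 * D.h), (χ₁ : G → ℂ) (rot P D ^ l) =
      ((2 * D.h : ℕ) : ℂ) * ((Finset.univ.filter fun i => μ i = 1).card : ℂ) := by
    rw [← hρ, Finset.sum_congr rfl fun l _ => h3 l, Finset.sum_comm,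
      Finset.sum_congr rfl fun i _ => sum_pow_root (h2 i), ← Finset.sum_filter, Finset.sum_const,
      nsmul_eq_mul, mul_comm]
  rw [Finset.range_eq_Ico, Finset.sum_eq_sum_Ico_succ_bot (by omega), pow_zero,
    ← CfsgLib.BlockB.irr_degree_cast χ₁,
    Finset.sum_congr rfl (g := fun _ => (δ₁ : ℂ)) (fun l hl => S.val₁ l (fun h => by
      obtain ⟨h1, h2⟩ := Finset.mem_Ico.1 hl
      have := Nat.le_of_dvd (by omega) h
      omega)), Finset.sum_const, Nat.card_Ico, nsmul_eq_mul, Nat.cast_sub (by omega)] at hsum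
  refine ⟨((Finset.univ.filter fun i => μ i = 1).card : ℤ) - δ₁, ?_⟩
  apply Int.cast_injective (α := ℂ)
  push_cast at hsum ⊢
  linear_combination hsum

/-- The second count in the characters. -/
theorem full_pairs_formula (hζ : IsPrimitiveRoot ζ (2 * D.h))
    (S : Shape M P D ζ χ₁ χ₂ χ₃ χ' δ₁ δ₂ δ₃)
    (hone : ∀ s t : G, orderOf s = 2 → orderOf t = 2 → IsConj s t) :
    (Nat.card G : ℂ) * (1 + δ₁ / (χ₁ : G → ℂ) 1 + δ₂ / (χ₂ : G → ℂ) 1 + δ₃ / (χ₃ : G → ℂ) 1) =
      4 * (Nat.card (Subgroup.centralizer ({dz P D} : Set G)) : ℂ) *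
        ({u : G | orderOf u = 2 ∧ 2 * D.h ∣ orderOf (dz P D * u)}.ncard : ℂ) := by
  have hhq : ¬ 2 * D.h ∣ D.h := fun h => by have := Nat.le_of_dvd (by omega) h; omega
  obtain ⟨w1, w2, w3, wl⟩ := oddWeight_values P D hh hζ S
  have hone' : ∀ δ : ℤ, δ = 1 ∨ δ = -1 → (δ : ℂ) ^ 2 = 1 := fun δ h => by
    rcases h with e | e <;> simp [e]
  have hpm : ((-1 : ℂ) ^ (D.h + 1)) ^ 2 = 1 := by
    rw [← pow_mul, mul_comm, pow_mul]; norm_num
  have ht : oddWeight P D (trivIrr : IrrCharacter G) = D.h := by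
    simp [oddWeight, trivIrr]
  have hsum : ∑ χ ∈ (principalBlock M G).toFinite.toFinset,
      oddWeight P D χ * (χ : G → ℂ) (dz P D) ^ 2 / (χ : G → ℂ) 1 =
      (D.h : ℂ) *
        (1 + δ₁ / (χ₁ : G → ℂ) 1 + δ₂ / (χ₂ : G → ℂ) 1 + δ₃ / (χ₃ : G → ℂ) 1) := by
    rw [S.sum_block P D, ht, w1, w2, w3, ← rot_pow_h, S.val₁ _ hhq, S.val₂ _ hhq, S.val₃ _ hhq,
      mul_pow, mul_pow, hone' _ S.sgn₁, hone' _ S.sgn₂, hone' _ S.sgn₃, hpm,
      Finset.sum_eq_zero fun j hj => by rw [wl j hj, zero_mul, zero_div]]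
    simp [trivIrr]
    ring
  have h := oddWeight_order_sum P D hM hh hone
  rw [hsum] at h
  have hh0 : (D.h : ℂ) ≠ 0 := Nat.cast_ne_zero.2 (by omega)
  refine mul_left_cancel₀ hh0 ?_
  push_cast at h
  linear_combination h

end CfsgLib.GW.IdentityI

namespace CfsgLib.GW

open Cfsg CfsgLib.Invol CfsgLib.Block CfsgLib.BlockA.DihedralBlock

universe u

/-- **Identity (I).** With `x = χ₁(1)`, `u = -δ₁δ₂χ₂(1)`, `v = -δ₁δ₃χ₃(1)` and the orders `c`,
`c'` of the centralisers of the two kinds of four-groups. -/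
theorem identity_I {G : Type u} [Group G] [Finite G] {M : Ideal AlgInt} [M.IsPrime]
    (hM : IsPModular 2 M) (P : Sylow 2 G) (D : DihData (P : Subgroup G)) (hh : 2 ≤ D.h) {ζ : ℂ}
    (hζ : IsPrimitiveRoot ζ (2 * D.h)) {χ₁ χ₂ χ₃ : IrrCharacter G} {χ' : ℕ → IrrCharacter G}
    {δ₁ δ₂ δ₃ : ℤ} (S : Shape M P D ζ χ₁ χ₂ χ₃ χ' δ₁ δ₂ δ₃)
    (hone : ∀ s t : G, orderOf s = 2 → orderOf t = 2 → IsConj s t) (j : ℤ)
    (x u v : ℤ) (hx : x = (charDegree (χ₁ : G → ℂ) : ℤ))
    (hu : u = -δ₁ * δ₂ * (charDegree (χ₂ : G → ℂ) : ℤ))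
    (hv : v = -δ₁ * δ₃ * (charDegree (χ₃ : G → ℂ) : ℤ)) :
    u + v = x + δ₁ ∧ Odd x ∧ (2 * D.h : ℤ) ∣ x - δ₁ ∧
      (1 / (Nat.card (Subgroup.centralizer ({dz P D, dt P D j} : Set G)) : ℚ) -
          1 / (Nat.card (Subgroup.centralizer ({dz P D, dt P D (j + 1)} : Set G)) : ℚ)) ^ 2 *
          u * v * ((x : ℚ) - δ₁) ^ 2 =
        (δ₁ : ℚ) * x * ((u : ℚ) - v) ^ 2 *
          (1 / (Nat.card (Subgroup.centralizer ({dz P D, dt P D j} : Set G)) : ℚ) +
            1 / (Nat.card (Subgroup.centralizer ({dz P D, dt P D (j + 1)} : Set G)) : ℚ)) ^ 2 := by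
  classical
  have hdvd := IdentityI.dvd_degree_sub P D hh S
  rw [← hx] at hdvd
  have hP : u + v = x + δ₁ := by
    have h := (S.rel 1 (by rw [orderOf_one]; norm_num) 1
      (Finset.mem_Ico.2 ⟨le_rfl, by omega⟩)).1
    rw [← CfsgLib.BlockB.irr_degree_cast χ₁, ← CfsgLib.BlockB.irr_degree_cast χ₂,
      ← CfsgLib.BlockB.irr_degree_cast χ₃] at h
    apply Int.cast_injective (α := ℂ)
    rw [hu, hv, hx]
    push_cast
    rcases S.sgn₁ with e | e <;> rw [e] at h ⊢ <;> push_cast at h ⊢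
    · linear_combination -h
    · linear_combination h
  have hodd : Odd x := by
    obtain ⟨c, hc⟩ := hdvd
    rw [mul_assoc] at hc
    rw [Int.odd_iff]
    rcases S.sgn₁ with e | e <;> rw [e] at hc <;> omega
  refine ⟨hP, hodd, hdvd, ?_⟩
  obtain ⟨hU, hdis⟩ := IdentityI.invSet_eq P D j
  have hK := IdentityI.cls_card (IdentityI.dt_mem_invSet P D j).2.1
  have hK' := IdentityI.cls_card (IdentityI.dt_mem_invSet P D (j + 1)).2.1
  have hN := IdentityI.count_full_pairs P D hh hone j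
  have hE := IdentityI.full_pairs_formula P D hM hh hζ S hone
  have hZQ := ncard_invSet_dz P D
  obtain ⟨-, hE1⟩ := order_formula hM P D hh hζ S hone
  rw [← CfsgLib.BlockB.irr_degree_cast χ₁, ← CfsgLib.BlockB.irr_degree_cast χ₂,
    ← CfsgLib.BlockB.irr_degree_cast χ₃, hN] at hE
  set a := (IdentityI.cls (dz P D) (dt P D j)).ncard
  set b := (IdentityI.cls (dz P D) (dt P D (j + 1))).ncard
  set c := Nat.card (Subgroup.centralizer ({dz P D, dt P D j} : Set G))
  set c' := Nat.card (Subgroup.centralizer ({dz P D, dt P D (j + 1)} : Set G))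
  set cJ := Nat.card (Subgroup.centralizer ({dz P D} : Set G))
  set s := charDegree (χ₁ : G → ℂ)
  set y := charDegree (χ₂ : G → ℂ)
  set w := charDegree (χ₃ : G → ℂ)
  have hs0 : (s : ℚ) ≠ 0 := Nat.cast_ne_zero.2 (CfsgLib.BlockB.irr_degree_ne_zero χ₁)
  have hsC : (s : ℂ) ≠ 0 := Nat.cast_ne_zero.2 (CfsgLib.BlockB.irr_degree_ne_zero χ₁)
  have hyC : (y : ℂ) ≠ 0 := Nat.cast_ne_zero.2 (CfsgLib.BlockB.irr_degree_ne_zero χ₂)
  have hwC : (w : ℂ) ≠ 0 := Nat.cast_ne_zero.2 (CfsgLib.BlockB.irr_degree_ne_zero χ₃)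
  have hE2 : (Nat.card G : ℚ) * ((s : ℚ) * y * w + δ₁ * y * w + δ₂ * s * w + δ₃ * s * y) =
      8 * cJ * a * b * (s * y * w) := by
    have h' : (Nat.card G : ℤ) * ((s : ℤ) * y * w + δ₁ * y * w + δ₂ * s * w + δ₃ * s * y) =
        8 * cJ * a * b * (s * y * w) := by
      apply Int.cast_injective (α := ℂ)
      push_cast at hE ⊢
      field_simp at hE
      linear_combination hE
    exact_mod_cast h'
  have hcJ : (cJ : ℚ) ≠ 0 := Nat.cast_ne_zero.2 Nat.card_pos.ne'
  have hc : (1 : ℚ) / c = a / cJ := by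
    rw [div_eq_div_iff (Nat.cast_ne_zero.2 Nat.card_pos.ne') hcJ, one_mul]
    exact_mod_cast hK.symm
  have hc' : (1 : ℚ) / c' = b / cJ := by
    rw [div_eq_div_iff (Nat.cast_ne_zero.2 Nat.card_pos.ne') hcJ, one_mul]
    exact_mod_cast hK'.symm
  rw [hU, Set.ncard_union_eq hdis, Nat.cast_add] at hZQ
  have hsumQ : 1 / (Nat.card (Subgroup.centralizer ({dz P D, dt P D 0} : Set G)) : ℚ) +
      1 / (Nat.card (Subgroup.centralizer ({dz P D, dt P D 1} : Set G)) : ℚ) = (a + b) / cJ := by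
    rw [eq_div_iff hcJ, mul_comm]
    exact hZQ.symm
  rw [hsumQ] at hE1
  rw [hc, hc', hu, hv, hx]
  have hE1' : (Nat.card G : ℚ) * ((s : ℚ) - δ₁) ^ 2 =
      2 * s * ((s : ℚ) + δ₁) * cJ * ((a : ℚ) + b) ^ 2 := by
    rw [hE1]; field_simp
  have hPQ : -(δ₁ : ℚ) * δ₂ * y + -(δ₁ : ℚ) * δ₃ * w = (s : ℚ) + δ₁ := by
    have := congrArg (fun n : ℤ => (n : ℚ)) hP
    rw [hu, hv, hx] at this
    push_cast at this
    linear_combination this
  have d1 : (δ₁ : ℚ) ^ 2 = 1 := by rcases S.sgn₁ with e | e <;> simp [e]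
  have hδ : (δ₂ : ℚ) * δ₃ ≠ 0 := by
    rcases S.sgn₂ with e | e <;> rcases S.sgn₃ with e' | e' <;> simp [e, e']
  set U : ℚ := -(δ₁ : ℚ) * δ₂ * y with hUdef
  set V : ℚ := -(δ₁ : ℚ) * δ₃ * w with hVdef
  have hE2' : (Nat.card G : ℚ) * ((s : ℚ) + δ₁) * (U * V - δ₁ * s) = 8 * cJ * a * b * s * (U * V) := by
    have d2 : (δ₂ : ℚ) ^ 2 = 1 := by rcases S.sgn₂ with e | e <;> simp [e]
    have d3 : (δ₃ : ℚ) ^ 2 = 1 := by rcases S.sgn₃ with e | e <;> simp [e]
    rw [hUdef, hVdef]
    linear_combination (δ₂ : ℚ) * δ₃ * hE2 + (Nat.card G : ℚ) * δ₁ * s * hPQ +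
      ((Nat.card G : ℚ) * s * (δ₂ * y + δ₃ * w) +
        ((Nat.card G : ℚ) * (s + δ₁) - 8 * cJ * a * b * s) * (δ₂ * δ₃ * y * w)) * d1 -
      (Nat.card G : ℚ) * s * δ₃ * w * d2 - (Nat.card G : ℚ) * s * δ₂ * y * d3
  have key : 2 * s * cJ * (((a : ℚ) - b) ^ 2 * U * V * ((s : ℚ) - δ₁) ^ 2) =
      2 * s * cJ * ((δ₁ : ℚ) * s * (U - V) ^ 2 * ((a : ℚ) + b) ^ 2) := by
    linear_combination (-((s : ℚ) + δ₁) * (U * V - δ₁ * s)) * hE1' +
      ((s : ℚ) - δ₁) ^ 2 * hE2' -
      (2 * s * cJ * δ₁ * s * ((a : ℚ) + b) ^ 2 * (U + V + ((s : ℚ) + δ₁))) * hPQ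
  have key' := mul_left_cancel₀ (mul_ne_zero (mul_ne_zero two_ne_zero hs0) hcJ) key
  push_cast
  rw [hUdef, hVdef] at key'
  field_simp
  linear_combination key'

end CfsgLib.GW
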