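import Cfsg.Agent.Lib.GW.TwoClassSmall
import Cfsg.Agent.Lib.BlockA.DihedralShape
import Cfsg.Agent.Lib.BlockA.Galois
import Cfsg.Agent.Lib.BlockB.PrincipalLambda
import Cfsg.Agent.Lib.BlockB.GaloisDegree
import Mathlib.Data.ZMod.Units

/-!
The first character of the principal 2-block of a minimal counterexample: constant on two-sections,
faithful, and rational on elements of odd order.
-/

set_option autoImplicit false
set_option linter.unusedSectionVars false
set_option linter.style.haveILetI false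

namespace CfsgLib.GW.TwoClassChar

open Cfsg CfsgLib.Invol CfsgLib.Block CfsgLib.BlockA.DihedralBlock
open scoped ComplexConjugate

universe u

variable {G : Type u} [Group G] [Finite G]

/-- A power map prime to the order keeps the principal block. -/
theorem comp_pow_mem_principalBlock {p : ℕ} {M : Ideal AlgInt} (hM : IsPModular p M) {k : ℕ}
    (hk : k.Coprime (Nat.card G)) {χ : IrrCharacter G} (hχ : χ ∈ principalBlock M G) :
    (⟨fun g => (χ : G → ℂ) (g ^ k), CfsgLib.BlockA.isIrrCharacter_comp_pow hk χ.2⟩ :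
      IrrCharacter G) ∈ principalBlock M G := by
  have := Fintype.ofFinite G
  rw [CfsgLib.BlockB.mem_principalBlock_iff_regTotal hM] at hχ ⊢
  suffices h : CfsgLib.BlockB.regTotal p (fun g => (χ : G → ℂ) (g ^ k)) =
      CfsgLib.BlockB.regTotal p (χ : G → ℂ) by
    exact fun e => hχ (h.symm.trans e)
  refine Fintype.sum_equiv (powCoprime hk.symm) _ _ fun g => ?_
  show _ = CfsgLib.BlockA.regInd p (g ^ k) * (χ : G → ℂ) (g ^ k)
  congr 1
  unfold CfsgLib.BlockA.regInd
  rw [Nat.Coprime.orderOf_pow (Nat.Coprime.coprime_dvd_right (orderOf_dvd_natCard g) hk).symm]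

/-- An exponent prime to an element's order lifts to one prime to the group's order. -/
theorem exists_lift_pow {g : G} {i : ℕ} (hi : i.Coprime (orderOf g)) :
    ∃ m : ℕ, m.Coprime (Nat.card G) ∧ g ^ m = g ^ i := by
  haveI : NeZero (Nat.card G) := ⟨Nat.card_pos.ne'⟩
  haveI : NeZero (orderOf g) := ⟨(orderOf_pos g).ne'⟩
  obtain ⟨v, hv⟩ := ZMod.unitsMap_surjective (orderOf_dvd_natCard g) (ZMod.unitOfCoprime i hi)
  refine ⟨(v : ZMod (Nat.card G)).val, ZMod.val_coe_unit_coprime v, ?_⟩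
  rw [pow_eq_pow_iff_modEq, ← ZMod.natCast_eq_natCast_iff]
  have h := congrArg (Units.val) hv
  rw [ZMod.coe_unitOfCoprime, ZMod.unitsMap_def, Units.coe_map] at h
  rw [← h, ZMod.natCast_val]
  rfl

variable (P : Sylow 2 G) (D : DihData (P : Subgroup G))

theorem not_dvd_mul_of_coprime {m l : ℕ} (hm : m.Coprime (Nat.card G)) (hl : ¬ 2 * D.h ∣ l) :
    ¬ 2 * D.h ∣ l * m := by
  intro h
  have hdvd : 2 * D.h ∣ Nat.card G := by
    rw [← orderOf_rot P D]; exact orderOf_dvd_natCard _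
  exact hl ((Nat.Coprime.coprime_dvd_right hdvd hm).symm.dvd_of_dvd_mul_right h)

/-- The first character of the principal block is a `CharData`. -/
theorem charData_chi1 (hG : Min G) {M : Ideal AlgInt} [M.IsPrime] (hM : IsPModular 2 M)
    (hh : 2 ≤ D.h) {ζ : ℂ} (hζ : IsPrimitiveRoot ζ (2 * D.h))
    {χ₁ χ₂ χ₃ : IrrCharacter G} {χ' : ℕ → IrrCharacter G} {δ₁ δ₂ δ₃ : ℤ}
    (S : Shape M P D ζ χ₁ χ₂ χ₃ χ' δ₁ δ₂ δ₃) :
    TwoClassSmall.CharData (χ₁ : G → ℂ) (charDegree (χ₁ : G → ℂ)) := by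
  haveI := hG.simple
  have : Fact (Nat.Prime 2) := ⟨Nat.prime_two⟩
  have hB : χ₁ ∈ principalBlock M G := (S.block_eq χ₁).2 (Or.inr (Or.inl rfl))
  have hnd : ¬ 2 * D.h ∣ 1 := fun h => by have := Nat.le_of_dvd one_pos h; omega
  have hndh : ¬ 2 * D.h ∣ D.h := fun h => by have := Nat.le_of_dvd D.h_pos h; omega
  refine ⟨CfsgLib.Char.irr_isCharacter χ₁.2, (CfsgLib.BlockB.irr_degree_cast χ₁).symm, ?_, ?_, ?_⟩
  · intro u v hu hu2 hv huv
    obtain ⟨m, hm⟩ := hu2
    obtain ⟨k, -, hk⟩ := (Nat.dvd_prime_pow Nat.prime_two).1 (orderOf_dvd_of_pow_eq_one hm)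
    obtain ⟨l, hl, hc⟩ := exists_conj_rot P D (fun s t hs ht => hG.one_class hs ht) ⟨k, hk⟩ hu
    obtain ⟨g, rfl⟩ := isConj_iff.1 hc
    have h := (principal_section hM (orderOf_rot_pow_two P D l) (complement_rot_all P D hl)).1 χ₁ hB
      (g⁻¹ * v * g) (by
        show rot P D ^ l * (g⁻¹ * v * g) = g⁻¹ * v * g * rot P D ^ l
        calc rot P D ^ l * (g⁻¹ * v * g) = g⁻¹ * (g * rot P D ^ l * g⁻¹ * v) * g := by group
          _ = g⁻¹ * (v * (g * rot P D ^ l * g⁻¹)) * g := by rw [huv]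
          _ = g⁻¹ * v * g * rot P D ^ l := by group)
      (by
        rw [show g⁻¹ * v * g = g⁻¹ * v * g⁻¹⁻¹ by group, orderOf_conj_eq]
        exact fun h2 => Nat.not_even_iff_odd.2 hv (even_iff_two_dvd.2 h2))
    have hcl := CfsgLib.Char.irr_isClassFunction χ₁.2
    calc (χ₁ : G → ℂ) (g * rot P D ^ l * g⁻¹ * v)
        = (χ₁ : G → ℂ) (g * (rot P D ^ l * (g⁻¹ * v * g)) * g⁻¹) := by congr 1; group
      _ = (χ₁ : G → ℂ) (rot P D ^ l * (g⁻¹ * v * g)) := hcl _ _
      _ = (χ₁ : G → ℂ) (rot P D ^ l) := h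
      _ = _ := (hcl _ _).symm
  · intro g hg e
    rcases IsSimpleGroup.eq_bot_or_eq_top_of_normal (CfsgLib.BlockB.GaloisDegree.ker χ₁) inferInstance with h | h
    · exact hg (Subgroup.mem_bot.1 (h.le e))
    · refine S.ne_one₁ (funext fun w => ?_)
      have hw : ∀ y : G, (χ₁ : G → ℂ) y = (χ₁ : G → ℂ) 1 := fun y => h.ge (Subgroup.mem_top y)
      have h1 : (χ₁ : G → ℂ) 1 = δ₁ := by rw [← S.val₁ 1 hnd, pow_one]; exact (hw _).symm
      rw [hw, h1]
      rcases S.sgn₁ with h' | h'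
      · rw [h']; norm_num
      · exfalso
        have h2 : (charDegree (χ₁ : G → ℂ) : ℂ) = ((-1 : ℤ) : ℂ) := by
          rw [CfsgLib.BlockB.irr_degree_cast, h1, h']
        have h3 : (charDegree (χ₁ : G → ℂ) : ℤ) = -1 := by exact_mod_cast h2
        omega
  · intro g i hg hi
    obtain ⟨m, hm, e⟩ := exists_lift_pow hi
    rw [← e]
    set ψ : IrrCharacter G := ⟨fun w => (χ₁ : G → ℂ) (w ^ m),
      CfsgLib.BlockA.isIrrCharacter_comp_pow hm χ₁.2⟩
    have hval : ∀ l, ¬ 2 * D.h ∣ l → (ψ : G → ℂ) (rot P D ^ l) = δ₁ := fun l hl => by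
      show (χ₁ : G → ℂ) ((rot P D ^ l) ^ m) = _
      rw [← pow_mul, S.val₁ _ (not_dvd_mul_of_coprime P D hm hl)]
    have hnd2 : ¬ 2 * D.h ∣ 2 := fun h => by have := Nat.le_of_dvd two_pos h; omega
    suffices h : ψ = χ₁ from congrFun (congrArg Subtype.val h) g
    rcases (S.block_eq ψ).1 (comp_pow_mem_principalBlock hM hm hB) with h | h | h | h | ⟨j, hj, h⟩
    · exfalso
      refine S.ne_one₁ (funext fun w => ?_)
      obtain ⟨w', hw'⟩ := (powCoprime (G := G) hm.symm).surjective w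
      have := congrFun h w'
      rw [← hw']
      exact this
    · exact h
    · exfalso
      have e1 := hval 1 hnd
      have e2 := hval 2 hnd2
      rw [h, S.val₂ 1 hnd] at e1
      rw [h, S.val₂ 2 hnd2] at e2
      have h0 : (δ₂ : ℂ) = 0 := by linear_combination (e1 - e2) / 2
      have := S.sgn₂
      have : δ₂ = 0 := by exact_mod_cast h0
      omega
    · exfalso
      have e1 := hval 1 hnd
      have e2 := hval 2 hnd2
      rw [h, S.val₃ 1 hnd] at e1
      rw [h, S.val₃ 2 hnd2] at e2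
      have h0 : (δ₃ : ℂ) = 0 := by linear_combination (e1 - e2) / 2
      have := S.sgn₃
      have : δ₃ = 0 := by exact_mod_cast h0
      omega
    · exfalso
      have e1 := hval D.h hndh
      rw [h, S.val' D.h hndh j hj] at e1
      have hz : ζ ^ (j * D.h) = 1 ∨ ζ ^ (j * D.h) = -1 := by
        refine mul_self_eq_one_iff.1 ?_
        rw [← pow_add, show j * D.h + j * D.h = (2 * D.h) * j by ring, pow_mul, hζ.pow_eq_one,
          one_pow]
      rcases S.sgn₁ with h1 | h1 <;> rcases hz with h2 | h2 <;>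
        rw [h1, h2] at e1 <;> norm_num at e1

end CfsgLib.GW.TwoClassChar
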