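import Cfsg.Agent.Lib.GW.TwoClassSocle
import Cfsg.Agent.Lib.SylJanko.FourAct

/-!
The orders of the centralisers of the involutions in a group with two classes of involutions and
dihedral Sylow 2-subgroups, from its odd core and the one-class normal subgroup of the quotient.
-/

set_option autoImplicit false
set_option linter.unusedSectionVars false
set_option linter.style.haveILetI false

namespace CfsgLib.GW.TwoClass

open Subgroup CfsgLib.Invol CfsgLib.Recog.GenDih

universe u

/-- An element commuting with an involution modulo an odd subgroup can be corrected inside it. -/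
theorem fix_invol {G : Type*} [Group G] [Finite G] (N : Subgroup G) (hN : Odd (Nat.card N)) {u x : G}
    (hu : u * u = 1) (hc : x⁻¹ * (u * x * u) ∈ N) :
    ∃ d ∈ zpowers (x⁻¹ * (u * x * u)), d * 1 = d ∧ x * d * u = u * (x * d) := by
  set c := x⁻¹ * (u * x * u) with hcdef
  obtain ⟨m, hm⟩ := hN.of_dvd_nat (Subgroup.orderOf_dvd_natCard N hc)
  set d := c ^ (m + 1) with hd
  have hinv : u⁻¹ = u := inv_eq_of_mul_eq_one_right hu
  have hci : u * c * u⁻¹ = c⁻¹ := by
    rw [hcdef, hinv, _root_.mul_inv_rev, inv_inv, _root_.mul_inv_rev, _root_.mul_inv_rev, hinv]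
    simp only [mul_assoc, hu, mul_one]
  have hdd : c = d * d := by
    rw [hd, ← pow_add, show m + 1 + (m + 1) = orderOf c + 1 by omega, pow_succ, pow_orderOf_eq_one,
      one_mul]
  have hdi : u * d * u⁻¹ = d⁻¹ := by rw [hd, ← conj_pow, hci, inv_pow]
  refine ⟨d, pow_mem (mem_zpowers c) _, mul_one d, ?_⟩
  calc x * d * u = x * (d * d) * (d⁻¹ * u) := by group
    _ = x * c * (u * d * u⁻¹ * u) := by rw [← hdd, hdi]
    _ = u * x * (u * u) * d := by rw [hcdef]; group
    _ = u * (x * d) := by rw [hu, mul_one, mul_assoc]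

/-- The order of a subgroup from its image and the kernel. -/
theorem card_eq_map {G H : Type*} [Group G] [Group H] [Finite G] (f : G →* H) (C : Subgroup G) :
    Nat.card C = Nat.card ↥(f.ker ⊓ C) * Nat.card (C.map f) := by
  rw [← (f.ker.subgroupOf C).card_mul_index]
  congr 1
  · rw [← inf_subgroupOf_right]
    exact Nat.card_congr (subgroupOfEquivOfLe inf_le_right).toEquiv
  · have h : f.ker.subgroupOf C = (f.comp C.subtype).ker := by
      ext x; rfl
    rw [h, index_ker, MonoidHom.range_comp, range_subtype]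

/-- A 2-group centralised by two commuting involutions has order at most four. -/
theorem card_le_four {Q : Type*} [Group Q] [Finite Q] (T : Sylow 2 Q) (E : DihData (T : Subgroup Q))
    {P : Subgroup Q} (hP : IsPGroup 2 P) {a b : Q} (ha : orderOf a = 2) (hb : orderOf b = 2)
    (hab : a ≠ b) (hc : a * b = b * a) (hPa : ∀ p ∈ P, p * a = a * p)
    (hPb : ∀ p ∈ P, p * b = b * p) : Nat.card P ≤ 4 := by
  haveI : Fact (Nat.Prime 2) := ⟨Nat.prime_two⟩
  classical
  -- a Sylow subgroup containing the three subgroups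
  have hza : IsPGroup 2 (zpowers a) := IsPGroup.of_card (n := 1) (by rw [Nat.card_zpowers, ha, pow_one])
  have hzb : IsPGroup 2 (zpowers b) := IsPGroup.of_card (n := 1) (by rw [Nat.card_zpowers, hb, pow_one])
  have h1 : IsPGroup 2 ↥(zpowers a ⊔ P) := hza.to_sup_of_normal_right' hP (by
    rw [zpowers_le]
    refine mem_normalizer_iff_of_finite fun p hp => ?_
    rwa [← hPa p hp, mul_inv_cancel_right])
  have hbc : zpowers a ⊔ P ≤ centralizer ({b} : Set Q) := sup_le
    (zpowers_le.2 (mem_centralizer_singleton_iff.2 hc))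
    fun p hp => mem_centralizer_singleton_iff.2 (hPb p hp)
  have h2 : IsPGroup 2 ↥(zpowers b ⊔ (zpowers a ⊔ P)) := hzb.to_sup_of_normal_right' h1 (by
    rw [zpowers_le]
    refine mem_normalizer_iff_of_finite fun p hp => ?_
    rwa [← mem_centralizer_singleton_iff.1 (hbc hp), mul_inv_cancel_right])
  obtain ⟨S, hS⟩ := h2.exists_le_sylow
  obtain ⟨g, rfl⟩ := MulAction.exists_smul_eq Q T S
  let E' := dihConj E g
  set S' : Sylow 2 Q := g • T
  have haS : a ∈ (S' : Subgroup Q) := hS (mem_sup_right (mem_sup_left (mem_zpowers a)))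
  have hbS : b ∈ (S' : Subgroup Q) := hS (mem_sup_left (mem_zpowers b))
  -- one of the two is a reflection
  obtain ⟨c, hcS, i, hci, hPc⟩ : ∃ c : Q, ∃ hcS : c ∈ (S' : Subgroup Q), ∃ i : ℤ,
      (⟨c, hcS⟩ : (S' : Subgroup Q)) = E'.r ^ i * E'.s ∧ ∀ p ∈ P, p * c = c * p := by
    rcases E'.invol_cases (u := ⟨a, haS⟩) (by rw [orderOf_mk, ha]) with e | ⟨i, e⟩
    · rcases E'.invol_cases (u := ⟨b, hbS⟩) (by rw [orderOf_mk, hb]) with e' | ⟨i, e'⟩
      · exact absurd (congrArg Subtype.val (e.trans e'.symm)) hab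
      · exact ⟨b, hbS, i, e', hPb⟩
    · exact ⟨a, haS, i, e, hPa⟩
  let Y : Finset (S' : Subgroup Q) :=
    {1, E'.z, E'.r ^ i * E'.s, E'.z * (E'.r ^ i * E'.s)}
  have hmem : ∀ p : P, (⟨(p : Q), hS (mem_sup_right (mem_sup_right p.2))⟩ : (S' : Subgroup Q)) ∈ Y := by
    intro p
    set w : (S' : Subgroup Q) := ⟨(p : Q), hS (mem_sup_right (mem_sup_right p.2))⟩
    have hw : w * (E'.r ^ i * E'.s) = E'.r ^ i * E'.s * w := by
      rw [← hci]; exact Subtype.ext (hPc p p.2)
    simp only [Y, Finset.mem_insert, Finset.mem_singleton]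
    rcases E'.cases w with ⟨k, hk⟩ | ⟨k, hk⟩
    · rw [hk, ← mul_assoc, ← zpow_add, E'.zy_mul_z, mul_left_inj, E'.zpow_eq_iff] at hw
      obtain ⟨m, hm⟩ := hw
      rcases Int.even_or_odd' m with ⟨l, rfl | rfl⟩
      · exact Or.inl (by rw [hk, E'.zpow_eq_one_iff]; exact ⟨-l, by linarith⟩)
      · exact Or.inr (Or.inl (by rw [hk, DihData.z, E'.zpow_eq_iff]; exact ⟨l + 1, by linarith⟩))
    · rw [hk, E'.zy_mul_zy, E'.zy_mul_zy, E'.zpow_eq_iff] at hw
      obtain ⟨m, hm⟩ := hw
      rcases Int.even_or_odd' m with ⟨l, rfl | rfl⟩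
      · exact Or.inr (Or.inr (Or.inl (by rw [hk, mul_left_inj, E'.zpow_eq_iff]; exact ⟨l, by linarith⟩)))
      · refine Or.inr (Or.inr (Or.inr ?_))
        rw [hk, DihData.z, ← mul_assoc, ← zpow_add, mul_left_inj, E'.zpow_eq_iff]
        exact ⟨l + 1, by linarith⟩
  refine (Nat.card_le_card_of_injective (fun p : P => (⟨_, hmem p⟩ : Y))
    fun p p' h => ?_).trans ?_
  · exact Subtype.ext (congrArg (fun v : Y => ((v : (S' : Subgroup Q)) : Q)) h)
  · rw [Nat.card_eq_fintype_card, Fintype.card_coe]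
    exact (Finset.card_insert_le _ _).trans (Nat.add_le_add_right
      ((Finset.card_insert_le _ _).trans (Nat.add_le_add_right
        ((Finset.card_insert_le _ _).trans (Nat.add_le_add_right (Finset.card_singleton _).le 1)) 1)) 1)

variable {Q : Type u} [Group Q] [Finite Q] {T : Sylow 2 Q} {E : DihData (T : Subgroup Q)}
  {L : Subgroup Q} {q : ℕ} {ε j : ℤ}

/-- The index of the one-class subgroup is twice an odd number. -/
theorem Data.exists_index (hd : Data T E L q ε j) : ∃ f : ℕ, Odd f ∧ L.index = 2 * f := by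
  haveI := hd.normal
  haveI : Fact (Nat.Prime 2) := ⟨Nat.prime_two⟩
  set p := QuotientGroup.mk' L
  set y := dt T E (j + 1)
  have hyy : y * y = 1 := invol_mul_self ((Subgroup.orderOf_coe _).trans (E.orderOf_zy _))
  have hpy : orderOf (p y) = 2 := invol_of_mul_self (by rw [← map_mul, hyy, map_one])
    fun h => hd.ymem ((QuotientGroup.eq_one_iff y).1 h)
  have h2 : 2 ∣ L.index := by
    rw [index_eq_card, ← hpy]; exact _root_.orderOf_dvd_natCard _
  obtain ⟨f, hf⟩ := h2
  refine ⟨f, ?_, hf⟩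
  by_contra hodd
  obtain ⟨c, rfl⟩ := Nat.not_odd_iff_even.1 hodd
  let S := T.mapSurjective (QuotientGroup.mk'_surjective L)
  have hS : (S : Subgroup (Q ⧸ L)) ≤ zpowers (p y) := by
    rintro _ ⟨t, ht, rfl⟩
    rcases hd.cover t ht with h | h
    · rw [show QuotientGroup.mk' L t = 1 from (QuotientGroup.eq_one_iff t).2 h]
      exact one_mem _
    · have h1 : p y * p t = 1 := by rw [← map_mul]; exact (QuotientGroup.eq_one_iff _).2 h
      have h3 : p y * p y = 1 := by rw [← map_mul, hyy, map_one]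
      show p t ∈ _
      rw [mul_left_cancel (h1.trans h3.symm)]
      exact mem_zpowers _
  have h4 : 2 ^ 2 ∣ Nat.card (S : Subgroup (Q ⧸ L)) := by
    refine S.pow_dvd_card_of_pow_dvd_card ?_
    rw [← index_eq_card, hf]
    exact ⟨c, by ring⟩
  have h5 := h4.trans (card_dvd_of_le hS)
  rw [Nat.card_zpowers, hpy] at h5
  norm_num at h5

/-- The reflection is central modulo the one-class subgroup. -/
theorem Data.conj_y_mem (hd : Data T E L q ε j) (g : Q) :
    g * dt T E (j + 1) * g⁻¹ * dt T E (j + 1) ∈ L := by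
  haveI := hd.normal
  set p := QuotientGroup.mk' L
  set y := dt T E (j + 1)
  have hyy : y * y = 1 := invol_mul_self ((Subgroup.orderOf_coe _).trans (E.orderOf_zy _))
  set C := (centralizer ({p y} : Set (Q ⧸ L))).comap p with hC
  have hTC : (T : Subgroup Q) ≤ C := by
    intro t ht
    rw [hC, mem_comap, mem_centralizer_singleton_iff]
    rcases hd.cover t ht with h | h
    · rw [show p t = 1 from (QuotientGroup.eq_one_iff t).2 h, one_mul, mul_one]
    · have h1 : p y * p t = 1 := by rw [← map_mul]; exact (QuotientGroup.eq_one_iff _).2 h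
      rw [eq_inv_of_mul_eq_one_right h1, inv_mul_cancel, mul_inv_cancel]
  have hoddC : ∀ x : Q, Odd (orderOf x) → x ∈ C := by
    intro x hx
    rw [hC, mem_comap, mem_centralizer_singleton_iff]
    have h : p (y * x * y⁻¹ * x⁻¹) = 1 :=
      (QuotientGroup.eq_one_iff _).2 (hd.central x hx y (SetLike.coe_mem _))
    rw [map_mul, map_mul, map_mul, map_inv, map_inv, mul_inv_eq_one, mul_inv_eq_iff_eq_mul] at h
    exact h.symm
  have htop : C = ⊤ := by
    rw [← index_eq_one]
    by_contra hne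
    obtain ⟨r, hr, hrd⟩ := Nat.exists_prime_and_dvd hne
    haveI := Fact.mk hr
    rcases eq_or_ne r 2 with rfl | hr2
    · exact T.not_dvd_index (hrd.trans (index_dvd_of_le hTC))
    · obtain ⟨P⟩ := (inferInstance : Nonempty (Sylow r Q))
      refine P.not_dvd_index (hrd.trans (index_dvd_of_le fun x hx => hoddC x ?_))
      obtain ⟨k, hk⟩ := P.2.exists_card_eq
      exact ((hr.odd_of_ne_two hr2).pow (n := k)).of_dvd_nat
        (hk ▸ Subgroup.orderOf_dvd_natCard _ hx)
  have hg : p g * p y = p y * p g :=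
    mem_centralizer_singleton_iff.1 (mem_comap.1 (htop ▸ mem_top g : g ∈ C))
  refine (QuotientGroup.eq_one_iff _).1 ?_
  show p (g * y * g⁻¹ * y) = 1
  rw [map_mul, map_mul, map_mul, map_inv, hg, mul_inv_cancel_right, ← map_mul, hyy, map_one]

/-- Each class of involutions of the quotient is a class under the one-class subgroup. -/
theorem Data.class_z (hd : Data T E L q ε j) (g : Q) :
    ∃ l ∈ L, g * dz T E * g⁻¹ = l * dz T E * l⁻¹ := by
  have hzo : orderOf (dz T E) = 2 := (Subgroup.orderOf_coe _).trans E.orderOf_z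
  obtain ⟨l, hl, e⟩ := hd.one _ hd.zmem _ (hd.normal.conj_mem _ hd.zmem g) hzo
    (by rw [CfsgLib.Invol.orderOf_conj_eq, hzo])
  exact ⟨l, hl, e.symm⟩

theorem Data.class_y (hd : Data T E L q ε j) (g : Q) :
    ∃ l ∈ L, g * dt T E (j + 1) * g⁻¹ = l * dt T E (j + 1) * l⁻¹ := by
  haveI := hd.normal
  haveI : Fact (Nat.Prime 2) := ⟨Nat.prime_two⟩
  set y := dt T E (j + 1) with hy
  have hyo : orderOf y = 2 := (Subgroup.orderOf_coe _).trans (E.orderOf_zy _)
  have hyy := invol_mul_self hyo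
  have hyT : y ∈ (T : Subgroup Q) := SetLike.coe_mem _
  set w := g * y * g⁻¹ with hw
  have hwy : w * y ∈ L := hd.conj_y_mem g
  have hwo : orderOf w = 2 := by rw [hw, CfsgLib.Invol.orderOf_conj_eq, hyo]
  set H : Subgroup Q := L ⊔ (T : Subgroup Q)
  have hwH : w ∈ H := by
    rw [show w = w * y * y by rw [mul_assoc, hyy, mul_one]]
    exact mul_mem (mem_sup_left hwy) (mem_sup_right hyT)
  obtain ⟨S, hS⟩ := (IsPGroup.of_card (n := 1) (show Nat.card (zpowers (⟨w, hwH⟩ : H)) = 2 ^ 1 by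
    rw [Nat.card_zpowers, orderOf_mk, hwo, pow_one]) : IsPGroup 2 (zpowers (⟨w, hwH⟩ : H))).exists_le_sylow
  obtain ⟨h, hh⟩ := MulAction.exists_smul_eq H S (T.subtype (le_sup_right : (T : Subgroup Q) ≤ H))
  have hmem : (h : Q) * w * (h : Q)⁻¹ ∈ (T : Subgroup Q) := by
    have h1 : h * ⟨w, hwH⟩ * h⁻¹ ∈ ((T.subtype (le_sup_right : (T : Subgroup Q) ≤ H) : Sylow 2 H) :
        Subgroup H) := hh ▸ ⟨_, hS (mem_zpowers _), rfl⟩
    exact mem_subgroupOf.1 h1
  obtain ⟨l, hl, t, ht, hlt⟩ := mem_sup_of_normal_left.1 h.2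
  -- move the factor of `T` to the left
  set l₁ := t⁻¹ * l * t
  have hl₁ : l₁ ∈ L := by
    have := hd.normal.conj_mem l hl t⁻¹
    rwa [inv_inv] at this
  have hw₁ : l₁ * w * l₁⁻¹ ∈ (T : Subgroup Q) := by
    have e : l₁ * w * l₁⁻¹ = t⁻¹ * ((h : Q) * w * (h : Q)⁻¹) * t := by
      rw [← hlt]; show t⁻¹ * l * t * w * (t⁻¹ * l * t)⁻¹ = _; group
    rw [e]
    exact mul_mem (mul_mem (inv_mem ht) hmem) ht
  have hw1L : l₁ * w * l₁⁻¹ ∉ L := fun h' => hd.ymem (by
    have h1 := hd.normal.conj_mem _ h' l₁⁻¹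
    rw [inv_inv, show l₁⁻¹ * (l₁ * w * l₁⁻¹) * l₁ = w by group] at h1
    exact (mul_mem_cancel_left h1).1 hwy)
  have hrefl : ∀ a : ℤ, dt T E (j + 2 * a) ∈ L := fun a => by
    have e : dt T E (j + 2 * a) = ((E.r ^ a : (T : Subgroup Q)) : Q) * dt T E j *
        ((E.r ^ a : (T : Subgroup Q)) : Q)⁻¹ := (congrArg Subtype.val (E.conj_refl a j)).symm
    rw [e]
    exact hd.normal.conj_mem _ hd.tmem _
  obtain ⟨a, ha⟩ : ∃ a : ℤ, l₁ * w * l₁⁻¹ = dt T E (j + 1 + 2 * a) := by
    rcases E.invol_cases (u := ⟨_, hw₁⟩) (by rw [orderOf_mk, CfsgLib.Invol.orderOf_conj_eq, hwo])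
      with e | ⟨i, e⟩
    · refine absurd ?_ hw1L
      rw [show l₁ * w * l₁⁻¹ = dz T E from congrArg Subtype.val e]
      exact hd.zmem
    · have e' : l₁ * w * l₁⁻¹ = dt T E i := congrArg Subtype.val e
      rcases Int.even_or_odd' (i - j) with ⟨a, ha | ha⟩
      · refine absurd ?_ hw1L
        rw [e', show i = j + 2 * a by omega]
        exact hrefl a
      · exact ⟨a, by rw [e', show i = j + 1 + 2 * a by omega]⟩
  set e : Q := ((E.r ^ a : (T : Subgroup Q)) : Q)
  have hey : l₁ * w * l₁⁻¹ = e * y * e⁻¹ := ha.trans (congrArg Subtype.val (E.conj_refl a (j + 1))).symm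
  obtain ⟨l₂, hl₂, he⟩ : ∃ l₂ ∈ L, e * y * e⁻¹ = l₂ * y * l₂⁻¹ := by
    rcases hd.cover e (SetLike.coe_mem _) with h' | h'
    · exact ⟨e, h', rfl⟩
    · refine ⟨y * (y * e) * y⁻¹, hd.normal.conj_mem _ h' y, ?_⟩
      have hi : y⁻¹ = y := inv_eq_of_mul_eq_one_right hyy
      rw [hi, ← mul_assoc y y e, hyy, one_mul, _root_.mul_inv_rev, hi]
      simp only [mul_assoc]
      rw [← mul_assoc y y (y * _), hyy, one_mul]
  refine ⟨l₁⁻¹ * l₂, mul_mem (inv_mem hl₁) hl₂, ?_⟩
  calc w = l₁⁻¹ * (l₁ * w * l₁⁻¹) * l₁ := by group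
    _ = l₁⁻¹ * (l₂ * y * l₂⁻¹) * l₁ := by rw [hey, he]
    _ = _ := by group

/-- The centralizer order of an involution whose class is a class of the one-class subgroup. -/
theorem Data.card_cent (hd : Data T E L q ε j) {s : Q}
    (hs : ∀ g : Q, ∃ l ∈ L, g * s * g⁻¹ = l * s * l⁻¹) :
    Nat.card (centralizer ({s} : Set Q)) = Nat.card ↥(centralizer ({s} : Set Q) ⊓ L) * L.index ∧
      ∀ g : Q, ∃ c ∈ centralizer ({s} : Set Q), QuotientGroup.mk (s := L) g = QuotientGroup.mk c := by
  haveI := hd.normal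
  have hcov : ∀ g : Q, ∃ c ∈ centralizer ({s} : Set Q),
      QuotientGroup.mk (s := L) g = QuotientGroup.mk c := by
    intro g
    obtain ⟨l, hl, e⟩ := hs g
    refine ⟨l⁻¹ * g, mem_centralizer_singleton_iff.2 ?_, ?_⟩
    · calc l⁻¹ * g * s = l⁻¹ * (g * s * g⁻¹) * g := by group
        _ = l⁻¹ * (l * s * l⁻¹) * g := by rw [e]
        _ = s * (l⁻¹ * g) := by group
    · rw [QuotientGroup.mk_mul, QuotientGroup.mk_inv, (QuotientGroup.eq_one_iff l).2 hl, inv_one, one_mul]
  refine ⟨?_, hcov⟩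
  rw [card_eq_map (QuotientGroup.mk' L) (centralizer ({s} : Set Q)), QuotientGroup.ker_mk', inf_comm,
    index_eq_card]
  congr 1
  rw [show (centralizer ({s} : Set Q)).map (QuotientGroup.mk' L) = ⊤ from eq_top_iff.2 fun v _ => by
    obtain ⟨g, rfl⟩ := QuotientGroup.mk'_surjective L v
    obtain ⟨c, hc, e⟩ := hcov g
    exact ⟨c, hc, e.symm⟩]
  exact Nat.card_congr topEquiv.toEquiv

/-- The centralizer of a four-group. -/
theorem Data.card_pair (hd : Data T E L q ε j) {f : ℕ} (hf : Odd f) (hidx : L.index = 2 * f) {s : Q}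
    (hs : s = dt T E j ∨ s = dt T E (j + 1)) :
    Nat.card ↥(centralizer ({dz T E} : Set Q) ⊓ centralizer ({s} : Set Q)) = 4 * f := by
  haveI := hd.normal
  haveI : Fact (Nat.Prime 2) := ⟨Nat.prime_two⟩
  classical
  set z := dz T E with hzdef
  obtain ⟨i, rfl⟩ : ∃ i, s = dt T E i := hs.elim (fun h => ⟨_, h⟩) fun h => ⟨_, h⟩
  set s := dt T E i
  have hzo : orderOf z = 2 := (Subgroup.orderOf_coe _).trans E.orderOf_z
  have hso : orderOf s = 2 := (Subgroup.orderOf_coe _).trans (E.orderOf_zy _)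
  have hsz : s * z = z * s := (dz_commute T E (SetLike.coe_mem _)).eq.symm
  have hne : z ≠ s := fun h => dt_ne_dz (D := E) i h.symm
  have hss := invol_mul_self hso
  have hzz := invol_mul_self hzo
  set D := centralizer ({z} : Set Q) ⊓ centralizer ({s} : Set Q)
  set p := QuotientGroup.mk' L
  have hmemD : ∀ v, v ∈ D ↔ v * z = z * v ∧ v * s = s * v := fun v => by
    rw [mem_inf, mem_centralizer_singleton_iff, mem_centralizer_singleton_iff]
  -- two-subgroups are small
  have htwo : ∀ P : Subgroup Q, IsPGroup 2 P → P ≤ D → Nat.card P ≤ 4 := fun P hP hPD =>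
    card_le_four T E hP hzo hso hne hsz.symm (fun v hv => ((hmemD v).1 (hPD hv)).1)
      fun v hv => ((hmemD v).1 (hPD hv)).2
  -- the kernel is a two-group
  have hkerP : IsPGroup 2 ↥(L ⊓ D) := by
    refine IsPGroup.iff_card.2 ⟨_, Nat.eq_prime_pow_of_unique_prime_dvd Nat.card_pos.ne' ?_⟩
    intro r hr hrd
    by_contra hr2
    haveI := Fact.mk hr
    obtain ⟨v, hv⟩ := exists_prime_orderOf_dvd_card' r hrd
    have hvo : orderOf (v : Q) = r := by rw [Subgroup.orderOf_coe, hv]
    have h1 := hd.free s hs v v.2.1 ((hmemD _).1 v.2.2).1 ((hmemD _).1 v.2.2).2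
      (hvo ▸ hr.odd_of_ne_two hr2)
    rw [h1, orderOf_one] at hvo
    exact hr.ne_one hvo.symm
  -- the image contains all elements of odd order
  set C := centralizer ({z} : Set Q) with hCdef
  obtain ⟨P₀, N₀, hN₀, hcp⟩ : Cfsg.HasNormalPComplement 2 C :=
    CfsgLib.BlockA.DihedralBlock.complement_dz T E
  have hN₀odd : Odd (Nat.card N₀) := by
    rw [← Nat.not_even_iff_odd, even_iff_two_dvd, ← hcp.index_eq_card]
    exact P₀.not_dvd_index
  set N := N₀.map C.subtype
  have hNodd : Odd (Nat.card N) := by rwa [card_map_of_injective C.subtype_injective]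
  have hodd_mem : ∀ v ∈ C, Odd (orderOf v) → v ∈ N := fun v hv ho => by
    refine ⟨⟨v, hv⟩, SetLike.mem_coe.2 ?_, rfl⟩
    rw [← QuotientGroup.eq_one_iff, ← orderOf_eq_one_iff]
    obtain ⟨k, hk⟩ := P₀.2.exists_card_eq
    haveI := hN₀
    refine Nat.eq_one_of_dvd_coprimes (a := orderOf v) (b := 2 ^ k)
      ((Nat.coprime_two_right.2 ho).pow_right k) ?_ ?_
    · have h := orderOf_map_dvd (QuotientGroup.mk' N₀) (⟨v, hv⟩ : C)
      rwa [orderOf_mk] at h
    · rw [← hk, ← hcp.symm.index_eq_card, index_eq_card]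
      exact _root_.orderOf_dvd_natCard _
  have himg : ∀ v : Q ⧸ L, Odd (orderOf v) → v ∈ D.map p := by
    intro v hv
    obtain ⟨g, rfl⟩ := QuotientGroup.mk'_surjective L v
    obtain ⟨c, hc, e⟩ := (hd.card_cent (s := z) hd.class_z).2 g
    obtain ⟨a, o, ho, hao⟩ := Nat.exists_eq_two_pow_mul_odd (orderOf_pos c).ne'
    -- an element of odd order over the same coset, up to a power
    have hx : c ^ 2 ^ a ∈ N := hodd_mem _ (pow_mem hc _) (by
      rw [orderOf_pow, hao, Nat.gcd_mul_right_left, Nat.mul_div_cancel_left _ (by positivity)]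
      exact ho)
    set x := c ^ 2 ^ a
    have hxz : x * z = z * x := mem_centralizer_singleton_iff.1 (pow_mem hc _)
    have hsC : s ∈ C := mem_centralizer_singleton_iff.2 hsz
    have hsx : s * x * s ∈ N := by
      obtain ⟨x', hx', hxe⟩ := hx
      refine ⟨⟨s, hsC⟩ * x' * ⟨s, hsC⟩⁻¹, hN₀.conj_mem x' hx' _, ?_⟩
      show s * (x' : Q) * s⁻¹ = _
      rw [invol_inv hso, show ((x' : C) : Q) = x from hxe]
    obtain ⟨d, hd', -, hds⟩ := fix_invol N hNodd hss (x := x) (mul_mem (inv_mem hx) hsx)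
    have hcN : x⁻¹ * (s * x * s) ∈ L := by
      refine (QuotientGroup.eq_one_iff _).1 ?_
      have h1 : p (s * x * s⁻¹ * x⁻¹) = 1 := (QuotientGroup.eq_one_iff _).2
        (hd.central x (hNodd.of_dvd_nat (Subgroup.orderOf_dvd_natCard N hx)) s (SetLike.coe_mem _))
      rw [invol_inv hso] at h1
      have h2 : p (s * x * s) = p x := by
        rw [map_mul p (s * x * s), map_inv, mul_inv_eq_one] at h1
        exact h1
      show p (x⁻¹ * (s * x * s)) = 1
      rw [map_mul, map_inv, h2, inv_mul_cancel]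
    have hxd : x * d ∈ D.comap (MonoidHom.id Q) := (hmemD _).2 ⟨by
      have hzc : z ∈ centralizer (zpowers (x⁻¹ * (s * x * s)) : Set Q) := by
        have h1 : zpowers (x⁻¹ * (s * x * s)) ≤ C := zpowers_le.2
          (mul_mem (inv_mem (pow_mem hc _)) (mul_mem (mul_mem hsC (pow_mem hc _)) hsC))
        exact mem_centralizer_iff.2 fun w hw => mem_centralizer_singleton_iff.1 (h1 hw)
      rw [mul_assoc, mem_centralizer_iff.1 hzc d hd', ← mul_assoc, hxz, mul_assoc], hds⟩
    have hpx : p x ∈ D.map p := ⟨x * d, hxd, by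
      rw [map_mul, show p d = 1 from (QuotientGroup.eq_one_iff d).2 (zpowers_le.2 hcN hd'), mul_one]⟩
    have hvg : p g = p c := e
    have hpow : p x = p g ^ 2 ^ a := by rw [hvg, ← map_pow]
    obtain ⟨m, hm⟩ := exists_pow_eq_self_of_coprime
      (show Nat.Coprime (2 ^ a) (orderOf (p g)) from (Nat.coprime_two_left.2 hv).pow_left a)
    rw [← hm, ← hpow]
    exact pow_mem hpx m
  have hfimg : f ∣ Nat.card (D.map p) := by
    rw [Nat.dvd_iff_prime_pow_dvd_dvd]
    intro r k hr hrk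
    rcases k with _ | k
    · simp
    haveI := Fact.mk hr
    have hr2 : r ≠ 2 := fun e => Nat.not_even_iff_odd.2 hf
      (even_iff_two_dvd.2 (e ▸ (dvd_pow_self r (Nat.succ_ne_zero k)).trans hrk))
    obtain ⟨W, hW⟩ := Sylow.exists_subgroup_card_pow_prime (G := Q ⧸ L) r (n := k + 1)
      (by rw [← index_eq_card, hidx]; exact hrk.mul_left 2)
    rw [← hW]
    exact card_dvd_of_le fun v hv => himg v
      (((hr.odd_of_ne_two hr2).pow (n := k + 1)).of_dvd_nat (hW ▸ Subgroup.orderOf_dvd_natCard W hv))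
  -- the four-group
  have h4 : 4 ∣ Nat.card D := by
    let V : Subgroup Q :=
      { carrier := {1, z, s, z * s}
        one_mem' := Or.inl rfl
        mul_mem' := by
          have h1 : z * (z * s) = s := by rw [← mul_assoc, hzz, one_mul]
          have h2 : s * (z * s) = z := by rw [← mul_assoc, hsz, mul_assoc, hss, mul_one]
          have h3 : z * s * z = s := by rw [mul_assoc, hsz, h1]
          have h4 : z * s * s = z := by rw [mul_assoc, hss, mul_one]
          have h5 : z * s * (z * s) = 1 := by rw [← mul_assoc, h3, hss]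
          rintro a b (rfl | rfl | rfl | rfl) (rfl | rfl | rfl | rfl) <;>
            simp [hzz, hss, h1, h2, h3, h4, h5, hsz]
        inv_mem' := by
          rintro a (rfl | rfl | rfl | rfl) <;> simp [invol_inv hzo, invol_inv hso, hsz] }
    have hV : Nat.card V = 4 := by
      show Nat.card ↥({1, z, s, z * s} : Set Q) = 4
      rw [Nat.card_coe_set_eq, Set.ncard_eq_toFinset_card']
      have n1 : (1 : Q) ≠ z := (invol_ne_one hzo).symm
      have n2 : (1 : Q) ≠ s := (invol_ne_one hso).symm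
      have n3 : (1 : Q) ≠ z * s := fun h => hne ((eq_inv_of_mul_eq_one_left h.symm).trans (invol_inv hso))
      have n4 : z ≠ z * s := fun h => invol_ne_one hso (mul_eq_left.1 h.symm)
      have n5 : s ≠ z * s := fun h => invol_ne_one hzo (mul_eq_right.1 h.symm)
      simp [n1, n2, n3, n4, n5, hne]
    refine hV ▸ card_dvd_of_le ?_
    rintro v (rfl | rfl | rfl | rfl)
    · exact one_mem D
    · exact (hmemD _).2 ⟨rfl, hsz.symm⟩
    · exact (hmemD _).2 ⟨hsz, rfl⟩
    · exact mul_mem ((hmemD _).2 ⟨rfl, hsz.symm⟩) ((hmemD _).2 ⟨hsz, rfl⟩)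
  -- count
  obtain ⟨a, ha⟩ := IsPGroup.iff_card.1 hkerP
  have hcard : Nat.card D = 2 ^ a * Nat.card (D.map p) := by
    rw [card_eq_map p D, QuotientGroup.ker_mk', ha]
  obtain ⟨b, hb⟩ := hfimg
  have hb2 : b ∣ 2 := by
    have h := (card_subgroup_dvd_card (D.map p))
    rw [← index_eq_card, hidx, hb, mul_comm f b] at h
    exact Nat.dvd_of_mul_dvd_mul_right hf.pos h
  obtain ⟨c, -, hc⟩ := (Nat.dvd_prime_pow Nat.prime_two).1 (show b ∣ 2 ^ 1 by rwa [pow_one])
  have hD2 : Nat.card D = 2 ^ (a + c) * f := by rw [hcard, hb, hc, pow_add]; ring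
  have hle : a + c ≤ 2 := by
    obtain ⟨P, hP⟩ := Sylow.exists_subgroup_card_pow_prime (G := D) 2 (n := a + c)
      (hD2 ▸ dvd_mul_right _ _)
    have h := htwo (P.map D.subtype) (IsPGroup.of_card (n := a + c) (by
      rw [card_map_of_injective D.subtype_injective, hP])) (map_subtype_le P)
    rw [card_map_of_injective D.subtype_injective, hP] at h
    by_contra hlt
    have := Nat.pow_le_pow_right two_pos (show 3 ≤ a + c by omega)
    omega
  have hge : 2 ≤ a + c := by
    by_contra hlt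
    rw [hD2] at h4
    have h' : 2 ^ 2 ∣ 2 ^ (a + c) := ((Nat.coprime_two_left.2 hf).pow_left 2).dvd_of_dvd_mul_right h4
    have := (Nat.pow_dvd_pow_iff_le_right (by norm_num)).1 h'
    omega
  rw [hD2, show a + c = 2 by omega]; norm_num

/-- Lifting the centralizer of an involution over an odd normal subgroup. -/
theorem map_cent {K : Type u} [Group K] [Finite K] (R : Subgroup K) [R.Normal] (hR : Odd (Nat.card R))
    (C : Subgroup K) {s : K} (hs : s * s = 1) (hsC : s ∈ C) :
    (C ⊓ centralizer ({s} : Set K)).map (QuotientGroup.mk' R) =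
      C.map (QuotientGroup.mk' R) ⊓ centralizer ({QuotientGroup.mk' R s} : Set (K ⧸ R)) := by
  refine le_antisymm ?_ ?_
  · rintro _ ⟨x, ⟨h1, h2⟩, rfl⟩
    exact ⟨⟨x, h1, rfl⟩, mem_centralizer_singleton_iff.2 (by
      rw [← map_mul, ← map_mul, mem_centralizer_singleton_iff.1 h2])⟩
  · rintro _ ⟨⟨x, hx, rfl⟩, h⟩
    set p := QuotientGroup.mk' R
    have h' : p x * p s = p s * p x := mem_centralizer_singleton_iff.1 h
    have hc : x⁻¹ * (s * x * s) ∈ R := (QuotientGroup.eq_one_iff _).1 (by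
      show p (x⁻¹ * (s * x * s)) = 1
      rw [map_mul, map_inv, map_mul, map_mul, ← h', mul_assoc, ← map_mul p s s, hs, map_one, mul_one,
        inv_mul_cancel])
    obtain ⟨d, hd, -, hds⟩ := fix_invol R hR hs hc
    refine ⟨x * d, ⟨mul_mem hx ?_, mem_centralizer_singleton_iff.2 hds⟩, ?_⟩
    · exact zpowers_le.2 (mul_mem (inv_mem hx) (mul_mem (mul_mem hsC hx) hsC)) hd
    · rw [map_mul, show p d = 1 from (QuotientGroup.eq_one_iff d).2 (zpowers_le.2 hc hd), mul_one]

theorem centralizer_pair_eq {K : Type*} [Group K] (a b : K) :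
    centralizer ({a, b} : Set K) = centralizer ({a} : Set K) ⊓ centralizer ({b} : Set K) := by
  ext x
  simp [mem_centralizer_iff]

/-- **The counts.** -/
theorem exists_counts {K : Type u} [Group K] [Finite K] (R : Subgroup K) [R.Normal]
    (hR : Odd (Nat.card R)) (T : Sylow 2 K) (D : DihData (T : Subgroup K)) (hh : 2 ≤ D.h)
    (T' : Sylow 2 (K ⧸ R)) (D' : DihData (T' : Subgroup (K ⧸ R))) (hh' : D'.h = D.h)
    (hz : QuotientGroup.mk' R (dz T D) = dz T' D')
    (ht : ∀ i, QuotientGroup.mk' R (dt T D i) = dt T' D' i) {L : Subgroup (K ⧸ R)} {q : ℕ} {ε j : ℤ}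
    (hd : Data T' D' L q ε j) :
    ∃ f : ℕ, Odd f ∧ (q = 3 → f = 1) ∧ Nat.card K = Nat.card R * f * (q * (q * q - 1)) ∧
      (Nat.card (centralizer ({dz T D} : Set K)) : ℤ) =
        (Nat.card ↥(R ⊓ centralizer ({dz T D} : Set K)) : ℤ) * 2 * f * (q - ε) ∧
      (Nat.card (centralizer ({dt T D (j + 1)} : Set K)) : ℤ) =
        (Nat.card ↥(R ⊓ centralizer ({dt T D (j + 1)} : Set K)) : ℤ) * 2 * f * (q + ε) ∧
      Nat.card (centralizer ({dz T D, dt T D j} : Set K)) =
        4 * f * Nat.card ↥(R ⊓ centralizer ({dz T D, dt T D j} : Set K)) ∧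
      Nat.card (centralizer ({dz T D, dt T D (j + 1)} : Set K)) =
        4 * f * Nat.card ↥(R ⊓ centralizer ({dz T D, dt T D (j + 1)} : Set K)) ∧
      Nat.card R * Nat.card ↥(R ⊓ centralizer ({dz T D, dt T D j} : Set K)) ^ 2 =
        Nat.card ↥(R ⊓ centralizer ({dz T D} : Set K)) ^ 3 ∧
      Nat.card R * Nat.card ↥(R ⊓ centralizer ({dz T D, dt T D (j + 1)} : Set K)) ^ 2 =
        Nat.card ↥(R ⊓ centralizer ({dz T D} : Set K)) *
          Nat.card ↥(R ⊓ centralizer ({dt T D (j + 1)} : Set K)) ^ 2 ∧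
      IsConj (dz T D) (dt T D j) ∧ ¬ IsConj (dz T D) (dt T D (j + 1)) := by
  haveI := hd.normal
  haveI : Fact (Nat.Prime 2) := ⟨Nat.prime_two⟩
  obtain ⟨f, hf, hidx⟩ := hd.exists_index
  set p := QuotientGroup.mk' R
  set z := dz T D
  have hzo : orderOf z = 2 := (Subgroup.orderOf_coe _).trans D.orderOf_z
  have hto : ∀ i, orderOf (dt T D i) = 2 := fun i => (Subgroup.orderOf_coe _).trans (D.orderOf_zy i)
  have hcomm : ∀ i, dt T D i * z = z * dt T D i := fun i =>
    (dz_commute T D (SetLike.coe_mem _)).eq.symm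
  -- the centralizers of single involutions
  have hone : ∀ s : K, s * s = 1 → Nat.card (centralizer ({s} : Set K)) =
      Nat.card ↥(R ⊓ centralizer ({s} : Set K)) * Nat.card (centralizer ({p s} : Set (K ⧸ R))) := by
    intro s hs
    have h := map_cent R hR ⊤ hs (mem_top s)
    rw [top_inf_eq, map_top_of_surjective _ (QuotientGroup.mk'_surjective R), top_inf_eq] at h
    rw [card_eq_map p, QuotientGroup.ker_mk', h]
  -- the centralizers of the four-groups
  have htwo : ∀ i, (i = j ∨ i = j + 1) → Nat.card (centralizer ({z, dt T D i} : Set K)) =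
      4 * f * Nat.card ↥(R ⊓ centralizer ({z, dt T D i} : Set K)) := by
    intro i hi
    have h1 := map_cent R hR ⊤ (invol_mul_self hzo) (mem_top z)
    rw [top_inf_eq, map_top_of_surjective _ (QuotientGroup.mk'_surjective R), top_inf_eq] at h1
    have h2 := map_cent R hR (centralizer ({z} : Set K)) (invol_mul_self (hto i))
      (mem_centralizer_singleton_iff.2 (hcomm i))
    rw [h1, hz, ht] at h2
    have h3 := hd.card_pair hf hidx (s := dt T' D' i) (hi.imp (congrArg _) (congrArg _))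
    rw [centralizer_pair_eq, card_eq_map p (centralizer ({z} : Set K) ⊓ centralizer ({dt T D i} : Set K)),
      QuotientGroup.ker_mk', h2, h3, mul_comm]
  -- conjugate fixed points
  have hfix : ∀ a b : K, IsConj a b → Nat.card ↥(R ⊓ centralizer ({b} : Set K)) =
      Nat.card ↥(R ⊓ centralizer ({a} : Set K)) := by
    intro a b h
    obtain ⟨g, rfl⟩ := isConj_iff.1 h
    rw [← card_map_of_injective (f := (MulAut.conj g).toMonoidHom) (MulAut.conj g).injective
      (K := R ⊓ centralizer ({a} : Set K))]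
    congr 1
    refine congrArg (fun S : Subgroup K => ↥S) ?_
    ext x
    simp only [mem_map, MulEquiv.coe_toMonoidHom, MulAut.conj_apply, mem_inf,
      mem_centralizer_singleton_iff]
    constructor
    · rintro ⟨h1, h2⟩
      refine ⟨g⁻¹ * x * g, ⟨?_, ?_⟩, by group⟩
      · have := (inferInstance : R.Normal).conj_mem x h1 g⁻¹
        rwa [inv_inv] at this
      · calc g⁻¹ * x * g * a = g⁻¹ * (x * (g * a * g⁻¹)) * g := by group
          _ = g⁻¹ * ((g * a * g⁻¹) * x) * g := by rw [h2]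
          _ = _ := by group
    · rintro ⟨w, ⟨h1, h2⟩, rfl⟩
      refine ⟨(inferInstance : R.Normal).conj_mem w h1 g, ?_⟩
      calc g * w * g⁻¹ * (g * a * g⁻¹) = g * (w * a) * g⁻¹ := by group
        _ = g * (a * w) * g⁻¹ := by rw [h2]
        _ = _ := by group
  have hfour : ∀ i, Nat.card R * Nat.card ↥(R ⊓ centralizer ({z, dt T D i} : Set K)) ^ 2 =
      Nat.card ↥(R ⊓ centralizer ({z} : Set K)) * Nat.card ↥(R ⊓ centralizer ({dt T D i} : Set K)) *
        Nat.card ↥(R ⊓ centralizer ({z * dt T D i} : Set K)) := by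
    intro i
    have hn : ∀ g : K, g ∈ normalizer (R : Set K) := fun g => by
      rw [normalizer_eq_top]; exact mem_top g
    have h := SylJanko.card_four_formula hR (invol_mul_self hzo) (invol_mul_self (hto i))
      (hcomm i).symm (hn z) (hn (dt T D i))
    rw [centralizer_pair_eq, ← inf_assoc]
    exact h
  have hzmul : ∀ i, z * dt T D i = dt T D (i + D.h) := fun i => by
    refine congrArg Subtype.val (?_ : D.z * (D.r ^ i * D.s) = D.r ^ (i + (D.h : ℤ)) * D.s)
    rw [DihData.z, ← mul_assoc, ← zpow_add, add_comm]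
  obtain ⟨h₂, hh2⟩ : 2 ∣ D.h := by
    obtain ⟨k, hk⟩ := D.h_pow
    rcases k with _ | k
    · rw [hk] at hh; simp at hh
    · exact hk ▸ dvd_pow_self 2 (Nat.succ_ne_zero k)
  have hshift : ∀ i, IsConj (dt T D i) (z * dt T D i) := fun i => by
    refine isConj_iff.2 ⟨((D.r ^ (h₂ : ℤ) : (T : Subgroup K)) : K), ?_⟩
    rw [hzmul]
    refine (congrArg Subtype.val (D.conj_refl (h₂ : ℤ) i)).trans ?_
    rw [show i + 2 * (h₂ : ℤ) = i + D.h by rw [hh2]; push_cast; ring]
  have hconj : IsConj z (dt T D j) := by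
    obtain ⟨l, hl, e⟩ := hd.one _ hd.zmem _ hd.tmem ((Subgroup.orderOf_coe _).trans D'.orderOf_z)
      ((Subgroup.orderOf_coe _).trans (D'.orderOf_zy j))
    obtain ⟨g, rfl⟩ := QuotientGroup.mk'_surjective R l
    have hg : g * z * g⁻¹ * dt T D j ∈ R := (QuotientGroup.eq_one_iff _).1 (by
      show p (g * z * g⁻¹ * dt T D j) = 1
      rw [map_mul, map_mul, map_mul, map_inv, hz, e, ht, invol_mul_self
        ((Subgroup.orderOf_coe _).trans (D'.orderOf_zy j))])
    exact (isConj_iff.2 ⟨g, rfl⟩ : IsConj z (g * z * g⁻¹)).trans (isConj_of_odd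
      (by rw [CfsgLib.Invol.orderOf_conj_eq, hzo]) (hto j)
      (hR.of_dvd_nat (Subgroup.orderOf_dvd_natCard R hg)))
  have hidxQ : 2 * f * (q * (q * q - 1)) = 2 * Nat.card (K ⧸ R) := by
    rw [← L.card_mul_index, hidx, ← hd.card]; ring
  refine ⟨f, hf, fun h3 => ?_, ?_, ?_, ?_, htwo j (Or.inl rfl), htwo (j + 1) (Or.inr rfl), ?_, ?_,
    hconj, fun h => hd.ymem ?_⟩
  · have := hd.small h3
    omega
  · rw [← R.card_mul_index, index_eq_card, mul_assoc]
    congr 1
    rw [mul_assoc] at hidxQ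
    exact (Nat.eq_of_mul_eq_mul_left two_pos hidxQ).symm
  · rw [hone z (invol_mul_self hzo), hz, (hd.card_cent hd.class_z).1, hidx]
    rw [Nat.cast_mul, Nat.cast_mul, Nat.cast_mul, Nat.cast_ofNat, hd.centz]
    ring
  · rw [hone _ (invol_mul_self (hto _)), ht, (hd.card_cent hd.class_y).1, hidx]
    rw [Nat.cast_mul, Nat.cast_mul, Nat.cast_mul, Nat.cast_ofNat, hd.centy]
    ring
  · rw [hfour j, hfix _ _ (hshift j), hfix _ _ hconj]; ring
  · rw [hfour (j + 1), hfix _ _ (hshift (j + 1))]; ring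
  · obtain ⟨g, hg⟩ := isConj_iff.1 h
    rw [← ht, ← hg, map_mul, map_mul, map_inv, hz]
    exact hd.normal.conj_mem _ hd.zmem _

end CfsgLib.GW.TwoClass
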