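import Cfsg.Agent.Lib.Recog.GW.Reduce
import Cfsg.Agent.S0495
import Cfsg.Agent.S0497
import Cfsg.Agent.S0984
import Mathlib.FieldTheory.Finite.GaloisField

/-!
The simple groups of orders 168, 360 and 2520 are models of the theorem of Gorenstein and Walter.
-/

set_option autoImplicit false

namespace CfsgLib.GW

open CfsgLib.Recog.GW

universe u

variable {G : Type u} [Group G] [Finite G] [IsSimpleGroup G]

theorem isGWModel_168 (h : Nat.card G = 168) : IsGWModel G := by
  haveI : Fact (Nat.Prime 7) := ⟨by norm_num⟩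
  exact Or.inl ⟨ZMod 7, inferInstance, inferInstance, by rw [ZMod.card]; decide, by rw [ZMod.card]; norm_num,
    Cfsg.Agent.S0495.result h (ZMod.card 7)⟩

theorem isGWModel_360 (h : Nat.card G = 360) : IsGWModel G := by
  haveI : Fact (Nat.Prime 3) := ⟨by norm_num⟩
  letI : Fintype (GaloisField 3 2) := Fintype.ofFinite _
  have hF : Fintype.card (GaloisField 3 2) = 9 := by
    rw [Fintype.card_eq_nat_card, GaloisField.card 3 2 two_ne_zero]; norm_num
  haveI := CfsgLib.ClassK.isSimpleGroup_psl_two (F := GaloisField 3 2) (by omega)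
  obtain ⟨e⟩ := Cfsg.Agent.S0497.result h
  obtain ⟨e'⟩ := Cfsg.Agent.S0497.result
    (CfsgLib.Classical.card_psl_two_eq hF 360 (by norm_num))
  exact Or.inl ⟨GaloisField 3 2, inferInstance, inferInstance, by rw [hF]; decide, by omega,
    ⟨e.trans e'.symm⟩⟩

theorem isGWModel_2520 (h : Nat.card G = 2520) : IsGWModel G :=
  Or.inr (Cfsg.Agent.S0984.result h)

end CfsgLib.GW
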