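import Cfsg.Agent.Lib.GW.Defs
import Cfsg.Agent.Lib.GW.SmallOrders
import Cfsg.Agent.Lib.Transfer.SimpleCount

/-!
A minimal counterexample to the theorem of Gorenstein and Walter has no proper subgroup of index at
most 11 whose order is divisible by `q * (q ^ 2 - 1)`, the small configurations aside.
-/

set_option autoImplicit false

namespace CfsgLib.GW

open scoped Nat

universe u

/-- Only `q = 5` is left by `q (q ^ 2 - 1) ∣ 10! / 2`. -/
private theorem q_eq_five_of_dvd {q : ℕ} (hq8 : q % 8 = 3 ∨ q % 8 = 5) (h5 : 5 ≤ q)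
    (hd : q * (q * q - 1) ∣ 1814400) : q = 5 := by
  have key : ∀ r < 124, 5 ≤ r → (r % 8 = 3 ∨ r % 8 = 5) → r * (r * r - 1) ∣ 1814400 → r = 5 := by
    decide
  refine key q ?_ h5 hq8 hd
  by_contra hlt
  have h1 : 124 * 124 ≤ q * q := Nat.mul_le_mul (by omega) (by omega)
  have h2 : 124 * (124 * 124 - 1) ≤ q * (q * q - 1) := Nat.mul_le_mul (by omega) (by omega)
  have h3 := Nat.le_of_dvd (by norm_num) hd
  omega

theorem small_index_false {G : Type u} [Group G] [Finite G] (hG : CfsgLib.GW.Min G) (K : Subgroup G)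
    (hK : K ≠ ⊤) (q : ℕ) (hq : Odd q) (hq8 : q % 8 = 3 ∨ q % 8 = 5) (h5 : 5 ≤ q)
    (hd : q * (q * q - 1) ∣ Nat.card K) (hi : K.index ≤ 11)
    (h7 : q = 5 → K.index = 7 ∧ 360 ≤ Nat.card K) : False := by
  haveI := hG.simple
  have h2 := CfsgLib.Transfer.two_mul_card_dvd_factorial hG.noncomm hK
  rw [← K.card_mul_index] at h2
  have hpos : 0 < K.index := Nat.pos_of_ne_zero Subgroup.index_ne_zero_of_finite
  obtain ⟨j, hj⟩ : ∃ j, K.index = j + 1 := ⟨K.index - 1, by omega⟩
  have h3 : 2 * Nat.card K ∣ j ! := by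
    refine Nat.dvd_of_mul_dvd_mul_right hpos ?_
    rw [hj] at h2 ⊢
    rw [Nat.factorial_succ, mul_comm (j + 1)] at h2
    rwa [mul_assoc]
  have h4 : 2 * Nat.card K ∣ (10 : ℕ)! := h3.trans (Nat.factorial_dvd_factorial (by omega))
  have h5' : q * (q * q - 1) ∣ 1814400 := by
    refine hd.trans (Nat.dvd_of_mul_dvd_mul_left (k := 2) (by norm_num) ?_)
    simpa [Nat.factorial] using h4
  obtain ⟨hk, hK360⟩ := h7 (q_eq_five_of_dvd hq8 h5 h5')
  have hcard : Nat.card G = 2520 := by
    have h6 : j ! = 720 := by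
      obtain rfl : j = 6 := by omega
      rfl
    rw [h6] at h3
    have h7' := Nat.le_of_dvd (by norm_num) h3
    have h8 : Nat.card K = 360 := by omega
    rw [← K.card_mul_index, h8, hk]
  exact hG.notModel (isGWModel_2520 hcard)

end CfsgLib.GW
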