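import Cfsg.Agent.Lib.GW.Eigenspace
import Cfsg.Agent.Lib.GW.SmallOrders
import Cfsg.Agent.Lib.GW.Basic
import Cfsg.Agent.Lib.SylJanko.FourAct
import Mathlib.GroupTheory.SpecificGroups.Cyclic

/-!
A2, the endgame `q = 3`: a maximal subgroup with two classes of involutions over the centralizer of
an involution, with quotient of order 24 by its odd core, leaves only the groups of orders 168, 360
and 2520.
-/

set_option autoImplicit false
set_option linter.unusedSectionVars false
set_option linter.style.haveILetI false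

namespace CfsgLib.GW.TwoClassSmall

open Subgroup CfsgLib.Invol
open scoped ComplexConjugate

universe u

variable {G : Type u} [Group G] [Finite G]

/-- What the endgame uses of the character: it is constant on `u v` for `u` a two-element and `v`
of odd order commuting with it, it is faithful and rational on elements of odd order. -/
structure CharData (χ : G → ℂ) (x : ℕ) : Prop where
  char : Cfsg.IsCharacter G χ
  deg : χ 1 = x
  const : ∀ u v : G, u ≠ 1 → (∃ m : ℕ, u ^ 2 ^ m = 1) → Odd (orderOf v) → u * v = v * u →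
    χ (u * v) = χ u
  faithful : ∀ g : G, g ≠ 1 → χ g ≠ χ 1
  rat : ∀ (g : G) (i : ℕ), Odd (orderOf g) → i.Coprime (orderOf g) → χ (g ^ i) = χ g

theorem CharData.value {χ : G → ℂ} {x : ℕ} (hc : CharData χ x) {A : Subgroup G}
    (hA : Nat.card A = 4) {r : G} {p : ℕ} (hp : p.Prime) (hp2 : p ≠ 2) (hr : orderOf r = p)
    (hAr : ∀ u ∈ A, u * r = r * u) :
    ∃ N : ℕ, N ≠ 0 ∧ (p - 1) * 4 * N ≤ x ∧ χ r = (x : ℂ) - (4 * p * N : ℕ) := by
  have hodd : Odd (orderOf r) := hr ▸ hp.odd_of_ne_two hp2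
  have h := eigenspace_value hc.char hc.deg hp hr hAr (fun u hu hu1 i => ?_)
    (fun i hi => hc.rat r i hodd ?_) (hc.faithful r fun e => hp.ne_one (by rw [← hr, e, orderOf_one]))
  · rw [hA] at h; exact h
  · refine hc.const u _ hu1 ⟨2, ?_⟩ (hodd.of_dvd_nat (orderOf_pow_dvd i)) ?_
    · refine orderOf_dvd_iff_pow_eq_one.1 ?_
      have h := A.orderOf_dvd_natCard hu
      rwa [hA] at h
    · exact Commute.pow_right (show Commute u r from hAr u hu) i
  · rw [hr, Nat.coprime_comm]
    exact hp.coprime_iff_not_dvd.2 hi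

theorem CharData.eq_three {χ : G → ℂ} (hc : CharData χ 15) {A : Subgroup G}
    (hA : Nat.card A = 4) {r : G} {p : ℕ} (hp : p.Prime) (hp2 : p ≠ 2) (hr : orderOf r = p)
    (hAr : ∀ u ∈ A, u * r = r * u) : p = 3 ∧ χ r = 3 := by
  obtain ⟨N, hN, hle, hv⟩ := hc.value hA hp hp2 hr hAr
  have hp3 : 3 ≤ p := hp.two_le.lt_of_ne (Ne.symm hp2)
  have h2 : 2 * 4 * N ≤ (p - 1) * 4 * N :=
    Nat.mul_le_mul_right N (Nat.mul_le_mul_right 4 (by omega))
  obtain rfl : N = 1 := by omega
  have hp4 : p ≠ 4 := fun e => by rw [e] at hp; norm_num at hp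
  obtain rfl : p = 3 := by omega
  exact ⟨rfl, by rw [hv]; norm_num⟩

/-- The elements of order dividing three of a commutative group. -/
def omegaThree (W : Type*) [Group W] (h : ∀ a b : W, a * b = b * a) : Subgroup W where
  carrier := {w | w ^ 3 = 1}
  one_mem' := one_pow 3
  mul_mem' := fun {a b} (ha : a ^ 3 = 1) (hb : b ^ 3 = 1) =>
    show (a * b) ^ 3 = 1 by rw [Commute.mul_pow (h a b), ha, hb, one_mul]
  inv_mem' := fun {a} (ha : a ^ 3 = 1) => show a⁻¹ ^ 3 = 1 by rw [inv_pow, ha, inv_one]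

theorem CharData.no_nine {χ : G → ℂ} (hc : CharData χ 15) {A : Subgroup G}
    (hA : Nat.card A = 4) {W : Subgroup G} (hW : Nat.card W = 9)
    (hAW : ∀ u ∈ A, ∀ w ∈ W, u * w = w * u) : False := by
  classical
  haveI := Fintype.ofFinite W
  haveI : Fact (Nat.Prime 3) := ⟨Nat.prime_three⟩
  have hcomm : ∀ a b : W, a * b = b * a :=
    IsPGroup.commutative_of_card_eq_prime_sq (p := 3) (by rw [hW]; norm_num)
  have hdvd : ∀ w : W, orderOf w ∣ 3 ^ 2 := fun w => by
    have h : orderOf w ∣ Nat.card W := _root_.orderOf_dvd_natCard w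
    rw [hW] at h
    simpa using h
  have hval : ∀ w : W, w ^ 3 = 1 → w ≠ 1 → χ (w : G) = 3 := fun w h3 h1 =>
    (hc.eq_three hA Nat.prime_three (by norm_num)
      ((Subgroup.orderOf_coe w).trans (orderOf_eq_prime h3 h1)) (fun u hu => hAW u hu w w.2)).2
  -- one value on the elements of order nine
  obtain ⟨a, ha⟩ : ∃ a : ℂ, ∀ w : W, ¬ w ^ 3 = 1 → χ (w : G) = a := by
    by_cases hex : ∃ w : W, ¬ w ^ 3 = 1
    · obtain ⟨w₁, hw₁⟩ := hex
      refine ⟨χ (w₁ : G), fun w hw => ?_⟩
      have ho : orderOf w₁ = 3 ^ 2 :=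
        orderOf_eq_prime_pow (by simpa using hw₁) (orderOf_dvd_iff_pow_eq_one.1 (hdvd w₁))
      have htop : zpowers w₁ = ⊤ := eq_top_of_card_eq _ (by rw [Nat.card_zpowers, ho, hW]; norm_num)
      obtain ⟨i, hi⟩ := (Submonoid.mem_powers_iff _ _).1
        (mem_powers_iff_mem_zpowers.2 (htop ▸ mem_top w : w ∈ zpowers w₁))
      subst hi
      rw [SubmonoidClass.coe_pow]
      refine hc.rat _ i ?_ ?_
      · rw [Subgroup.orderOf_coe, ho]; decide
      · rw [Subgroup.orderOf_coe, ho]
        refine Nat.Coprime.pow_right 2 (Nat.coprime_comm.1 (Nat.prime_three.coprime_iff_not_dvd.2 ?_))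
        rintro ⟨l, rfl⟩
        apply hw
        rw [← pow_mul, show 3 * l * 3 = 3 ^ 2 * l by ring, pow_mul, ← ho, pow_orderOf_eq_one, one_pow]
    · exact ⟨0, fun w hw => absurd ⟨w, hw⟩ hex⟩
  obtain ⟨w₀, hw₀⟩ := exists_prime_orderOf_dvd_card' (G := W) 3 (by rw [hW]; norm_num)
  obtain ⟨lam, hlam⟩ := Char.exists_linear_ne_one hcomm (g := w₀)
    (fun e => by rw [e, orderOf_one] at hw₀; omega)
  set f : W →* ℂ := (starRingEnd ℂ).toMonoidHom.comp ((Units.coeHom ℂ).comp lam) with hf
  have hfW : ∑ w, f w = 0 := sum_hom_units_eq_zero f (fun h => hlam (by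
    have := DFunLike.congr_fun h w₀
    refine Units.ext ((starRingEnd ℂ).injective ?_)
    simpa [hf] using this))
  set H := omegaThree W hcomm with hH
  have hfH : ∑ w ∈ Finset.univ.filter (fun w : W => w ^ 3 = 1), f w = 0 := by
    haveI := Fintype.ofFinite H
    have h := sum_hom_units_eq_zero (f.comp H.subtype) (fun h => hlam (by
      have := DFunLike.congr_fun h ⟨w₀, (by rw [← hw₀]; exact pow_orderOf_eq_one w₀ : w₀ ^ 3 = 1)⟩
      refine Units.ext ((starRingEnd ℂ).injective ?_)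
      simpa [hf] using this))
    rw [Finset.sum_subtype (p := fun w => w ∈ H) (Finset.univ.filter fun w : W => w ^ 3 = 1)
      (fun w => by simp [H, omegaThree])]
    exact h
  obtain ⟨N, hN⟩ := Char.classInner_isCharacter_nat (Char.isCharacter_comp hc.char W.subtype)
    (isCharacter_unitsHom lam)
  rw [Cfsg.classInner, inv_mul_eq_iff_eq_mul₀ (by simp), hW] at hN
  have hsplit := Finset.sum_filter_add_sum_filter_not Finset.univ (fun w : W => w ^ 3 = 1)
    (fun w => χ (w : G) * f w)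
  have hfN : ∑ w ∈ Finset.univ.filter (fun w : W => ¬ w ^ 3 = 1), f w = 0 := by
    have := Finset.sum_filter_add_sum_filter_not Finset.univ (fun w : W => w ^ 3 = 1) f
    rwa [hfW, hfH, zero_add] at this
  have hrest : ∑ w ∈ Finset.univ.filter (fun w : W => ¬ w ^ 3 = 1), χ (w : G) * f w = 0 := by
    rw [Finset.sum_congr rfl (g := fun w => a * f w)
      (fun w hw => by rw [ha w (Finset.mem_filter.1 hw).2]), ← Finset.mul_sum, hfN, mul_zero]
  have h1 : (1 : W) ∈ Finset.univ.filter (fun w : W => w ^ 3 = 1) := by simp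
  have hH3 : ∑ w ∈ Finset.univ.filter (fun w : W => w ^ 3 = 1), χ (w : G) * f w = 12 := by
    rw [← Finset.add_sum_erase _ _ h1] at hfH
    rw [← Finset.add_sum_erase _ _ h1, Finset.sum_congr rfl (g := fun w => 3 * f w)
      (fun w hw => by
        rw [hval w (Finset.mem_filter.1 (Finset.mem_erase.1 hw).2).2 (Finset.mem_erase.1 hw).1]),
      ← Finset.mul_sum]
    rw [map_one] at hfH
    rw [OneMemClass.coe_one, hc.deg, map_one]
    push_cast
    linear_combination (3 : ℂ) * hfH
  rw [hH3, hrest, add_zero] at hsplit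
  have hfun : ∑ w : W, χ (w : G) * f w = 12 := hsplit.symm
  have h12 : ((12 : ℕ) : ℂ) = ((9 * N : ℕ) : ℂ) := by
    push_cast
    rw [← hfun]
    exact hN
  have := Nat.cast_injective h12
  omega

/-- A subgroup of odd order centralising a group of order four has order at most three. -/
theorem CharData.card_le_three {χ : G → ℂ} (hc : CharData χ 15) {A : Subgroup G}
    (hA : Nat.card A = 4) {Q : Subgroup G} (hQ : Odd (Nat.card Q))
    (hAQ : ∀ u ∈ A, ∀ w ∈ Q, u * w = w * u) : Nat.card Q = 1 ∨ Nat.card Q = 3 := by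
  have hprime : ∀ p : ℕ, p.Prime → p ∣ Nat.card Q → p = 3 := fun p hp hd => by
    haveI : Fact p.Prime := ⟨hp⟩
    obtain ⟨w, hw⟩ := exists_prime_orderOf_dvd_card' (G := Q) p hd
    exact (hc.eq_three hA hp (fun e => by
      rw [e] at hd; exact (Nat.not_even_iff_odd.2 hQ) (even_iff_two_dvd.2 hd))
      ((Subgroup.orderOf_coe w).trans hw) (fun u hu => hAQ u hu w w.2)).1
  obtain ⟨n, hn⟩ : ∃ n, Nat.card Q = 3 ^ n :=
    ⟨_, Nat.eq_prime_pow_of_unique_prime_dvd Nat.card_pos.ne' (fun {d} hd hd' => hprime d hd hd')⟩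
  rcases n with _ | _ | n
  · exact Or.inl (by simpa using hn)
  · exact Or.inr (by simpa using hn)
  · exfalso
    haveI : Fact (Nat.Prime 3) := ⟨Nat.prime_three⟩
    obtain ⟨W, hW⟩ := Sylow.exists_subgroup_card_pow_prime (G := Q) 3 (n := 2)
      (by rw [hn]; exact pow_dvd_pow 3 (by omega))
    refine hc.no_nine hA (W := W.map Q.subtype)
      (by rw [card_map_of_injective (subtype_injective _), hW]; norm_num) ?_
    rintro u hu _ ⟨w, -, rfl⟩
    exact hAQ u hu w w.2

/-! ### Conjugation -/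

theorem inf_cI_conj {R : Subgroup G} {k : G} (hk : k ∈ normalizer (R : Set G)) (a : G) :
    (R ⊓ cI a).map (MulAut.conj k).toMonoidHom = R ⊓ cI (k * a * k⁻¹) := by
  rw [Subgroup.map_inf _ _ _ (MulAut.conj k).injective, cI_conj]
  congr 1
  exact le_antisymm (by rintro _ ⟨w, hw, rfl⟩; exact (mem_normalizer_iff.1 hk w).1 hw)
    fun w hw => ⟨k⁻¹ * w * k, (mem_normalizer_iff''.1 hk w).1 hw, by simp [mul_assoc]⟩

theorem card_inf_cI_conj {R : Subgroup G} {k : G} (hk : k ∈ normalizer (R : Set G)) (a : G) :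
    Nat.card ↥(R ⊓ cI (k * a * k⁻¹)) = Nat.card ↥(R ⊓ cI a) := by
  rw [← inf_cI_conj hk a, card_map_of_injective (MulAut.conj k).injective]

theorem card_coreC_eq (M : Min G) {a b : G} (ha : orderOf a = 2) (hb : orderOf b = 2) :
    Nat.card (coreC a) = Nat.card (coreC b) := by
  obtain ⟨x, rfl⟩ := isConj_iff.1 (M.one_class ha hb)
  rw [← coreC_conj, card_map_of_injective (MulAut.conj x).injective]

theorem card_mul_relIndex {H L : Subgroup G} (h : H ≤ L) :
    Nat.card H * H.relIndex L = Nat.card L := by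
  rw [← relIndex_bot_left, ← relIndex_bot_left, relIndex_mul_relIndex _ _ _ bot_le h]

theorem inf_cI_le_coreC (M : Min G) {R : Subgroup G} (hR : Odd (Nat.card R)) {a : G}
    (ha : orderOf a = 2) : R ⊓ cI a ≤ coreC a :=
  fun _ hx => M.mem_coreC ha hx.2 (SylJanko.odd_order_of_mem hR hx.1)

/-! ### The two reflections -/

section Dih

variable (T : Sylow 2 G) (D : DihData (T : Subgroup G))

/-- The rotation. -/
abbrev dr : G := ((D.r : (T : Subgroup G)) : G)

theorem dz_mul_dt (i : ℤ) : dz T D * dt T D i = dt T D (i + D.h) := by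
  refine congrArg Subtype.val (?_ : D.z * (D.r ^ i * D.s) = D.r ^ (i + (D.h : ℤ)) * D.s)
  rw [DihData.z, ← mul_assoc, ← zpow_add, add_comm]

theorem dr_conj (i : ℤ) : dr T D * dt T D i * (dr T D)⁻¹ = dt T D (i + 2) := by
  refine congrArg Subtype.val
    (?_ : D.r * (D.r ^ i * D.s) * D.r⁻¹ = D.r ^ (i + 2) * D.s)
  have h := D.conj_refl 1 i
  rwa [zpow_one, mul_one] at h

theorem dr_conj_dz : dr T D * dz T D * (dr T D)⁻¹ = dz T D :=
  conj_eq_self (mem_cI.2 (dz_commute T D (SetLike.coe_mem D.r)).symm.eq)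

theorem dt_add_period (i : ℤ) : dt T D (i + 2 * D.h) = dt T D i := by
  refine congrArg Subtype.val (congrArg (· * D.s) (?_ : D.r ^ (i + 2 * (D.h : ℤ)) = D.r ^ i))
  rw [D.zpow_eq_iff]
  exact ⟨-1, by ring⟩

theorem dt_succ_mul_dt (i : ℤ) : dt T D (i + 1) * dt T D i = dr T D := by
  refine congrArg Subtype.val (?_ : D.r ^ (i + 1) * D.s * (D.r ^ i * D.s) = D.r)
  rw [D.zy_mul_zy, add_sub_cancel_left, zpow_one]

theorem orderOf_dt (i : ℤ) : orderOf (dt T D i) = 2 :=
  (Subgroup.orderOf_coe _).trans (D.orderOf_zy i)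

theorem orderOf_dz : orderOf (dz T D) = 2 := (Subgroup.orderOf_coe _).trans D.orderOf_z

theorem dz_ne_dt (i : ℤ) : dz T D ≠ dt T D i := fun e => D.ne_zpow i _ (Subtype.ext e).symm

end Dih

/-- The setting. -/
structure Setting (T : Sylow 2 G) (D : DihData (T : Subgroup G)) (K R : Subgroup G) (j : ℤ) :
    Prop where
  min : Min G
  coatom : IsCoatom K
  hh : D.h = 2
  hTK : (T : Subgroup G) ≤ K
  hRK : R ≤ K
  hKn : K ≤ normalizer (R : Set G)
  hRodd : Odd (Nat.card R)
  hcard : Nat.card K = 24 * Nat.card R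
  hO : coreC (dz T D) ≤ R
  hfus : ∃ k ∈ K, k * dz T D * k⁻¹ = dt T D j
  hnf : ¬ ∃ k ∈ K, k * dz T D * k⁻¹ = dt T D (j + 1)

variable {T : Sylow 2 G} {D : DihData (T : Subgroup G)} {K R : Subgroup G} {j : ℤ}

section

variable (S : Setting T D K R j)
include S

theorem Setting.dz_mul (i : ℤ) : dz T D * dt T D i = dt T D (i + 2) := by
  rw [dz_mul_dt T D i, S.hh]; norm_num

theorem Setting.period (i : ℤ) : dt T D (i + 4) = dt T D i := by
  have := dt_add_period T D i
  rwa [S.hh] at this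

theorem Setting.normT {w : G} (hw : w ∈ (T : Subgroup G)) : w ∈ normalizer (R : Set G) :=
  S.hKn (S.hTK hw)

theorem Setting.inf_dz : R ⊓ cI (dz T D) = coreC (dz T D) :=
  le_antisymm (inf_cI_le_coreC S.min S.hRodd (orderOf_dz T D)) (le_inf S.hO (coreC_le_cI _))

theorem Setting.card_dt_two (i : ℤ) :
    Nat.card ↥(R ⊓ cI (dt T D (i + 2))) = Nat.card ↥(R ⊓ cI (dt T D i)) := by
  rw [← dr_conj T D i, card_inf_cI_conj (S.normT (SetLike.coe_mem D.r))]

theorem Setting.inf_dt_comm (i : ℤ) :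
    R ⊓ cI (dz T D) ⊓ cI (dt T D (i + 2)) = R ⊓ cI (dz T D) ⊓ cI (dt T D i) := by
  have key : ∀ a b w : G, Commute w a → Commute w b → Commute w (a * b) :=
    fun a b w h1 h2 => h1.mul_right h2
  refine le_antisymm (fun w hw => ⟨hw.1, mem_cI.2 ?_⟩) fun w hw => ⟨hw.1, mem_cI.2 ?_⟩
  all_goals
    have h := key _ _ w (mem_cI.1 hw.1.2 : Commute w (dz T D)) (mem_cI.1 hw.2 : Commute w _)
    rw [S.dz_mul] at h
  · exact h.eq
  · rwa [show i + 2 + 2 = i + 4 by ring, S.period] at h

theorem Setting.card_dt_fused :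
    Nat.card ↥(R ⊓ cI (dt T D j)) = Nat.card ↥(coreC (dz T D)) := by
  obtain ⟨k, hk, e⟩ := S.hfus
  rw [← e, card_inf_cI_conj (S.hKn hk), S.inf_dz]

theorem Setting.gen : R ≤ (R ⊓ cI (dz T D)) ⊔ (R ⊓ cI (dt T D j)) ⊔ (R ⊓ cI (dt T D (j + 2))) := by
  have h := SylJanko.four_gen S.hRodd (orderOf_dz T D) (orderOf_dt T D j)
    (dz_commute T D (SetLike.coe_mem _)).eq (dz_ne_dt T D j)
    (S.normT (SetLike.coe_mem _)) (S.normT (SetLike.coe_mem _))
  rwa [S.dz_mul] at h

/-- The order of `R` from the four-group of the unfused reflection. -/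
theorem Setting.card_R :
    Nat.card R * Nat.card ↥(coreC (dz T D) ⊓ cI (dt T D (j + 1))) ^ 2 =
      Nat.card ↥(coreC (dz T D)) * Nat.card ↥(R ⊓ cI (dt T D (j + 1))) ^ 2 := by
  have h := SylJanko.card_four_formula S.hRodd (invol_mul_self (orderOf_dz T D))
    (invol_mul_self (orderOf_dt T D (j + 1))) (dz_commute T D (SetLike.coe_mem _)).eq
    (S.normT (SetLike.coe_mem _)) (S.normT (SetLike.coe_mem _))
  rw [S.dz_mul, show j + 1 + 2 = (j + 1) + 2 from rfl, S.card_dt_two] at h
  rw [show (R ⊓ centralizer ({dz T D} : Set G)) = coreC (dz T D) from S.inf_dz] at h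
  rw [h]; ring

/-- Equal fixed points: the core of `K` is trivial. -/
theorem Setting.bot_of_eq
    (heq : Nat.card ↥(R ⊓ cI (dt T D (j + 1))) = Nat.card ↥(coreC (dz T D))) : R = ⊥ := by
  have M := S.min
  set z := dz T D
  set y := dt T D (j + 1)
  have hz : orderOf z = 2 := orderOf_dz T D
  have hy : orderOf y = 2 := orderOf_dt T D _
  have hy' : orderOf (z * y) = 2 := by rw [S.dz_mul]; exact orderOf_dt T D _
  -- the three centralizers are the three cores
  have cz : R ⊓ cI z = coreC z := S.inf_dz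
  have cy : R ⊓ cI y = coreC y := eq_of_le_of_card_ge (inf_cI_le_coreC M S.hRodd hy)
    (by rw [heq, card_coreC_eq M hy hz])
  have czy : R ⊓ cI (z * y) = coreC (z * y) := eq_of_le_of_card_ge (inf_cI_le_coreC M S.hRodd hy')
    (by rw [S.dz_mul, S.card_dt_two, heq, card_coreC_eq M (orderOf_dt T D _) hz])
  obtain ⟨g, hg⟩ := M.exists_four T hz (SetLike.coe_mem D.z)
    (fun w hw => mem_cI.2 (dz_commute T D hw).symm.eq) hy (SetLike.coe_mem _) (dz_ne_dt T D _).symm
  set ρ := dr T D
  have hρz : ρ * z * ρ⁻¹ = z := dr_conj_dz T D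
  have hρy : ρ * y * ρ⁻¹ = z * y := by rw [dr_conj, S.dz_mul]
  set h := g * ρ * g⁻¹
  have hhy : h * y * h⁻¹ = y := by
    calc h * y * h⁻¹ = g * (ρ * (g⁻¹ * (g * z * g⁻¹) * g) * ρ⁻¹) * g⁻¹ := by
          rw [hg.ga]; simp only [h]; group
      _ = g * (ρ * z * ρ⁻¹) * g⁻¹ := by group
      _ = y := by rw [hρz, hg.ga]
  have hhzy : h * (z * y) * h⁻¹ = z := by
    calc h * (z * y) * h⁻¹ = g * (ρ * (g⁻¹ * (g * y * g⁻¹) * g) * ρ⁻¹) * g⁻¹ := by
          rw [hg.gb]; simp only [h]; group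
      _ = g * (ρ * y * ρ⁻¹) * g⁻¹ := by group
      _ = z := by rw [hρy, hg.gab]
  have hyz : y * z = z * y := (dz_commute T D (SetLike.coe_mem _)).symm.eq
  have hhz : h * z * h⁻¹ = z * y := by
    have e : z = z * y * y := by rw [mul_assoc, invol_mul_self hy, mul_one]
    calc h * z * h⁻¹ = h * (z * y * y) * h⁻¹ := by rw [← e]
      _ = h * (z * y) * h⁻¹ * (h * y * h⁻¹) := by group
      _ = z * y := by rw [hhzy, hhy]
  have hhK : h ∉ K := fun hK => S.hnf ⟨ρ⁻¹ * h, mul_mem (inv_mem (S.hTK (SetLike.coe_mem D.r))) hK, by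
    calc ρ⁻¹ * h * z * (ρ⁻¹ * h)⁻¹ = ρ⁻¹ * (h * z * h⁻¹) * ρ := by group
      _ = ρ⁻¹ * (ρ * y * ρ⁻¹) * ρ := by rw [hhz, hρy]
      _ = y := by group⟩
  have hhR : h ∈ normalizer (R : Set G) := by
    have hgen : R = coreC z ⊔ coreC y ⊔ coreC (z * y) := by
      refine le_antisymm ?_ (sup_le (sup_le ?_ ?_) ?_)
      · rw [← cz, ← cy, ← czy]
        exact SylJanko.four_gen S.hRodd hz hy hyz.symm (dz_ne_dt T D _)
          (S.normT (SetLike.coe_mem _)) (S.normT (SetLike.coe_mem _))
      · exact S.hO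
      · exact cy ▸ inf_le_left
      · exact czy ▸ inf_le_left
    refine mem_normalizer_iff_of_finite fun w hw => ?_
    have hm : R.map (MulAut.conj h).toMonoidHom ≤ R := by
      conv_lhs => rw [hgen]
      rw [Subgroup.map_sup, Subgroup.map_sup, coreC_conj, coreC_conj, coreC_conj, hhz, hhy, hhzy]
      exact sup_le (sup_le (czy ▸ inf_le_left) (cy ▸ inf_le_left)) S.hO
    exact hm ⟨w, hw, rfl⟩
  by_contra hne
  have htop : R ≠ ⊤ := fun e => by
    have h2 : 2 ∣ Nat.card R := by
      rw [e, card_top, ← hz]; exact orderOf_dvd_natCard z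
    exact Nat.not_even_iff_odd.2 S.hRodd (even_iff_two_dvd.2 h2)
  exact hhK (((S.coatom.le_iff.1 S.hKn).resolve_left (M.normalizer_ne_top hne htop)) ▸ hhR)

theorem Setting.card_G {k : ℕ} (hk : K.index = k) : Nat.card G = 24 * Nat.card R * k := by
  rw [← S.hcard, ← hk, card_mul_index]

variable {χ : G → ℂ}

/-- With `y` inverting `O(C(z))`: the core splits as fixed points of a reflection and of the
rotation, and is commutative. -/
theorem Setting.inverted (h1 : Nat.card ↥(coreC (dz T D) ⊓ cI (dt T D (j + 1))) = 1) :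
    (∀ w ∈ coreC (dz T D), dt T D (j + 1) * w * dt T D (j + 1) = w⁻¹) ∧
      Nat.card ↥(coreC (dz T D)) = Nat.card ↥(coreC (dz T D) ⊓ cI (dt T D j)) *
        Nat.card ↥(coreC (dz T D) ⊓ cI (dr T D)) := by
  set O := coreC (dz T D)
  set y := dt T D (j + 1)
  set J := dt T D j
  have hy2 : y * y = 1 := invol_mul_self (orderOf_dt T D _)
  have hJ2 : J * J = 1 := invol_mul_self (orderOf_dt T D _)
  have hn : ∀ w ∈ (T : Subgroup G), w ∈ normalizer (O : Set G) := fun w hw =>
    cI_le_normalizer_coreC _ (mem_cI.2 (dz_commute T D hw).symm.eq)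
  have e := SylJanko.card_eq_fixed_mul_inverted (odd_coreC _) hy2 (hn y (SetLike.coe_mem _))
  rw [h1, one_mul] at e
  have hall : ∀ w ∈ O, y * w * y = w⁻¹ := by
    have hss : {w : G | w ∈ O ∧ y * w * y = w⁻¹} = (O : Set G) :=
      Set.eq_of_subset_of_ncard_le (fun w hw => hw.1) (by
        rw [← Nat.card_coe_set_eq, ← Nat.card_coe_set_eq]; exact e.le) (Set.toFinite _)
    exact fun w hw => (hss.ge hw).2
  refine ⟨hall, ?_⟩
  rw [SylJanko.card_eq_fixed_mul_inverted (odd_coreC _) hJ2 (hn J (SetLike.coe_mem _))]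
  congr 1
  refine Nat.card_congr (Equiv.subtypeEquivRight fun w => ?_)
  rw [mem_inf, mem_cI, ← dt_succ_mul_dt T D j]
  refine and_congr_right fun hw => ?_
  show J * w * J = w⁻¹ ↔ w * (y * J) = y * J * w
  have hJw : J * w * J ∈ O := SylJanko.invol_conj_mem hJ2 (hn J (SetLike.coe_mem _)) hw
  have hyJ : y * (J * w * J) * y = (J * w * J)⁻¹ := hall _ hJw
  clear_value y J
  refine ⟨fun h => ?_, fun h => ?_⟩
  · calc w * (y * J) = (w * y) * J := (mul_assoc _ _ _).symm
      _ = (y * (J * w * J) * y) * y * J := by rw [hyJ, h, inv_inv]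
      _ = y * J * w * (J * (y * y) * J) := by group
      _ = y * J * w := by rw [hy2, mul_one, hJ2, mul_one]
  · have h2 : w = (J * w * J)⁻¹ := by
      calc w = w * (y * J) * (J * y) := by
            rw [show w * (y * J) * (J * y) = w * (y * (J * J) * y) by group, hJ2, mul_one, hy2, mul_one]
        _ = y * (J * w * J) * y := by rw [h]; group
        _ = _ := hyJ
    have := congrArg (·⁻¹) h2
    simpa using this.symm

/-- The core is commutative when the two reflections' groups have the orders of the case `A = 3B`. -/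
theorem Setting.comm (hR81 : Nat.card R = 81) (hO9 : Nat.card ↥(coreC (dz T D)) = 9)
    (hW : Nat.card ↥(coreC (dz T D) ⊓ cI (dt T D j)) = 3)
    (hOab : ∀ a ∈ coreC (dz T D), ∀ b ∈ coreC (dz T D), a * b = b * a) :
    ∀ a ∈ R, ∀ b ∈ R, a * b = b * a := by
  haveI : Fact (Nat.Prime 3) := ⟨Nat.prime_three⟩
  set z := dz T D
  set O := coreC z
  have hz2 : z * z = 1 := invol_mul_self (orderOf_dz T D)
  have hzinv : z⁻¹ = z := invol_inv (orderOf_dz T D)
  have hzn : z ∈ normalizer (R : Set G) := S.normT (SetLike.coe_mem _)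
  have hzO : z ∈ normalizer (O : Set G) := cI_le_normalizer_coreC _ (self_mem_cI _)
  have hfix : ∀ w ∈ O, z * w * z = w := fun w hw => by
    have h := mem_cI.1 (coreC_le_cI _ hw)
    rw [← h, mul_assoc, hz2, mul_one]
  -- the normalizer of `O` in `R`
  set N := R ⊓ normalizer (O : Set G)
  have hNodd : Odd (Nat.card N) := S.hRodd.of_dvd_nat (card_dvd_of_le inf_le_left)
  have hNn : ∀ w ∈ (T : Subgroup G), w ∈ normalizer (N : Set G) := fun w hw => by
    have hwO : w ∈ normalizer (O : Set G) :=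
      cI_le_normalizer_coreC _ (mem_cI.2 (dz_commute T D hw).symm.eq)
    refine mem_normalizer_iff_of_finite fun v hv => ⟨(mem_normalizer_iff.1 (S.normT hw) v).1 hv.1, ?_⟩
    exact mul_mem (mul_mem hwO hv.2) ((normalizer (O : Set G)).inv_mem hwO)
  have hgrow : ¬ N ≤ O := by
    haveI : Group.IsNilpotent R := (IsPGroup.of_card (p := 3) (n := 4) (by rw [hR81]; norm_num)).isNilpotent
    have hlt : O.subgroupOf R < ⊤ := lt_top_iff_ne_top.2 fun e => by
      have := card_le_of_le (subgroupOf_eq_top.1 e)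
      omega
    have h2 := Group.normalizerCondition_of_isNilpotent (G := R) _ hlt
    intro hle
    apply h2.not_ge
    intro v hv
    rw [← subgroupOf_normalizer_eq S.hO] at hv
    exact mem_subgroupOf.2 (hle ⟨v.2, mem_subgroupOf.1 hv⟩)
  -- one of the reflections has fixed points outside `O` normalizing it
  obtain ⟨i, hi, n, hn, hnO⟩ : ∃ i, (i = j ∨ i = j + 2) ∧ ∃ n ∈ N ⊓ cI (dt T D i), n ∉ O := by
    by_contra hcon
    push Not at hcon
    apply hgrow
    refine (SylJanko.four_gen hNodd (orderOf_dz T D) (orderOf_dt T D j)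
      (dz_commute T D (SetLike.coe_mem _)).eq (dz_ne_dt T D j) (hNn _ (SetLike.coe_mem _))
      (hNn _ (SetLike.coe_mem _))).trans (sup_le (sup_le ?_ ?_) ?_)
    · exact fun w hw => S.inf_dz.le ⟨hw.1.1, hw.2⟩
    · exact fun w hw => hcon j (Or.inl rfl) w hw
    · rw [S.dz_mul]
      exact fun w hw => hcon (j + 2) (Or.inr rfl) w hw
  set a := dt T D i
  have hCa : Nat.card ↥(R ⊓ cI a) = 9 := by
    rcases hi with rfl | rfl
    · rw [S.card_dt_fused, hO9]
    · rw [show a = dt T D (j + 2) from rfl, S.card_dt_two, S.card_dt_fused, hO9]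
  have hWa : Nat.card ↥(O ⊓ cI a) = 3 := by
    rcases hi with rfl | rfl
    · exact hW
    · rw [show O ⊓ cI a = O ⊓ cI (dt T D j) by
        show coreC z ⊓ cI (dt T D (j + 2)) = coreC z ⊓ cI (dt T D j)
        rw [← S.inf_dz]; exact S.inf_dt_comm j, hW]
  have hCab : ∀ u ∈ R ⊓ cI a, ∀ v ∈ R ⊓ cI a, u * v = v * u := fun u hu v hv =>
    congrArg Subtype.val ((IsPGroup.commutative_of_card_eq_prime_sq (p := 3)
      (G := ↥(R ⊓ cI a)) (by rw [hCa]; norm_num)) ⟨u, hu⟩ ⟨v, hv⟩)
  -- `n` centralises `O`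
  have hnR : n ∈ R := hn.1.1
  have hnCa : n ∈ R ⊓ cI a := ⟨hnR, hn.2⟩
  have hn'Ca : z * n * z ∈ R ⊓ cI a := ⟨SylJanko.invol_conj_mem hz2 hzn hnR, by
    have hza : Commute z a := dz_commute T D (SetLike.coe_mem _)
    exact mem_cI.2 (((hza.mul_left (mem_cI.1 hn.2 : Commute n a)).mul_left hza).eq)⟩
  set w := z * n * z * n
  have hwO : w ∈ O := S.inf_dz.le ⟨mul_mem hn'Ca.1 hnR, mem_cI.2 (by
    calc w * z = (z * n * z) * n * z := rfl
      _ = n * (z * n * z) * z := by rw [hCab _ hn'Ca _ hnCa]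
      _ = n * z * n * (z * z) := by group
      _ = (z * z) * n * z * n := by rw [hz2]; group
      _ = z * w := by simp only [w]; group)⟩
  have hnc : ∀ x ∈ O, n * x = x * n := by
    intro x hx
    have hconj : n * x * n⁻¹ ∈ O := (mem_normalizer_iff.1 hn.1.2 x).1 hx
    have hconj' : n⁻¹ * x * n ∈ O := (mem_normalizer_iff''.1 hn.1.2 x).1 hx
    have e : n * x * n⁻¹ = n⁻¹ * x * n := by
      calc n * x * n⁻¹ = z * (n * x * n⁻¹) * z := (hfix _ hconj).symm
        _ = (z * n * z) * (z * x * z) * (z * n * z)⁻¹ := by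
            have hzz : ∀ b : G, z * (z * b) = b := fun b => by rw [← mul_assoc, hz2, one_mul]
            simp only [mul_inv_rev, hzinv, mul_assoc, hzz]
        _ = (w * n⁻¹) * x * (w * n⁻¹)⁻¹ := by rw [hfix x hx]; simp only [w]; group
        _ = w * (n⁻¹ * x * n) * w⁻¹ := by group
        _ = n⁻¹ * x * n := by rw [hOab _ hwO _ hconj', mul_inv_cancel_right]
    have h2 : Commute (n * n) x := by
      show n * n * x = x * (n * n)
      calc n * n * x = n * (n * x * n⁻¹) * n := by group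
        _ = n * (n⁻¹ * x * n) * n := by rw [e]
        _ = x * (n * n) := by group
    exact ((mem_cI (a := x)).1 (SylJanko.mem_of_sq_of_odd (M := cI x)
      (SylJanko.odd_order_of_mem S.hRodd hnR) (mem_cI.2 h2.eq)))
  -- so does the whole centralizer of the reflection
  have hCO : ∀ u ∈ R ⊓ cI a, ∀ x ∈ O, u * x = x * u := by
    set U := (R ⊓ cI a) ⊓ centralizer (O : Set G)
    have hle : O ⊓ cI a ≤ U := fun v hv => ⟨⟨S.hO hv.1, hv.2⟩,
      mem_centralizer_iff.2 fun x hx => hOab x hx v hv.1⟩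
    have hnU : n ∈ U := ⟨hnCa, mem_centralizer_iff.2 fun x hx => (hnc x hx).symm⟩
    have hlt : O ⊓ cI a < U := lt_of_le_of_ne hle fun e => hnO (e.symm.le hnU).1
    have hU : U = R ⊓ cI a := by
      refine eq_of_le_of_card_ge inf_le_left ?_
      have h1 : 3 ∣ Nat.card U := hWa ▸ card_dvd_of_le hle
      have h2 : 3 < Nat.card U := hWa ▸ lt_of_not_ge fun h => hlt.ne (eq_of_le_of_card_ge hle h)
      have h3 : Nat.card U ∣ 9 := hCa ▸ card_dvd_of_le inf_le_left
      have h4 := Nat.le_of_dvd (by norm_num) h3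
      rcases (Nat.dvd_prime_pow Nat.prime_three (m := 2)).1 (by simpa using h3) with ⟨e, he, hc⟩
      interval_cases e <;> simp [hc] at h2 <;> rw [hCa, hc] <;> norm_num
    exact fun u hu x hx => (mem_centralizer_iff.1 (hU.ge hu).2 x hx).symm
  -- both reflections, by the rotation
  have hboth : ∀ l, (l = j ∨ l = j + 2) → R ⊓ cI (dt T D l) ≤ centralizer (O : Set G) := by
    set ρ := dr T D
    have hρR : ρ ∈ normalizer (R : Set G) := S.normT (SetLike.coe_mem _)
    have hρO : ρ ∈ normalizer (O : Set G) :=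
      cI_le_normalizer_coreC _ (mem_cI.2 (dz_commute T D (SetLike.coe_mem _)).symm.eq)
    have hnext : R ⊓ cI (dt T D (i + 2)) ≤ centralizer (O : Set G) := by
      rw [← dr_conj, ← inf_cI_conj hρR]
      rintro _ ⟨u, hu, rfl⟩
      refine mem_centralizer_iff.2 fun x hx => ?_
      show x * (ρ * u * ρ⁻¹) = ρ * u * ρ⁻¹ * x
      calc x * (ρ * u * ρ⁻¹) = ρ * ((ρ⁻¹ * x * ρ) * u) * ρ⁻¹ := by group
        _ = ρ * (u * (ρ⁻¹ * x * ρ)) * ρ⁻¹ := by
            rw [hCO u hu _ ((mem_normalizer_iff''.1 hρO x).1 hx)]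
        _ = ρ * u * ρ⁻¹ * x := by group
    have hhere : R ⊓ cI a ≤ centralizer (O : Set G) := fun u hu =>
      mem_centralizer_iff.2 fun x hx => (hCO u hu x hx).symm
    intro l hl
    rcases hi with hi | hi <;> rcases hl with hl | hl <;> rw [hl]
    · rwa [← hi]
    · rwa [← hi]
    · rwa [hi, show j + 2 + 2 = j + 4 by ring, S.period] at hnext
    · rwa [← hi]
  have hRO : R ≤ centralizer (O : Set G) := S.gen.trans
    (sup_le (sup_le (fun u hu => mem_centralizer_iff.2 fun x hx => hOab x hx u (S.inf_dz.le hu))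
      (hboth j (Or.inl rfl))) (hboth _ (Or.inr rfl)))
  have hcent : ∀ k ∈ normalizer (R : Set G), R ⊓ cI (k * z * k⁻¹) ≤ centralizer (R : Set G) := by
    intro k hk
    rw [← inf_cI_conj hk]
    rintro _ ⟨u, hu, rfl⟩
    refine mem_centralizer_iff.2 fun x hx => ?_
    have h := mem_centralizer_iff.1 (hRO ((mem_normalizer_iff''.1 hk x).1 hx)) u (S.inf_dz.le hu)
    show x * (k * u * k⁻¹) = k * u * k⁻¹ * x
    calc x * (k * u * k⁻¹) = k * ((k⁻¹ * x * k) * u) * k⁻¹ := by group
      _ = k * (u * (k⁻¹ * x * k)) * k⁻¹ := by rw [h]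
      _ = k * u * k⁻¹ * x := by group
  obtain ⟨k, hk, ek⟩ := S.hfus
  have hR : R ≤ centralizer (R : Set G) := by
    refine S.gen.trans (sup_le (sup_le ?_ ?_) ?_)
    · have := hcent 1 (one_mem _)
      rwa [one_mul, inv_one, mul_one] at this
    · have := hcent k (S.hKn hk)
      rwa [ek] at this
    · have := hcent (dr T D * k) (mul_mem (S.normT (SetLike.coe_mem _)) (S.hKn hk))
      rwa [show dr T D * k * z * (dr T D * k)⁻¹ = dr T D * (k * z * k⁻¹) * (dr T D)⁻¹ by group,
        ek, dr_conj] at this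
  exact fun u hu v hv => (mem_centralizer_iff.1 (hR hu) v hv).symm

/-- No group of order `2 ^ 3 * 3 ^ 5 * 35`. -/
theorem Setting.no_large (hc : CharData χ 15) (hk : K.index = 35) (hR81 : Nat.card R = 81)
    (hab : ∀ a ∈ R, ∀ b ∈ R, a * b = b * a)
    (hy : Nat.card ↥(coreC (dz T D) ⊓ cI (dt T D (j + 1))) = 1) : False := by
  classical
  haveI : Fact (Nat.Prime 3) := ⟨Nat.prime_three⟩
  haveI : Fact (Nat.Prime 2) := ⟨Nat.prime_two⟩
  have M := S.min
  set z := dz T D
  have hK : Nat.card K = 3 ^ 5 * 8 := by rw [S.hcard, hR81]; norm_num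
  have hG : Nat.card G = 3 ^ 5 * 280 := by
    rw [S.card_G hk, hR81]; norm_num
  have hRne : R ≠ ⊥ := fun e => by rw [e, card_bot] at hR81; norm_num at hR81
  have hRtop : R ≠ ⊤ := fun e => by rw [e, card_top, hG] at hR81; norm_num at hR81
  have hNR : normalizer (R : Set G) = K :=
    (S.coatom.le_iff.1 S.hKn).resolve_left (M.normalizer_ne_top hRne hRtop)
  obtain ⟨P₀, hP₀⟩ := Sylow.exists_subgroup_card_pow_prime (G := K) 3 (n := 5)
    (by rw [hK]; exact dvd_mul_right _ _)
  set P := P₀.map K.subtype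
  have hPK : P ≤ K := map_subtype_le _
  have hPc : Nat.card P = 3 ^ 5 := (card_map_of_injective (subtype_injective _)).trans hP₀
  have hPp : IsPGroup 3 P := IsPGroup.of_card hPc
  have hRp : IsPGroup 3 R := IsPGroup.of_card (n := 4) (hR81.trans (by norm_num))
  -- every such subgroup of `K` contains `R`
  have hcont : ∀ Q : Subgroup G, Q ≤ K → Nat.card Q = 3 ^ 5 → R ≤ Q := by
    intro Q hQK hQ
    have hp : IsPGroup 3 ↥(R ⊔ Q) :=
      hRp.to_sup_of_normal_left' (IsPGroup.of_card hQ) (hQK.trans S.hKn)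
    obtain ⟨e, he⟩ := IsPGroup.iff_card.1 hp
    have h1 : Nat.card ↥(R ⊔ Q) ∣ 3 ^ 5 * 8 := hK ▸ card_dvd_of_le (sup_le S.hRK hQK)
    have h2 : Nat.card ↥(R ⊔ Q) ∣ 3 ^ 5 :=
      (Nat.Coprime.dvd_of_dvd_mul_right (by rw [he]; exact Nat.Coprime.pow_left _ (by norm_num)) h1)
    have : Q = R ⊔ Q := eq_of_le_of_card_ge le_sup_right
      (by rw [hQ]; exact Nat.le_of_dvd (by norm_num) h2)
    exact le_sup_left.trans this.ge
  have hRP : R ≤ P := hcont P hPK hPc
  -- `P` is not normal in `K`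
  obtain ⟨k₁, hk₁, hne⟩ : ∃ k ∈ K, P.map (MulAut.conj k).toMonoidHom ≠ P := by
    by_contra hcon
    push Not at hcon
    have hKP : ∀ k ∈ K, ∀ p ∈ P, k * p * k⁻¹ ∈ P := fun k hk p hp => (hcon k hk).le ⟨p, hp, rfl⟩
    have hdisj : ∀ w ∈ P, w ∈ (T : Subgroup G) → w = 1 := fun w hw hw' => by
      have h1 := orderOf_dvd_natCard P hw
      have h2 := orderOf_dvd_natCard (T : Subgroup G) hw'
      rw [hPc] at h1
      rw [D.card_eq, S.hh] at h2
      exact orderOf_eq_one_iff.1
        (Nat.eq_one_of_dvd_coprimes (by norm_num : Nat.Coprime (3 ^ 5) (4 * 2)) h1 h2)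
    let f : ↥P × ↥(T : Subgroup G) → ↥K := fun v =>
      ⟨(v.1 : G) * v.2, mul_mem (hPK v.1.2) (S.hTK v.2.2)⟩
    have hf : Function.Bijective f := (Nat.bijective_iff_injective_and_card f).2 ⟨fun u v e => by
      have e' : (u.1 : G) * u.2 = v.1 * v.2 := congrArg Subtype.val e
      have h1 : (v.1 : G)⁻¹ * u.1 = v.2 * (u.2 : G)⁻¹ := by
        rw [eq_mul_inv_iff_mul_eq, mul_assoc, e', inv_mul_cancel_left]
      have h2 := hdisj _ (mul_mem (inv_mem v.1.2) u.1.2) (h1 ▸ mul_mem v.2.2 (inv_mem u.2.2))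
      have h3 : u.1 = v.1 := Subtype.ext (inv_mul_eq_one.1 h2).symm
      rw [h3] at e'
      exact Prod.ext h3 (Subtype.ext (mul_left_cancel e')),
      by rw [Nat.card_prod, hPc, D.card_eq, S.hh, hK]⟩
    obtain ⟨k, hk, e⟩ := S.hfus
    obtain ⟨⟨p, t⟩, hpt⟩ := hf.2 ⟨k, hk⟩
    have hpt' : (p : G) * t = k := congrArg Subtype.val hpt
    have ez : dt T D j = p * z * (p : G)⁻¹ := by
      rw [← e, ← hpt']
      calc (p : G) * t * z * ((p : G) * t)⁻¹ = p * (t * z) * (t : G)⁻¹ * (p : G)⁻¹ := by group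
        _ = p * z * (p : G)⁻¹ := by rw [← (dz_commute T D t.2).eq, ← mul_assoc (p : G), mul_inv_cancel_right]
    have hmem : dt T D j * z ∈ P := by
      rw [ez, show (p : G) * z * (p : G)⁻¹ * z = p * (z * (p : G)⁻¹ * z) by group]
      refine mul_mem p.2 ?_
      have h := hKP z (S.hTK (SetLike.coe_mem _)) _ (inv_mem p.2)
      rwa [invol_inv (orderOf_dz T D)] at h
    have h1 := hdisj _ hmem (mul_mem (SetLike.coe_mem _) (SetLike.coe_mem _))
    exact dz_ne_dt T D j ((mul_eq_one_iff_inv_eq.1 h1).symm.trans (invol_inv (orderOf_dt T D j)))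
  -- groups of order four centralise at most three elements of `R`
  have hfour : ∀ V : Subgroup G, V ≤ (T : Subgroup G) → Nat.card V = 4 →
      Nat.card ↥(R ⊓ centralizer (V : Set G)) ≤ 3 := by
    intro V hVT hV
    obtain ⟨hzV, u, huV, hu1, huz⟩ : z ∈ V ∧ ∃ u ∈ V, u ≠ 1 ∧ u ≠ z := by
      have hidx : (V.subgroupOf T).index = 2 := by
        have h := (V.subgroupOf T).card_mul_index
        rw [Nat.card_congr (subgroupOfEquivOfLe hVT).toEquiv, hV, D.card_eq, S.hh] at h
        omega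
      refine ⟨?_, ?_⟩
      · have h := mul_self_mem_of_index_two hidx D.r
        have e : D.z = D.r * D.r := by rw [DihData.z, S.hh, zpow_natCast, pow_two]
        rw [← e] at h
        exact mem_subgroupOf.1 h
      · by_contra hcon
        push Not at hcon
        have : V ≤ zpowers z := fun u hu => by
          by_cases h1 : u = 1
          · exact h1 ▸ one_mem _
          · exact (hcon u hu h1) ▸ mem_zpowers z
        have := card_le_of_le this
        rw [Nat.card_zpowers, orderOf_dz, hV] at this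
        omega
    have hle : R ⊓ centralizer (V : Set G) ≤ coreC z ⊓ cI u := fun w hw =>
      ⟨S.inf_dz.le ⟨hw.1, mem_cI.2 (mem_centralizer_iff.1 hw.2 z hzV).symm⟩,
        mem_cI.2 (mem_centralizer_iff.1 hw.2 u huV).symm⟩
    refine (card_le_of_le hle).trans ?_
    have hRz : coreC z = R ⊓ cI z := S.inf_dz.symm
    obtain ⟨w, rfl⟩ : ∃ w : (T : Subgroup G), (w : G) = u := ⟨⟨u, hVT huV⟩, rfl⟩
    rcases D.cases w with ⟨i, rfl⟩ | ⟨i, rfl⟩
    · rcases Int.even_or_odd i with ⟨l, rfl⟩ | ⟨l, rfl⟩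
      · exfalso
        have e2 : (D.r : (T : Subgroup G)) ^ (l + l) = 1 ∨ D.r ^ (l + l) = D.z := by
          rcases Int.even_or_odd l with ⟨m, rfl⟩ | ⟨m, rfl⟩
          · refine Or.inl ((D.zpow_eq_one_iff).2 ⟨m, ?_⟩); rw [S.hh]; push_cast; ring
          · refine Or.inr ?_
            rw [DihData.z, D.zpow_eq_iff]
            exact ⟨-m, by rw [S.hh]; push_cast; ring⟩
        rcases e2 with e2 | e2
        · exact hu1 (congrArg Subtype.val e2)
        · exact huz (congrArg Subtype.val e2)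
      · have hsub : coreC z ⊓ cI ((D.r ^ (2 * l + 1) : (T : Subgroup G)) : G) ≤
            coreC z ⊓ cI (dr T D) := fun v hv => ⟨hv.1, mem_cI.2 (by
          have e : (D.r ^ (2 * l + 1)) ^ (2 * l + 1) = D.r := by
            conv_rhs => rw [← zpow_one D.r]
            rw [← zpow_mul, D.zpow_eq_iff]
            exact ⟨-(l * (l + 1)), by rw [S.hh]; push_cast; ring⟩
          rw [show dr T D = (((D.r ^ (2 * l + 1)) ^ (2 * l + 1) : (T : Subgroup G)) : G) by rw [e],
            SubgroupClass.coe_zpow]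
          exact (Commute.zpow_right (mem_cI.1 hv.2) _).eq)⟩
        refine (card_le_of_le hsub).trans ?_
        have h := hc.card_le_three (A := zpowers (dr T D))
          (by rw [Nat.card_zpowers, Subgroup.orderOf_coe, D.orderOf_r, S.hh])
          ((odd_coreC z).of_dvd_nat (card_dvd_of_le inf_le_left)) (Q := coreC z ⊓ cI (dr T D))
          (fun a ha v hv => by
            obtain ⟨e, rfl⟩ := mem_zpowers_iff.1 ha
            exact (Commute.zpow_right (mem_cI.1 hv.2) e).symm.eq)
        omega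
    · have hu' : ((D.r ^ i * D.s : (T : Subgroup G)) : G) = dt T D i := rfl
      rw [hu']
      have key : coreC z ⊓ cI (dt T D i) = coreC z ⊓ cI (dt T D j) ∨
          coreC z ⊓ cI (dt T D i) = coreC z ⊓ cI (dt T D (j + 1)) := by
        have step : ∀ l, dt T D (l + 4) = dt T D l := S.period
        have hper : ∀ (m : ℤ) l, dt T D (l + 4 * m) = dt T D l := fun m l => by
          refine congrArg Subtype.val (congrArg (· * D.s) (?_ : D.r ^ (l + 4 * m) = D.r ^ l))
          rw [D.zpow_eq_iff]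
          exact ⟨-m, by rw [S.hh]; push_cast; ring⟩
        obtain ⟨m, r, hr0, hr4, hi⟩ : ∃ m r : ℤ, 0 ≤ r ∧ r < 4 ∧ i = j + r + 4 * m :=
          ⟨(i - j) / 4, (i - j) % 4, Int.emod_nonneg _ (by norm_num),
            Int.emod_lt_of_pos _ (by norm_num), by omega⟩
        rw [hi, hper, hRz]
        interval_cases r
        · exact Or.inl (by rw [add_zero])
        · exact Or.inr rfl
        · exact Or.inl (S.inf_dt_comm j)
        · exact Or.inr (by rw [show j + 3 = j + 1 + 2 by ring]; exact S.inf_dt_comm (j + 1))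
      rcases key with key | key <;> rw [key]
      · have h := hc.card_le_three (A := dU T D j) (dU_isKleinFour T D j).card_four
          ((odd_coreC z).of_dvd_nat (card_dvd_of_le inf_le_left)) (Q := coreC z ⊓ cI (dt T D j))
          (by
            rintro a ⟨b, hb, rfl⟩ v hv
            have h1 : Commute v z := mem_cI.1 (coreC_le_cI _ hv.1)
            have h2 : Commute v (dt T D j) := mem_cI.1 hv.2
            rcases hb with rfl | rfl | rfl | rfl
            · exact (Commute.one_left v).eq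
            · exact h1.symm.eq
            · exact h2.symm.eq
            · exact (h1.mul_right h2).symm.eq)
        omega
      · omega
  -- the normalizer of `P`
  have hNP : normalizer (P : Set G) ≤ K := by
    intro g hg
    by_contra hgK
    set R' := R.map (MulAut.conj g).toMonoidHom
    have hR'P : R' ≤ P := by
      rintro _ ⟨w, hw, rfl⟩
      exact (mem_normalizer_iff.1 hg w).1 (hRP hw)
    have hR'c : Nat.card R' = 81 := (card_map_of_injective (MulAut.conj g).injective).trans hR81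
    have hRR' : R' ≠ R := fun e => hgK (hNR ▸
      mem_normalizer_iff_of_finite fun w hw => e.le ⟨w, hw, rfl⟩)
    have hR'ab : ∀ a ∈ R', ∀ b ∈ R', a * b = b * a := by
      rintro _ ⟨a, ha, rfl⟩ _ ⟨b, hb, rfl⟩
      rw [← map_mul, hab a ha b hb, map_mul]
    have hsup : R ⊔ R' = P := by
      refine eq_of_le_of_card_ge (sup_le hRP hR'P) ?_
      have hlt : R < R ⊔ R' := left_lt_sup.2 fun h => hRR'
        (eq_of_le_of_card_ge h (by rw [hR81, hR'c]))
      obtain ⟨e, he, hc'⟩ := (Nat.dvd_prime_pow Nat.prime_three).1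
        (hPc ▸ card_dvd_of_le (sup_le hRP hR'P))
      have h81 : 81 < Nat.card ↥(R ⊔ R') := hR81 ▸ lt_of_not_ge fun h =>
        hlt.ne (eq_of_le_of_card_ge le_sup_left h)
      interval_cases e <;> simp [hc'] at h81 <;> rw [hPc, hc']
    have hi27 : 27 ≤ Nat.card ↥(R ⊓ R') := by
      have h1 : R'.relIndex P = 3 := by
        have h := card_mul_relIndex hR'P
        rw [hR'c, hPc] at h
        omega
      have h2 : (R ⊓ R').relIndex R ≤ 3 := by
        rw [inf_relIndex_left, ← h1]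
        exact relIndex_le_of_le_right hRP (by rw [h1]; norm_num)
      have h3 := card_mul_relIndex (H := R ⊓ R') (L := R) inf_le_left
      rw [hR81] at h3
      nlinarith [Nat.card_pos (α := ↥(R ⊓ R'))]
    have hcentP : R ⊓ R' ≤ R ⊓ centralizer (P : Set G) := by
      refine le_inf inf_le_left fun w hw => ?_
      have : P ≤ cI w := by
        rw [← hsup]
        exact sup_le (fun v hv => mem_cI.2 (hab v hv w hw.1))
          fun v hv => mem_cI.2 (hR'ab v hv w hw.2)
      exact mem_centralizer_iff.2 fun v hv => mem_cI.1 (this hv)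
    -- two Sylow subgroups and their common centralizer in `R`
    set D₁ := R ⊓ centralizer (P : Set G)
    set D₂ := D₁.map (MulAut.conj k₁).toMonoidHom
    set P₂ := P.map (MulAut.conj k₁).toMonoidHom
    have hD₁ : 27 ≤ Nat.card D₁ := hi27.trans (card_le_of_le hcentP)
    have hD₂ : 27 ≤ Nat.card D₂ := by rwa [card_map_of_injective (MulAut.conj k₁).injective]
    have hD₂R : D₂ ≤ R := by
      rintro _ ⟨w, hw, rfl⟩
      exact (mem_normalizer_iff.1 (S.hKn hk₁) w).1 hw.1
    have hP₂K : P₂ ≤ K := by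
      rintro _ ⟨w, hw, rfl⟩
      exact mul_mem (mul_mem hk₁ (hPK hw)) (inv_mem hk₁)
    have hP₂c : Nat.card P₂ = 3 ^ 5 := (card_map_of_injective (MulAut.conj k₁).injective).trans hPc
    set E := D₁ ⊓ D₂
    have hE : 9 ≤ Nat.card E := by
      have h1 := card_mul_relIndex (H := E) (L := D₁) inf_le_left
      have h2 : E.relIndex D₁ ≤ D₂.relIndex R := by
        rw [inf_relIndex_left]
        refine relIndex_le_of_le_right inf_le_left ?_
        have h := card_mul_relIndex hD₂R
        intro e; rw [e] at h; omega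
      have h3 := card_mul_relIndex hD₂R
      rw [hR81] at h3
      have h4 : D₂.relIndex R ≤ 3 := by nlinarith
      nlinarith [Nat.card_pos (α := E)]
    set H := K ⊓ centralizer (E : Set G)
    have hPH : P ≤ H := le_inf hPK fun w hw => mem_centralizer_iff.2 fun e he =>
      (mem_centralizer_iff.1 he.1.2 w hw).symm
    have hP₂H : P₂ ≤ H := le_inf hP₂K fun w hw => mem_centralizer_iff.2 fun e he => by
      obtain ⟨v, hv, rfl⟩ := hw
      obtain ⟨d, hd, rfl⟩ := he.2
      rw [← map_mul, ← map_mul, (mem_centralizer_iff.1 hd.2 v hv)]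
    obtain ⟨m, hm⟩ : 3 ^ 5 ∣ Nat.card H := hPc ▸ card_dvd_of_le hPH
    have hm8 : m ∣ 8 := Nat.dvd_of_mul_dvd_mul_left (by norm_num : 0 < 3 ^ 5)
      (hm ▸ hK ▸ card_dvd_of_le inf_le_left)
    have h4 : 2 ^ 2 ∣ Nat.card H := by
      rw [hm]
      refine Dvd.dvd.mul_left ?_ _
      have hH3 : Nat.card H = 3 ^ 5 * m := hm
      let Q₁ : Sylow 3 H := Sylow.ofCard (P.subgroupOf H) (by
        rw [Nat.card_congr (subgroupOfEquivOfLe hPH).toEquiv, hPc, hH3,
          Nat.factorization_mul (by norm_num) (fun e => by simp [e] at hm8),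
          Finsupp.add_apply, Nat.Prime.factorization_pow Nat.prime_three, Finsupp.single_eq_same,
          Nat.factorization_eq_zero_of_not_dvd
            (fun h => absurd (Nat.le_of_dvd (by norm_num) (h.trans hm8)) (by
              intro; exact absurd (h.trans hm8) (by norm_num)))])
      let Q₂ : Sylow 3 H := Sylow.ofCard (P₂.subgroupOf H) (by
        rw [Nat.card_congr (subgroupOfEquivOfLe hP₂H).toEquiv, hP₂c, ← hPc,
          ← Nat.card_congr (subgroupOfEquivOfLe hPH).toEquiv]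
        exact Q₁.card_eq_multiplicity)
      have hne12 : Q₁ ≠ Q₂ := fun e => hne (by
        have e' : P.subgroupOf H = P₂.subgroupOf H := congrArg Sylow.toSubgroup e
        exact ((subgroupOf_inj.1 e').symm.trans (inf_eq_left.2 hPH)).symm ▸
          (inf_eq_left.2 hP₂H).symm)
      haveI : Nontrivial (Sylow 3 H) := ⟨⟨Q₁, Q₂, hne12⟩⟩
      have h1 : 1 < Nat.card (Sylow 3 H) := Finite.one_lt_card
      have h2 := card_sylow_modEq_one 3 H
      have h3 : Nat.card (Sylow 3 H) ∣ m := by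
        have h := Q₁.card_dvd_index
        have e := (Q₁ : Subgroup H).card_mul_index
        rw [show Nat.card (Q₁ : Subgroup H) = 3 ^ 5 from
          (Nat.card_congr (subgroupOfEquivOfLe hPH).toEquiv).trans hPc, hH3] at e
        rwa [Nat.eq_of_mul_eq_mul_left (by norm_num) e] at h
      obtain ⟨a, ha, hma⟩ := (Nat.dvd_prime_pow Nat.prime_two (m := 3)).1 (by simpa using hm8)
      obtain ⟨b, hb, hnb⟩ := (Nat.dvd_prime_pow Nat.prime_two).1 (hma ▸ h3)
      rw [hma]
      refine pow_dvd_pow 2 ?_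
      rw [Nat.ModEq, hnb] at h2
      rw [hnb] at h1
      by_contra hlt
      interval_cases a <;> interval_cases b <;> simp_all
    obtain ⟨V₀, hV₀⟩ := Sylow.exists_subgroup_card_pow_prime (G := H) 2 h4
    set V := V₀.map H.subtype
    have hVc : Nat.card V = 4 := (card_map_of_injective (subtype_injective _)).trans hV₀
    have hVH : V ≤ H := map_subtype_le _
    have hVK : V ≤ K := hVH.trans inf_le_left
    let TK : Sylow 2 K := T.subtype S.hTK
    obtain ⟨Q, hQ⟩ := (IsPGroup.of_card (p := 2) (n := 2)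
      ((Nat.card_congr (subgroupOfEquivOfLe hVK).toEquiv).trans hVc) :
        IsPGroup 2 (V.subgroupOf K)).exists_le_sylow
    obtain ⟨k, hkQ⟩ := MulAction.exists_smul_eq K Q TK
    set V' := V.map (MulAut.conj (k : G)).toMonoidHom
    have hV'T : V' ≤ (T : Subgroup G) := by
      rintro _ ⟨v, hv, rfl⟩
      have : k * ⟨v, hVK hv⟩ * k⁻¹ ∈ (TK : Subgroup K) := by
        rw [← hkQ]
        exact ⟨⟨v, hVK hv⟩, hQ (mem_subgroupOf.2 hv), rfl⟩
      exact mem_subgroupOf.1 this
    have hE' : E.map (MulAut.conj (k : G)).toMonoidHom ≤ R ⊓ centralizer (V' : Set G) := by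
      rintro _ ⟨e, he, rfl⟩
      refine ⟨(mem_normalizer_iff.1 (S.hKn k.2) e).1 he.1.1, mem_centralizer_iff.2 ?_⟩
      rintro _ ⟨v, hv, rfl⟩
      rw [← map_mul, ← map_mul, (mem_centralizer_iff.1 (hVH hv).2 e he).symm]
    have := (card_le_of_le hE').trans (hfour V' hV'T
      ((card_map_of_injective (MulAut.conj _).injective).trans hVc))
    rw [card_map_of_injective (MulAut.conj _).injective] at this
    omega
  -- Sylow's theorem
  let PG : Sylow 3 G := Sylow.ofCard P (by
    rw [hPc, hG, Nat.factorization_mul (by norm_num) (by norm_num), Finsupp.add_apply,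
      Nat.Prime.factorization_pow Nat.prime_three, Finsupp.single_eq_same,
      Nat.factorization_eq_zero_of_not_dvd (by norm_num : ¬ 3 ∣ 280)])
  let PK : Sylow 3 K := PG.subtype hPK
  have h1 := card_sylow_modEq_one 3 G
  have h2 := card_sylow_modEq_one 3 K
  rw [PK.card_eq_index_normalizer] at h2
  have e2 : (normalizer ((P.subgroupOf K : Subgroup K) : Set K)).index =
      (normalizer (P : Set G)).relIndex K := by
    rw [← subgroupOf_normalizer_eq hPK]
    rfl
  replace h2 : (normalizer ((P.subgroupOf K : Subgroup K) : Set K)).index ≡ 1 [MOD 3] := h2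
  rw [e2] at h2
  rw [PG.card_eq_index_normalizer] at h1
  have e1 := relIndex_mul_index hNP
  rw [hk] at e1
  replace h1 : (normalizer (P : Set G)).index ≡ 1 [MOD 3] := h1
  rw [← e1, Nat.ModEq, Nat.mul_mod,
    show (normalizer (P : Set G)).relIndex K % 3 = 1 from h2] at h1
  norm_num at h1

end

/-- The endgame `q = 3`. -/
theorem s4_false {K : Subgroup G} {T : Sylow 2 G} {D : DihData (T : Subgroup G)} {j : ℤ}
    {R : Subgroup G} (S : Setting T D K R j) (A B : ℕ) (hB : 0 < B)
    (hwy : Nat.card ↥(R ⊓ cI (dt T D (j + 1))) * A = Nat.card ↥(coreC (dz T D)) * B)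
    (hw : Nat.card ↥(coreC (dz T D) ⊓ cI (dt T D j)) * B =
      Nat.card ↥(coreC (dz T D) ⊓ cI (dt T D (j + 1))) * A)
    {χ : G → ℂ} {x : ℕ} (hc : CharData χ x)
    (hcases : (A = B ∧ ((x = 7 ∧ K.index = 7) ∨ (x = 9 ∧ K.index = 15))) ∨
      (A = 3 * B ∧ x = 15 ∧ K.index = 35) ∨ (A = 5 * B ∧ x = 7 ∧ K.index = 63)) : False := by
  haveI := S.min.simple
  have hW1 : ∀ a ∈ dU T D j, ∀ v ∈ coreC (dz T D) ⊓ cI (dt T D j), a * v = v * a := by
    rintro a ⟨b, hb, rfl⟩ v hv
    have h1 : Commute v (dz T D) := mem_cI.1 (coreC_le_cI _ hv.1)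
    have h2 : Commute v (dt T D j) := mem_cI.1 hv.2
    rcases hb with rfl | rfl | rfl | rfl
    · exact (Commute.one_left v).eq
    · exact h1.symm.eq
    · exact h2.symm.eq
    · exact (h1.mul_right h2).symm.eq
  have hoddW : ∀ a : G, Odd (Nat.card ↥(coreC (dz T D) ⊓ cI a)) := fun a =>
    (odd_coreC _).of_dvd_nat (card_dvd_of_le inf_le_left)
  rcases hcases with ⟨rfl, hk⟩ | ⟨rfl, rfl, hk⟩ | ⟨rfl, rfl, -⟩
  · have hbot := S.bot_of_eq (Nat.eq_of_mul_eq_mul_right hB hwy)
    rcases hk with ⟨-, hk⟩ | ⟨-, hk⟩ <;>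
      have hG := S.card_G hk <;> rw [hbot, card_bot] at hG
    · exact S.min.notModel (isGWModel_168 (by rw [hG]))
    · exact S.min.notModel (isGWModel_360 (by rw [hG]))
  · have e12 : Nat.card ↥(coreC (dz T D) ⊓ cI (dt T D j)) =
        3 * Nat.card ↥(coreC (dz T D) ⊓ cI (dt T D (j + 1))) :=
      Nat.eq_of_mul_eq_mul_right hB (by rw [hw]; ring)
    have e13 : 3 * Nat.card ↥(R ⊓ cI (dt T D (j + 1))) = Nat.card ↥(coreC (dz T D)) :=
      Nat.eq_of_mul_eq_mul_right hB (by rw [← hwy]; ring)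
    have h2pos : 0 < Nat.card ↥(coreC (dz T D) ⊓ cI (dt T D (j + 1))) := Nat.card_pos
    have hW : Nat.card ↥(coreC (dz T D) ⊓ cI (dt T D j)) = 3 ∧
        Nat.card ↥(coreC (dz T D) ⊓ cI (dt T D (j + 1))) = 1 := by
      have := hc.card_le_three (dU_isKleinFour T D j).card_four (hoddW _) hW1
      omega
    obtain ⟨hinv, ho⟩ := S.inverted hW.2
    have hR := S.card_R
    rw [hW.2, one_pow, mul_one] at hR
    have hσ := hc.card_le_three (A := zpowers (dr T D))
      (by rw [Nat.card_zpowers, Subgroup.orderOf_coe, D.orderOf_r, S.hh]) (hoddW (dr T D))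
      (fun a ha v hv => by
        obtain ⟨e, rfl⟩ := mem_zpowers_iff.1 ha
        exact (Commute.zpow_right (mem_cI.1 hv.2) e).symm.eq)
    rw [hW.1] at ho
    rcases hσ with hσ | hσ <;> rw [hσ] at ho
    · have hy1 : Nat.card ↥(R ⊓ cI (dt T D (j + 1))) = 1 := by omega
      rw [ho, hy1] at hR
      exact S.min.notModel (isGWModel_2520 (by rw [S.card_G hk, hR]; norm_num))
    · have hy3 : Nat.card ↥(R ⊓ cI (dt T D (j + 1))) = 3 := by omega
      rw [ho, hy3] at hR
      have hOab : ∀ a ∈ coreC (dz T D), ∀ b ∈ coreC (dz T D), a * b = b * a := fun a ha b hb => by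
        have hy2 := invol_mul_self (orderOf_dt T D (j + 1))
        have e : (b⁻¹ * a⁻¹ : G) = a⁻¹ * b⁻¹ := by
          rw [← mul_inv_rev, ← hinv _ (mul_mem ha hb), ← hinv a ha, ← hinv b hb]
          rw [show dt T D (j + 1) * a * dt T D (j + 1) * (dt T D (j + 1) * b * dt T D (j + 1)) =
            dt T D (j + 1) * a * (dt T D (j + 1) * dt T D (j + 1)) * b * dt T D (j + 1) by group,
            hy2]
          group
        have := congrArg (·⁻¹) e
        simpa [mul_inv_rev] using this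
      exact S.no_large hc hk hR (S.comm hR ho hW.1 hOab) hW.2
  · haveI : Fact (Nat.Prime 5) := ⟨by norm_num⟩
    have e15 : Nat.card ↥(coreC (dz T D) ⊓ cI (dt T D j)) =
        5 * Nat.card ↥(coreC (dz T D) ⊓ cI (dt T D (j + 1))) :=
      Nat.eq_of_mul_eq_mul_right hB (by rw [hw]; ring)
    obtain ⟨v, hv⟩ := exists_prime_orderOf_dvd_card' (G := ↥(coreC (dz T D) ⊓ cI (dt T D j))) 5
      ⟨_, e15⟩
    obtain ⟨N, hN, hle, -⟩ := hc.value (dU_isKleinFour T D j).card_four (by norm_num : Nat.Prime 5)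
      (by norm_num) ((Subgroup.orderOf_coe v).trans hv) fun a ha => hW1 a ha v v.2
    omega

end CfsgLib.GW.TwoClassSmall
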