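import Cfsg.Agent.Lib.GW.TwoClassSocle
import Cfsg.Agent.Lib.GW.TwoClassSmall
import Cfsg.Agent.Lib.GW.TwoClassArith
import Cfsg.Agent.Lib.GW.IdentityI
import Cfsg.Agent.Lib.GW.TwoClassCount
import Cfsg.Agent.Lib.GW.TwoClassIndex
import Cfsg.Agent.Lib.GW.TwoClassChar
import Cfsg.Agent.Lib.GW.Basic
import Cfsg.Agent.Lib.BlockB.PModular

/-!
A2: no proper subgroup without normal 2-complement and with two classes of involutions contains the
centralizer of an involution.
-/

set_option autoImplicit false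
set_option linter.unusedSectionVars false
set_option linter.style.haveILetI false

namespace CfsgLib.GW

open Subgroup CfsgLib.Invol Cfsg
open CfsgLib.BlockA.DihedralBlock (complement_dz)
open CfsgLib.Recog.GenDih (dihSub dihMap dihSub_dz dihSub_dt)

universe u

variable {G : Type u} [Group G] [Finite G]

/-- An involution stays one modulo an odd normal subgroup. -/
theorem orderOf_quot_invol {K : Type u} [Group K] [Finite K] {R : Subgroup K} [R.Normal]
    (hR : Odd (Nat.card R)) {x : K} (hx : orderOf x = 2) :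
    orderOf (QuotientGroup.mk' R x) = 2 := by
  refine invol_of_mul_self (by rw [← map_mul, invol_mul_self hx, map_one]) fun h => ?_
  have h1 := Subgroup.orderOf_dvd_natCard R ((QuotientGroup.eq_one_iff x).1 h)
  rw [hx] at h1
  exact Nat.not_even_iff_odd.2 hR (even_iff_two_dvd.2 h1)

/-- Conjugacy of involutions lifts over an odd normal subgroup. -/
theorem isConj_lift {K : Type u} [Group K] [Finite K] {R : Subgroup K} [R.Normal]
    (hR : Odd (Nat.card R)) {x y : K} (hx : orderOf x = 2) (hy : orderOf y = 2)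
    (h : IsConj (QuotientGroup.mk' R x) (QuotientGroup.mk' R y)) : IsConj x y := by
  obtain ⟨g', hg⟩ := isConj_iff.1 h
  obtain ⟨g, rfl⟩ := QuotientGroup.mk'_surjective R g'
  have h1 : g * x * g⁻¹ * y ∈ R := (QuotientGroup.eq_one_iff _).1 (by
    show QuotientGroup.mk' R (g * x * g⁻¹ * y) = 1
    rw [map_mul, map_mul, map_mul, map_inv, hg, ← map_mul, invol_mul_self hy, map_one])
  exact (isConj_iff.2 ⟨g, rfl⟩ : IsConj x (g * x * g⁻¹)).trans (isConj_of_odd
    (by rw [CfsgLib.Invol.orderOf_conj_eq, hx]) hy (hR.of_dvd_nat (Subgroup.orderOf_dvd_natCard R h1)))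

theorem map_inf_centralizer (K : Subgroup G) (R : Subgroup K) (s : Set K) :
    (R ⊓ centralizer s).map K.subtype =
      R.map K.subtype ⊓ centralizer ((fun x : K => (x : G)) '' s) := by
  ext x
  constructor
  · rintro ⟨w, ⟨h1, h2⟩, rfl⟩
    refine ⟨⟨w, h1, rfl⟩, mem_centralizer_iff.2 ?_⟩
    rintro _ ⟨v, hv, rfl⟩
    exact congrArg Subtype.val (mem_centralizer_iff.1 h2 v hv)
  · rintro ⟨⟨w, hw, rfl⟩, hx⟩
    exact ⟨w, ⟨hw, mem_centralizer_iff.2 fun v hv =>
      Subtype.ext (mem_centralizer_iff.1 hx _ ⟨v, hv, rfl⟩)⟩, rfl⟩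

theorem centralizer_subgroupOf (K : Subgroup G) (s : Set K) :
    centralizer s = (centralizer ((fun x : K => (x : G)) '' s)).subgroupOf K := by
  ext x
  rw [mem_subgroupOf, mem_centralizer_iff, mem_centralizer_iff]
  constructor
  · rintro h _ ⟨v, hv, rfl⟩
    exact congrArg Subtype.val (h v hv)
  · exact fun h v hv => Subtype.ext (h _ ⟨v, hv, rfl⟩)

/-- The order of the centralizer of the central involution. -/
theorem Min.card_cI (M : Min G) (T : Sylow 2 G) (D : DihData (T : Subgroup G)) :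
    Nat.card (cI (dz T D)) = 4 * D.h * Nat.card (coreC (dz T D)) := by
  haveI : Fact (Nat.Prime 2) := ⟨Nat.prime_two⟩
  obtain ⟨P, N, -, hcp⟩ := complement_dz T D
  have hTC : (T : Subgroup G) ≤ cI (dz T D) := fun w hw => mem_cI.2 (dz_commute T D hw).eq.symm
  have hPc : Nat.card (P : Subgroup (cI (dz T D))) = 4 * D.h := by
    rw [P.card_eq_multiplicity, ← (T.subtype hTC).card_eq_multiplicity,
      ← D.card_eq]
    exact Nat.card_congr (subgroupOfEquivOfLe hTC).toEquiv
  have hN : Odd (Nat.card N) := by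
    rw [← Nat.not_even_iff_odd, even_iff_two_dvd, ← hcp.index_eq_card]
    exact P.not_dvd_index
  have hsub : N.map (cI (dz T D)).subtype ≤ coreC (dz T D) := by
    rintro _ ⟨w, hw, rfl⟩
    refine M.mem_coreC ((Subgroup.orderOf_coe _).trans D.orderOf_z) w.2 ?_
    show Odd (orderOf ((cI (dz T D)).subtype w))
    rw [coe_subtype, Subgroup.orderOf_coe]
    exact hN.of_dvd_nat (Subgroup.orderOf_dvd_natCard N hw)
  have hcard : Nat.card (cI (dz T D)) = 4 * D.h * Nat.card N := by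
    rw [← hcp.card_mul, hPc, mul_comm]
  have hd : Nat.card (coreC (dz T D)) ∣ Nat.card N := by
    refine Nat.Coprime.dvd_of_dvd_mul_left ?_ (hcard ▸ card_dvd_of_le (coreC_le_cI (dz T D)))
    obtain ⟨k, hk⟩ := D.h_pow
    rw [show 4 * D.h = 2 ^ (k + 2) by rw [hk]; ring]
    exact (Nat.coprime_two_right.2 (odd_coreC _)).pow_right _
  rw [hcard, Nat.dvd_antisymm hd (card_map_of_injective (cI (dz T D)).subtype_injective (K := N) ▸
    card_dvd_of_le hsub)]

theorem two_pow_odd_inj {a b : ℕ} {s t : ℤ} (hs : Odd s) (ht : Odd t)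
    (h : (2 : ℤ) ^ a * s = 2 ^ b * t) : a = b := by
  rcases lt_trichotomy a b with hab | hab | hab
  · exfalso
    obtain ⟨c, rfl⟩ := Nat.exists_eq_add_of_lt hab
    rw [show a + c + 1 = a + (c + 1) by ring, pow_add, mul_assoc] at h
    have h' := mul_left_cancel₀ (pow_ne_zero _ two_ne_zero) h
    exact Int.not_even_iff_odd.2 hs (h' ▸ Even.mul_right (Even.pow_of_ne_zero even_two (by omega)) t)
  · exact hab
  · exfalso
    obtain ⟨c, rfl⟩ := Nat.exists_eq_add_of_lt hab
    rw [show b + c + 1 = b + (c + 1) by ring, pow_add, mul_assoc] at h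
    have h' := mul_left_cancel₀ (pow_ne_zero _ two_ne_zero) h
    exact Int.not_even_iff_odd.2 ht (h' ▸ Even.mul_right (Even.pow_of_ne_zero even_two (by omega)) s)

/-- The 2-part of `x - d`. -/
theorem two_part_sub {n A B k q i m : ℕ} {x d : ℤ} (hn : 3 ≤ n) (hd : d = 1 ∨ d = -1) (hx : Odd x)
    (hdvd : (2 : ℤ) ^ (n - 1) ∣ x - d) (hne : x ≠ d) (hk : Odd k) (hq : Odd q) (hB : Odd B)
    (hi : Odd i) (hm : Odd m) (hA : Odd A)
    (h : (k : ℤ) * (x - d) ^ 2 * q * (2 * m) * B ^ 2 =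
      x * (x + d) * (2 ^ (n - 1) * i) ^ 2 * ((A : ℤ) + B) ^ 2) :
    ∃ s t : ℤ, Odd t ∧ Odd s ∧ ∃ b, ((A : ℤ) + B) = 2 ^ b * s ∧ x - d = 2 ^ (n - 1 + b) * t := by
  obtain ⟨a, t, ht, hxt⟩ : ∃ a, ∃ t : ℤ, Odd t ∧ x - d = 2 ^ a * t := by
    obtain ⟨a, o, ho, hao⟩ := Nat.exists_eq_two_pow_mul_odd (Int.natAbs_ne_zero.2 (sub_ne_zero.2 hne))
    rcases Int.natAbs_eq (x - d) with e | e
    · exact ⟨a, o, by exact_mod_cast ho, by rw [e, hao]; push_cast; ring⟩
    · exact ⟨a, -(o : ℤ), (show Odd (o : ℤ) by exact_mod_cast ho).neg, by rw [e, hao]; push_cast; ring⟩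
  obtain ⟨b, s, hs, hbs⟩ := Nat.exists_eq_two_pow_mul_odd (show A + B ≠ 0 by have := hA.pos; omega)
  obtain ⟨P, hP, hPo⟩ : ∃ P : ℤ, x + d = 2 * P ∧ Odd P := by
    obtain ⟨c, hc⟩ : (4 : ℤ) ∣ x - d := (show (4 : ℤ) ∣ 2 ^ (n - 1) from
      ⟨2 ^ (n - 3), by rw [show n - 1 = 2 + (n - 3) by omega, pow_add]; norm_num⟩).trans hdvd
    rcases hd with rfl | rfl
    · exact ⟨2 * c + 1, by omega, ⟨c, by ring⟩⟩
    · exact ⟨2 * c - 1, by omega, ⟨c - 1, by ring⟩⟩
  have hab : a = n - 1 + b := by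
    have hsA : ((A : ℤ) + B) = 2 ^ b * (s : ℤ) := by exact_mod_cast hbs
    rw [hxt, hP, hsA] at h
    have h2 : (2 : ℤ) ^ (2 * a + 1) * ((k : ℤ) * t ^ 2 * q * m * B ^ 2) =
        2 ^ (2 * (n - 1) + 2 * b + 1) * (x * P * (i : ℤ) ^ 2 * (s : ℤ) ^ 2) := by
      ring_nf at h ⊢
      linear_combination h
    have := two_pow_odd_inj ((((Odd.mul (by exact_mod_cast hk) ht.pow).mul
      (by exact_mod_cast hq)).mul (by exact_mod_cast hm)).mul (Odd.pow (by exact_mod_cast hB)))
      (((hx.mul hPo).mul (Odd.pow (by exact_mod_cast hi))).mul (Odd.pow (by exact_mod_cast hs))) h2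
    omega
  exact ⟨s, t, ht, by exact_mod_cast hs, b, by exact_mod_cast hbs, hab ▸ hxt⟩

set_option maxHeartbeats 1000000 in
/-- A maximal subgroup with two classes of involutions over the centralizer of an involution. -/
theorem coatom_two_false (hG : Min G) {a : G} (ha : orderOf a = 2) (K : Subgroup G)
    (hK : IsCoatom K) (hC : cI a ≤ K) (hnc : ¬ Cfsg.HasNormalPComplement 2 K)
    (htwo : ¬ (∀ x ∈ K, ∀ y ∈ K, orderOf x = 2 → orderOf y = 2 → ∃ k ∈ K, k * x * k⁻¹ = y)) :
    False := by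
  classical
  haveI : Fact (Nat.Prime 2) := ⟨Nat.prime_two⟩
  haveI := hG.simple
  obtain ⟨T, haT, hTa⟩ := hG.exists_sylow ha
  obtain ⟨D₀⟩ := hG.dih T
  obtain ⟨D, hD⟩ := CfsgLib.InvChar.BSW.exists_dihData_central D₀ ⟨a, haT⟩
    (by rw [orderOf_mk, ha]) fun w => Subtype.ext (mem_cI.1 (hTa w.2))
  obtain rfl : dz T D = a := congrArg Subtype.val hD
  set R := Cfsg.oddCore K with hRdef
  haveI hRn : R.Normal := CfsgLib.Solvable.pPrimeCore_normal 2 K
  have hRodd : Odd (Nat.card R) := Nat.coprime_two_right.1 (CfsgLib.Solvable.pPrimeCore_coprime 2)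
  have hTK : (T : Subgroup G) ≤ K := hTa.trans hC
  set TK := T.subtype hTK with hTKdef
  set DK := dihSub D hTK
  set π := QuotientGroup.mk' R
  have hπ : Function.Surjective π := QuotientGroup.mk'_surjective R
  set T' := TK.mapSurjective hπ
  have hbij : Function.Bijective (π.subgroupMap (TK : Subgroup K)) := by
    refine ⟨(injective_iff_map_eq_one (π.subgroupMap (TK : Subgroup K))).2 fun w hw => ?_,
      MonoidHom.subgroupMap_surjective _ _⟩
    have hwR : (w : K) ∈ R := (QuotientGroup.eq_one_iff _).1 (congrArg Subtype.val hw)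
    obtain ⟨k, hk⟩ := TK.2.exists_orderOf_dvd_pow w
    refine Subtype.ext (orderOf_eq_one_iff.1 (Nat.eq_one_of_dvd_coprimes
      ((Nat.coprime_two_right.2 hRodd).pow_right k) (Subgroup.orderOf_dvd_natCard R hwR) ?_))
    rwa [Subgroup.orderOf_coe]
  let eT : (TK : Subgroup K) ≃* (T' : Subgroup (K ⧸ R)) := MulEquiv.ofBijective _ hbij
  set D' := dihMap eT DK
  have hdt : ∀ i, π (dt TK DK i) = dt T' D' i := fun i => by
    show _ = ((((eT DK.r) ^ i * eT DK.s : (T' : Subgroup (K ⧸ R)))) : K ⧸ R)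
    rw [← map_zpow, ← map_mul]
    rfl
  have hdz : π (dz TK DK) = dz T' D' := by
    show _ = ((((eT DK.r) ^ (DK.h : ℤ) : (T' : Subgroup (K ⧸ R)))) : K ⧸ R)
    rw [← map_zpow]
    rfl
  have hlt : Nat.card K ≤ Nat.card G - 1 := by
    have h1 := K.card_mul_index
    have h2 : 1 < K.index := one_lt_index_of_ne_top hK.1
    have h3 : 0 < Nat.card K := Nat.card_pos
    have : Nat.card K < Nat.card G := by nlinarith
    omega
  obtain ⟨hh, L, q, ε, j, hd⟩ := TwoClass.exists_data T' D'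
    (hG.below.mono ((Nat.card_le_card_of_surjective π hπ).trans hlt))
    (CfsgLib.Solvable.pPrimeCore_quotient_eq_bot 2)
    (fun hp => hnc (CfsgLib.Transfer.hasNormalPComplement_iff_exists.2
      ⟨R, hRn, CfsgLib.Solvable.pPrimeCore_coprime 2, hp⟩))
    (fun hall => htwo fun x hx y hy hxo hyo => by
      obtain ⟨g, hg⟩ := isConj_iff.1 (isConj_lift hRodd
        (x := ⟨x, hx⟩) (y := ⟨y, hy⟩) (by rw [orderOf_mk, hxo]) (by rw [orderOf_mk, hyo])
        (hall _ _ (orderOf_quot_invol hRodd (by rw [orderOf_mk, hxo]))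
          (orderOf_quot_invol hRodd (by rw [orderOf_mk, hyo]))))
      exact ⟨g, g.2, congrArg Subtype.val hg⟩)
  replace hh : 2 ≤ D.h := hh
  obtain ⟨f, hf, hf3, hKc, hCz, hCy, hCt, hCty, hBW1, hBW2, hconj, hnconj⟩ :=
    TwoClass.exists_counts R hRodd TK DK hh T' D' rfl hdz hdt hd
  obtain ⟨k₀, hk₀⟩ := D.h_pow
  have hk1 : 1 ≤ k₀ := by
    by_contra h0
    rw [show k₀ = 0 by omega, pow_zero] at hk₀
    omega
  -- back in the group
  set z := dz T D with hzdef
  set y := dt T D (j + 1) with hydef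
  have ezK : ((dz TK DK : K) : G) = z := dihSub_dz hTK
  have etK : ∀ i, ((dt TK DK i : K) : G) = dt T D i := dihSub_dt hTK
  have hsing : ∀ v : K, (fun w : K => (w : G)) '' {v} = {(v : G)} := fun v => Set.image_singleton
  have hpair : ∀ v w : K, (fun w : K => (w : G)) '' {v, w} = {(v : G), (w : G)} := fun v w =>
    Set.image_pair _ v w
  have hzo : orderOf z = 2 := (Subgroup.orderOf_coe _).trans D.orderOf_z
  have hyo : orderOf y = 2 := (Subgroup.orderOf_coe _).trans (D.orderOf_zy _)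
  set o := Nat.card (coreC z) with hodef
  have hoodd : Odd o := odd_coreC z
  have hcz : Nat.card (centralizer ({dz TK DK} : Set K)) = 4 * D.h * o := by
    rw [centralizer_subgroupOf, hsing, ezK, Nat.card_congr (subgroupOfEquivOfLe hC).toEquiv]
    exact hG.card_cI T D
  have hcy : Nat.card (centralizer ({dt TK DK (j + 1)} : Set K)) ∣ 4 * D.h * o := by
    obtain ⟨g, hg⟩ := isConj_iff.1 (hG.one_class hyo hzo)
    rw [← hG.card_cI T D, ← hzdef, ← hg, ← cI_conj,
      card_map_of_injective (MulAut.conj g).injective,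
      ← card_map_of_injective K.subtype_injective (K := centralizer ({dt TK DK (j + 1)} : Set K))]
    refine card_dvd_of_le ?_
    rintro _ ⟨w, hw, rfl⟩
    have h := congrArg Subtype.val (mem_centralizer_singleton_iff.1 hw)
    rw [Subgroup.coe_mul, Subgroup.coe_mul, etK] at h
    exact mem_cI.2 h
  set rJ := Nat.card ↥(R ⊓ centralizer ({dz TK DK} : Set K)) with hrJdef
  set rY := Nat.card ↥(R ⊓ centralizer ({dt TK DK (j + 1)} : Set K)) with hrYdef
  set u1 := Nat.card ↥(R ⊓ centralizer ({dz TK DK, dt TK DK j} : Set K)) with hu1def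
  set u2 := Nat.card ↥(R ⊓ centralizer ({dz TK DK, dt TK DK (j + 1)} : Set K)) with hu2def
  have hrJ : Odd rJ := hRodd.of_dvd_nat (card_dvd_of_le inf_le_left)
  have hrY : Odd rY := hRodd.of_dvd_nat (card_dvd_of_le inf_le_left)
  rw [hcz] at hCz
  -- the parameters
  set h := D.h with hhdef
  have hhZ : (h : ℤ) = 2 ^ k₀ := by exact_mod_cast hk₀
  have hnum : 2 * (h : ℤ) * o = rJ * f * (q - ε) := by push_cast at hCz; linarith
  obtain ⟨iz, hiz⟩ : (2 * h : ℤ) ∣ (q : ℤ) - ε := by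
    refine IsCoprime.dvd_of_dvd_mul_left (y := (rJ : ℤ) * f) ?_ ⟨o, hnum.symm⟩
    rw [hhZ, ← pow_succ']
    refine IsCoprime.pow_left (Int.isCoprime_iff_gcd_eq_one.2 ?_)
    have := Nat.coprime_two_left.2 (hrJ.mul hf)
    exact_mod_cast this
  have hio : (o : ℤ) = rJ * f * iz := by
    refine mul_left_cancel₀ (show (2 * h : ℤ) ≠ 0 by positivity) ?_
    rw [hnum, hiz]; ring
  have hq3 := hd.hq3
  have hε := hd.hε
  have hizpos : 0 < iz := by
    have h1 : (0 : ℤ) < (q : ℤ) - ε := by rcases hε with rfl | rfl <;> omega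
    rw [hiz] at h1
    exact (pos_iff_pos_of_mul_pos h1).1 (by positivity)
  obtain ⟨i, rfl⟩ : ∃ i : ℕ, iz = i := ⟨iz.toNat, (Int.toNat_of_nonneg hizpos.le).symm⟩
  have hio' : o = rJ * f * i := by exact_mod_cast hio
  have hi : Odd i := hoodd.of_dvd_nat (hio' ▸ dvd_mul_left _ _)
  obtain ⟨m, hm, hmo⟩ : ∃ m : ℕ, (m : ℤ) = h * i + ε ∧ Odd m := by
    have h1 : (1 : ℤ) ≤ h * i := by
      have : 1 ≤ h * i := Nat.one_le_iff_ne_zero.2 (Nat.mul_ne_zero (by omega) hi.pos.ne')
      exact_mod_cast this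
    refine ⟨((h : ℤ) * i + ε).toNat, Int.toNat_of_nonneg (by rcases hε with rfl | rfl <;> omega), ?_⟩
    rw [← Int.odd_coe_nat, Int.toNat_of_nonneg (by rcases hε with rfl | rfl <;> omega)]
    have he : Even ((h : ℤ) * i) := by
      refine Even.mul_right ?_ _
      rw [hhZ]; exact Even.pow_of_ne_zero even_two (by omega)
    rcases hε with rfl | rfl
    · exact he.add_one
    · rw [← sub_eq_add_neg]; exact he.sub_odd odd_one
  have hqm : (q : ℤ) + ε = 2 * m := by rw [hm]; linarith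
  have hcy2 : rY * m ∣ rJ * i := by
    have h1 : Nat.card (centralizer ({dt TK DK (j + 1)} : Set K)) = 4 * f * (rY * m) := by
      have : (Nat.card (centralizer ({dt TK DK (j + 1)} : Set K)) : ℤ) =
          ((4 * f * (rY * m) : ℕ) : ℤ) := by rw [hCy, hqm]; push_cast; ring
      exact_mod_cast this
    rw [h1, hio', show 4 * h * (rJ * f * i) = 4 * f * (h * (rJ * i)) by ring] at hcy
    refine Nat.Coprime.dvd_of_dvd_mul_left ?_
      (Nat.dvd_of_mul_dvd_mul_left (by have := hf.pos; omega) hcy)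
    rw [hk₀]
    exact (Nat.coprime_two_right.2 (hrY.mul hmo)).pow_right _
  obtain ⟨M, hM⟩ := hcy2
  have hMo : Odd M := (hrJ.mul hi).of_dvd_nat (hM ▸ dvd_mul_left _ _)
  -- the block
  obtain ⟨Mi, hMi⟩ := CfsgLib.BlockB.exists_isPModular Nat.prime_two
  haveI := CfsgLib.Block.isPrime_of_pmodular hMi
  obtain ⟨ζ, hζ⟩ : ∃ ζ : ℂ, IsPrimitiveRoot ζ (2 * h) :=
    ⟨_, Complex.isPrimitiveRoot_exp _ (by omega)⟩
  obtain ⟨χ₁, χ₂, χ₃, χ', δ₁, δ₂, δ₃, S⟩ :=
    CfsgLib.BlockA.DihedralBlock.exists_shape hMi T D hh hζ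
  have hone : ∀ s t : G, orderOf s = 2 → orderOf t = 2 → IsConj s t := fun s t hs ht =>
    hG.one_class hs ht
  obtain ⟨hxd, hord⟩ := CfsgLib.BlockA.DihedralBlock.order_formula hMi T D hh hζ S hone
  set x := charDegree (χ₁ : G → ℂ) with hxdef
  obtain ⟨huv, hxo, hxdvd, hI⟩ := identity_I hMi T D hh hζ S hone j (x : ℤ) _ _ rfl rfl rfl
  set u : ℤ := -δ₁ * δ₂ * (charDegree (χ₂ : G → ℂ) : ℤ) with hudef
  set v : ℤ := -δ₁ * δ₃ * (charDegree (χ₃ : G → ℂ) : ℤ) with hvdef
  -- the centralizers of the four-groups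
  have hpairK : ∀ i', Nat.card (centralizer ({dz TK DK, dt TK DK i'} : Set K)) =
      Nat.card (centralizer ({z, dt T D i'} : Set G)) := fun i' => by
    rw [centralizer_subgroupOf, hpair, ezK, etK]
    exact Nat.card_congr (subgroupOfEquivOfLe ((centralizer_le (by simp)).trans hC)).toEquiv
  rw [hpairK] at hCt hCty
  have hrel : u1 * rY = u2 * rJ := by
    have e : (u1 * rY) ^ 2 * Nat.card R = (u2 * rJ) ^ 2 * Nat.card R := by
      calc (u1 * rY) ^ 2 * Nat.card R = rY ^ 2 * (Nat.card R * u1 ^ 2) := by ring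
        _ = rJ ^ 2 * (rJ * rY ^ 2) := by rw [hBW1]; ring
        _ = rJ ^ 2 * (Nat.card R * u2 ^ 2) := by rw [hBW2]
        _ = _ := by ring
    exact Nat.pow_left_injective two_ne_zero (Nat.eq_of_mul_eq_mul_right Nat.card_pos e)
  have hu1 : (0 : ℚ) < u1 := by exact_mod_cast Nat.card_pos
  have hu2 : (0 : ℚ) < u2 := by exact_mod_cast Nat.card_pos
  have hfQ : (0 : ℚ) < f := by exact_mod_cast hf.pos
  have hrJQ : (0 : ℚ) < rJ := by exact_mod_cast hrJ.pos
  have hrYQ : (0 : ℚ) < rY := by exact_mod_cast hrY.pos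
  have hrelQ : (u1 : ℚ) * rY = u2 * rJ := by exact_mod_cast hrel
  have hc2 : (1 : ℚ) / (Nat.card (centralizer ({z, dt T D (j + 1)} : Set G)) : ℚ) =
      rJ / (4 * f * u1 * rY) := by
    rw [hCty]; push_cast
    rw [div_eq_div_iff (by positivity) (by positivity)]
    linear_combination (4 * (f : ℚ)) * hrelQ
  have hc1 : (1 : ℚ) / (Nat.card (centralizer ({z, dt T D j} : Set G)) : ℚ) =
      rY / (4 * f * u1 * rY) := by
    rw [hCt]; push_cast
    rw [div_eq_div_iff (by positivity) (by positivity)]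
    ring
  have hI' : ((rJ : ℤ) - rY) ^ 2 * u * v * ((x : ℤ) - δ₁) ^ 2 =
      δ₁ * x * (u - v) ^ 2 * ((rJ : ℤ) + rY) ^ 2 := by
    rw [hc1, hc2, div_sub_div_same, ← add_div, div_pow, div_pow] at hI
    have h' : (((rJ : ℤ) - rY) ^ 2 * u * v * ((x : ℤ) - δ₁) ^ 2 : ℤ) =
        ((δ₁ * x * (u - v) ^ 2 * ((rJ : ℤ) + rY) ^ 2 : ℤ) : ℚ) := by
      push_cast at hI ⊢
      field_simp at hI
      linear_combination hI
    exact_mod_cast h'
  -- the two pairs of reflections of the order formula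
  have hsum : (1 : ℚ) / (Nat.card (centralizer ({z, dt T D 0} : Set G)) : ℚ) +
      1 / (Nat.card (centralizer ({z, dt T D 1} : Set G)) : ℚ) =
      ((rJ : ℚ) + rY) / (4 * f * u1 * rY) := by
    have hper : ∀ i' : ℤ, Nat.card (centralizer ({z, dt T D (i' + 2)} : Set G)) =
        Nat.card (centralizer ({z, dt T D i'} : Set G)) := fun i' => by
      set r : G := ((D.r : (T : Subgroup G)) : G)
      have e1 : r * z * r⁻¹ = z :=
        conj_eq_self (mem_cI.2 (dz_commute T D (SetLike.coe_mem D.r)).eq.symm)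
      have e2 : r * dt T D i' * r⁻¹ = dt T D (i' + 2) := TwoClassSmall.dr_conj T D i'
      have hmap : (centralizer ({z, dt T D i'} : Set G)).map (MulAut.conj r).toMonoidHom =
          centralizer ({z, dt T D (i' + 2)} : Set G) := by
        have hinter : ∀ v : G, centralizer ({z, v} : Set G) = cI z ⊓ cI v := fun v => by
          ext w
          simp [mem_centralizer_iff]
        rw [hinter, hinter, Subgroup.map_inf _ _ _ (MulAut.conj r).injective, cI_conj, cI_conj, e1, e2]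
      rw [← hmap, card_map_of_injective (MulAut.conj r).injective]
    have hmul : ∀ (i' : ℤ) (c : ℕ), Nat.card (centralizer ({z, dt T D (i' + 2 * c)} : Set G)) =
        Nat.card (centralizer ({z, dt T D i'} : Set G)) := by
      intro i' c
      induction c with
      | zero => simp
      | succ c ih => rw [← ih, ← hper (i' + 2 * c)]; congr 2; push_cast; ring_nf
    have hev : ∀ i' j' : ℤ, Even (j' - i') → Nat.card (centralizer ({z, dt T D j'} : Set G)) =
        Nat.card (centralizer ({z, dt T D i'} : Set G)) := by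
      rintro i' j' ⟨c, hc⟩
      rcases Int.natAbs_eq c with e | e
      · rw [show j' = i' + 2 * (c.natAbs : ℤ) by omega, hmul]
      · conv_rhs => rw [show i' = j' + 2 * (c.natAbs : ℤ) by omega, hmul]
    rcases Int.even_or_odd j with ⟨c, hc⟩ | ⟨c, hc⟩
    · rw [hev j 0 ⟨-c, by omega⟩, hev (j + 1) 1 ⟨-c, by omega⟩, hc1, hc2, ← add_div, add_comm]
    · rw [hev (j + 1) 0 ⟨-c - 1, by omega⟩, hev j 1 ⟨-c, by omega⟩, hc1, hc2, ← add_div]
  set k := K.index with hkdef
  have hGc : Nat.card G = k * Nat.card K := by rw [← K.card_mul_index, mul_comm]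
  have hk : Odd k := by
    rw [← Nat.not_even_iff_odd, even_iff_two_dvd]
    exact fun h2 => T.not_dvd_index (h2.trans (index_dvd_of_le hTK))
  have hkq : (k : ℤ) * ((x : ℤ) - δ₁) ^ 2 * q * (2 * (h * i + ε)) * rY ^ 2 =
      x * ((x : ℤ) + δ₁) * (2 * h * i) ^ 2 * ((rJ : ℤ) + rY) ^ 2 := by
    rw [hG.card_cI T D, ← hzdef, ← hodef, hsum, hGc, hKc, hio'] at hord
    have hR1 : (Nat.card R : ℚ) * (u1 : ℚ) ^ 2 = (rJ : ℚ) ^ 3 := by exact_mod_cast hBW1
    have hm' : (m : ℚ) = h * i + ε := by exact_mod_cast hm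
    have hqε : ((q * q - 1 : ℕ) : ℚ) = (2 * h * i) * (2 * m) := by
      rw [Nat.cast_sub (Nat.one_le_iff_ne_zero.2 (by positivity))]
      have e1 : (q : ℚ) - ε = 2 * h * i := by exact_mod_cast hiz
      have e2 : (q : ℚ) + ε = 2 * m := by exact_mod_cast hqm
      push_cast
      rw [← e1, ← e2]
      rcases hε with rfl | rfl <;> push_cast <;> ring
    have hR0 : (Nat.card R : ℚ) = (rJ : ℚ) ^ 3 / (u1 : ℚ) ^ 2 := by
      rw [eq_div_iff (by positivity)]; exact hR1
    have hh0 : (0 : ℚ) < h := by exact_mod_cast (show 0 < h by omega)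
    have hi0 : (0 : ℚ) < i := by exact_mod_cast hi.pos
    push_cast at hord
    rw [hqε, hR0, ← hhdef] at hord
    have h' : (((k : ℤ) * ((x : ℤ) - δ₁) ^ 2 * q * (2 * (h * i + ε)) * rY ^ 2 : ℤ) : ℚ) =
        ((x * ((x : ℤ) + δ₁) * (2 * h * i) ^ 2 * ((rJ : ℤ) + rY) ^ 2 : ℤ) : ℚ) := by
      push_cast
      rw [hm'] at hord
      field_simp at hord
      linear_combination hord
    exact_mod_cast h'
  -- the arithmetic
  set n := k₀ + 2 with hn
  have hp1 : (2 : ℤ) ^ (n - 1) = 2 * h := by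
    rw [hn, show k₀ + 2 - 1 = k₀ + 1 by omega, pow_succ, hhZ]; ring
  have hp2 : (2 : ℤ) ^ (n - 2) = h := by rw [hn, Nat.add_sub_cancel, hhZ]
  have hres := twoClass_arith n x rJ rY M i k q δ₁ ε u v (by omega) S.sgn₁ hε hrJ hrY hMo hi hk
    (by rw [hp1]; linarith) hq3 huv
    (two_part_sub (by omega) S.sgn₁ hxo (hp1 ▸ hxdvd) hxd hk hd.hq hrY hi hmo hrJ
      (by rw [hp1, hm]; exact hkq))
    hI'
    (by rw [hp2, ← hm]; exact_mod_cast (show rY * M * m = rJ * i by rw [hM]; ring))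
    (by rw [hp1, hp2]; exact hkq)
  obtain ⟨hn3, hcases⟩ := hres
  have hh2 : h = 2 := by rw [hk₀, show k₀ = 1 by omega, pow_one]
  rcases hcases with ⟨hq, hcases⟩ | ⟨hq, hk7, hA⟩ | ⟨hq, hk11⟩
  · -- q = 3
    obtain rfl := hf3 hq
    subst hq
    have hi1 : i = 1 := by
      rw [hh2] at hiz
      rcases hε with rfl | rfl <;> omega
    have ho : o = rJ := by rw [hio', hi1]; ring
    set R' := R.map K.subtype with hR'
    have hR'c : Nat.card R' = Nat.card R := card_map_of_injective K.subtype_injective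
    have hinfc : ∀ (w : K), Nat.card ↥(R' ⊓ cI (w : G)) = Nat.card ↥(R ⊓ centralizer ({w} : Set K)) :=
      fun w => by
        rw [← card_map_of_injective K.subtype_injective (K := R ⊓ centralizer ({w} : Set K)),
          map_inf_centralizer, hsing]
    have hcore : R' ⊓ cI z = coreC z := eq_of_le_of_card_ge
      (fun w hw => hG.mem_coreC hzo hw.2 ((hR'c ▸ hRodd : Odd (Nat.card R')).of_dvd_nat
        (Subgroup.orderOf_dvd_natCard R' hw.1)))
      (by rw [← ezK, hinfc, ezK, ← hrJdef, ← hodef, ho])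
    have hu : ∀ i', Nat.card ↥(coreC z ⊓ cI (dt T D i')) =
        Nat.card ↥(R ⊓ centralizer ({dz TK DK, dt TK DK i'} : Set K)) := fun i' => by
      rw [← card_map_of_injective K.subtype_injective
        (K := R ⊓ centralizer ({dz TK DK, dt TK DK i'} : Set K)), map_inf_centralizer, hpair, ezK, etK,
        ← hcore, inf_assoc]
      refine congrArg (fun S : Subgroup G => Nat.card S) ?_
      ext w
      simp only [mem_inf, mem_centralizer_iff, Set.mem_singleton_iff, forall_eq, Set.mem_insert_iff,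
        forall_eq_or_imp]
      tauto
    have hkerR : K ≤ normalizer (R' : Set G) := fun w hw => by
      refine mem_normalizer_iff_of_finite fun r hr => ?_
      obtain ⟨r', hr', rfl⟩ := hr
      exact ⟨⟨w, hw⟩ * r' * ⟨w, hw⟩⁻¹, hRn.conj_mem r' hr' _, rfl⟩
    refine TwoClassSmall.s4_false (T := T) (D := D) (j := j) (K := K) (R := R')
      ⟨hG, hK, hh2, hTK, map_subtype_le _, hkerR, hR'c ▸ hRodd, by rw [hKc, hR'c]; ring,
        hcore ▸ inf_le_left, ?_, ?_⟩ rJ rY hrY.pos ?_ ?_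
      (TwoClassChar.charData_chi1 T D hG hMi hh hζ S) hcases
    · obtain ⟨g, hg⟩ := isConj_iff.1 hconj
      exact ⟨g, g.2, (by rw [← ezK, ← etK]; exact congrArg Subtype.val hg : (g : G) * z * (g : G)⁻¹ = dt T D j)⟩
    · rintro ⟨g, hgK, hg⟩
      exact hnconj (isConj_iff.2 ⟨⟨g, hgK⟩, Subtype.ext (by
        show g * ((dz TK DK : K) : G) * g⁻¹ = _
        rw [ezK, etK, hg])⟩)
    · rw [← etK, hinfc, ← hrYdef, ← hodef, ho, mul_comm]
    · rw [hu, hu, ← hu1def, ← hu2def, hrel]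
  · -- q = 5
    subst hq
    refine small_index_false hG K hK.1 5 (by decide) (Or.inr rfl) le_rfl
      (by rw [hKc]; exact dvd_mul_left _ _) (by omega) fun _ => ⟨hk7, ?_⟩
    have h3 : 3 ≤ Nat.card R := by
      have h1 : rJ ≤ Nat.card R := card_le_of_le inf_le_left
      have := hrY.pos
      omega
    rw [hKc]
    calc 360 = 3 * 1 * (5 * (5 * 5 - 1)) := by norm_num
      _ ≤ _ := Nat.mul_le_mul_right _ (Nat.mul_le_mul h3 hf.pos)
  · refine small_index_false hG K hK.1 q hd.hq ?_ hq.le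
      (by rw [hKc]; exact dvd_mul_left _ _) hk11 fun h => absurd h hq.ne'
    obtain ⟨c, rfl⟩ := hi
    rw [hh2] at hiz
    push_cast at hiz
    rcases hε with rfl | rfl <;> omega

/-- **A2.** -/
theorem twoClass (h1 : OneClassStmt.{u}) : TwoClassStmt.{u} := by
  intro G _ _ hG a ha K hK hC hnc htwo
  obtain ⟨K', hK', hle⟩ := (eq_top_or_exists_le_coatom K).resolve_left hK
  refine coatom_two_false hG ha K' hK' (hC.trans hle) (fun h => hnc ?_)
    (h1 G hG a ha K' hK'.1 (hC.trans hle))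
  exact CfsgLib.Transfer.hasNormalPComplement_of_injective (Subgroup.inclusion hle)
    (Subgroup.inclusion_injective hle) h

end CfsgLib.GW
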