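import Cfsg.Agent.Lib.GW.Final
import Cfsg.Agent.Lib.GW.TwoClass
import Cfsg.Agent.Lib.GW.CompStmt
import Cfsg.Agent.Lib.GW.TwistProof
import Cfsg.Agent.Lib.GW.Component.ScalarProof

/-!
The theorem of Gorenstein and Walter on simple groups with dihedral Sylow 2-subgroups.
-/

set_option autoImplicit false

namespace CfsgLib.GW

universe u

/-- The finite simple groups with dihedral Sylow 2-subgroups. -/
theorem simpleGW (N : ℕ) : CfsgLib.Recog.GW.SimpleGW.{u} N :=
  simpleGW_of_open twoClass nilpotentOvergroup_stmt scalar_of_max twist N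

end CfsgLib.GW
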