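import Cfsg.Agent.Lib.GW.Scalar
import Cfsg.Agent.Lib.InvChar.BSWDihedral
import Cfsg.Agent.Lib.Solvable.HallHigman
import Cfsg.Agent.Lib.FT.OddOrder
import Cfsg.Agent.S4203
import Cfsg.Agent.S0251

/-!
The theorem of Gorenstein and Walter from maximality of the centralizers of involutions, the scalar
action on the Fitting subgroup and the twist lemma, by the Brauer-Suzuki-Wall theorem.
-/

set_option autoImplicit false
set_option linter.unusedSectionVars false
set_option linter.style.haveILetI false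
set_option maxHeartbeats 800000

namespace CfsgLib.GW

open Subgroup CfsgLib.Invol CfsgLib.Recog.GW

universe u

variable {G : Type u} [Group G] [Finite G]

/-- `C(a) = O(C(a)) T` for a Sylow subgroup `T` centralising `a`. -/
theorem Min.cI_le_sup (M : Min G) (T : Sylow 2 G) {a : G} (ha : orderOf a = 2)
    (hT : (T : Subgroup G) ≤ cI a) : cI a ≤ coreC a ⊔ (T : Subgroup G) := by
  haveI : Fact (Nat.Prime 2) := ⟨Nat.prime_two⟩
  set N := Cfsg.oddCore ↥(cI a)
  haveI hNn : N.Normal := CfsgLib.Solvable.pPrimeCore_normal 2 _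
  -- the quotient is a 2-group
  have hq : IsPGroup 2 (↥(cI a) ⧸ N) := fun q => by
    obtain ⟨⟨x, hx⟩, rfl⟩ := QuotientGroup.mk_surjective q
    obtain ⟨i, l, hl, hxl⟩ := Nat.exists_eq_two_pow_mul_odd (orderOf_pos x).ne'
    refine ⟨i, (QuotientGroup.eq_one_iff ((⟨x, hx⟩ : cI a) ^ 2 ^ i)).2 ?_⟩
    have hodd : Odd (orderOf (x ^ 2 ^ i)) := by
      rw [orderOf_pow_of_dvd (pow_ne_zero _ two_ne_zero) (hxl ▸ dvd_mul_right _ _), hxl,
        Nat.mul_div_cancel_left _ (pow_pos two_pos _)]
      exact hl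
    obtain ⟨y, hy, he⟩ := M.mem_coreC ha (pow_mem hx _) hodd
    exact (show (⟨x, hx⟩ : cI a) ^ 2 ^ i = y from Subtype.ext he.symm) ▸ hy
  -- so the image of `T` is everything
  let T' : Sylow 2 ↥(cI a) := T.subtype hT
  have hsurj : ∀ x : cI a, x ∈ N ⊔ (T' : Subgroup (cI a)) := by
    have htop : (T' : Subgroup (cI a)).map (QuotientGroup.mk' N) = ⊤ := by
      have h1 := (T'.mapSurjective (QuotientGroup.mk'_surjective N)).3
        (Q := (⊤ : Subgroup (↥(cI a) ⧸ N))) (hq.to_subgroup ⊤) le_top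
      exact h1.symm
    intro x
    obtain ⟨t, ht, htx⟩ := (htop.ge (mem_top (QuotientGroup.mk' N x)) :)
    have hmem : x * t⁻¹ ∈ N := by
      rw [← QuotientGroup.eq_one_iff, QuotientGroup.mk_mul, QuotientGroup.mk_inv]
      exact mul_inv_eq_one.2 htx.symm
    simpa [mul_assoc] using mul_mem (mem_sup_left hmem : x * t⁻¹ ∈ N ⊔ (T' : Subgroup (cI a)))
      (mem_sup_right ht)
  intro x hx
  have h := mem_map_of_mem (cI a).subtype (hsurj ⟨x, hx⟩)
  rw [Subgroup.map_sup] at h
  have hle : (N.map (cI a).subtype) ⊔ ((T' : Subgroup (cI a)).map (cI a).subtype) ≤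
      coreC a ⊔ (T : Subgroup G) :=
    sup_le le_sup_left (le_sup_of_le_right (fun z ⟨y, hy, e⟩ => e ▸ hy))
  exact hle h

/-- An element acts on `fitP a p` by `1` or `-1`. -/
def Sc (a x : G) : Prop :=
  ∀ p : ℕ, p.Prime → (∀ f ∈ fitP a p, x * f * x⁻¹ = f) ∨ ∀ f ∈ fitP a p, x * f * x⁻¹ = f⁻¹

theorem Sc.mul {a x y : G} (hx : Sc a x) (hy : Sc a y) : Sc a (x * y) := fun p hp => by
  have e : ∀ f, x * y * f * (x * y)⁻¹ = x * (y * f * y⁻¹) * x⁻¹ := fun f => by group
  rcases hx p hp with h | h <;> rcases hy p hp with h' | h'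
  · exact Or.inl fun f hf => by rw [e, h' f hf, h f hf]
  · exact Or.inr fun f hf => by rw [e, h' f hf, h _ (inv_mem hf)]
  · exact Or.inr fun f hf => by rw [e, h' f hf, h f hf]
  · exact Or.inl fun f hf => by rw [e, h' f hf, h _ (inv_mem hf), inv_inv]

theorem mem_fitC_induction {a : G} {P : G → Prop} {f : G} (hf : f ∈ fitC a)
    (h1 : P 1) (hmul : ∀ x y, P x → P y → P (x * y))
    (hgen : ∀ p : ℕ, p.Prime → ∀ x ∈ fitP a p, P x) : P f := by
  rw [fitC, CfsgLib.Solvable.fittingSubgroup_eq_iSup_pCore, Subgroup.map_iSup] at hf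
  exact Subgroup.iSup_induction _ (C := P) hf (fun p x hx => hgen p p.2 x hx) h1 hmul

theorem Sc.sq {a x : G} (hx : Sc a x) : ∀ f ∈ fitC a, x ^ 2 * f = f * x ^ 2 := by
  intro f hf
  refine mem_fitC_induction (P := fun f => Commute (x ^ 2) f) hf (Commute.one_right _)
    (fun _ _ h h' => h.mul_right h') fun p hp f hf => ?_
  refine mul_inv_eq_iff_eq_mul.1 ?_
  rw [show x ^ 2 * f * (x ^ 2)⁻¹ = x * (x * f * x⁻¹) * x⁻¹ by rw [pow_two]; group]
  rcases hx p hp with h | h
  · rw [h f hf, h f hf]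
  · rw [h f hf, h _ (inv_mem hf), inv_inv]

/-- The centralizer of `F(O(C(a)))` in `O(C(a))`. -/
theorem mem_fitC_of_centralizes {a x : G} (hx : x ∈ coreC a)
    (h : ∀ f ∈ fitC a, x * f = f * x) : x ∈ fitC a := by
  haveI : Group.IsSolvable (coreC a) := CfsgLib.FT.odd_order_solvable (odd_coreC a)
  refine ⟨⟨x, hx⟩, CfsgLib.Solvable.centralizer_fittingSubgroup_le
    (mem_centralizer_iff.2 fun f hf => Subtype.ext ?_), rfl⟩
  exact (h f ⟨f, hf, rfl⟩).symm

theorem conj_Sc {a x y : G} (hx : Sc a x) (hy : y ∈ coreC a) :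
    ∀ f ∈ fitC a, x * y * x⁻¹ * f = y * f * y⁻¹ * (x * y * x⁻¹) := by
  intro f hf
  refine mem_fitC_induction (P := fun f => x * y * x⁻¹ * f = y * f * y⁻¹ * (x * y * x⁻¹)) hf
    (by group) (fun u v hu hv => ?_) fun p hp f hf => ?_
  · calc x * y * x⁻¹ * (u * v) = (x * y * x⁻¹ * u) * v := by group
      _ = y * u * y⁻¹ * (x * y * x⁻¹ * v) := by rw [hu]; group
      _ = _ := by rw [hv]; group
  · have hyf : y * f * y⁻¹ ∈ fitP a p := conj_mem_fitP (coreC_le_cI a hy) hf
    rw [← mul_inv_eq_iff_eq_mul]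
    rcases hx p hp with h | h
    · have h0 : x⁻¹ * f * x = f := by
        calc x⁻¹ * f * x = x⁻¹ * (x * f * x⁻¹) * x := by rw [h f hf]
          _ = f := by group
      calc x * y * x⁻¹ * f * (x * y * x⁻¹)⁻¹ = x * (y * (x⁻¹ * f * x) * y⁻¹) * x⁻¹ := by group
        _ = y * f * y⁻¹ := by rw [h0, h _ hyf]
    · have h0 : x⁻¹ * f * x = f⁻¹ := by
        calc x⁻¹ * f * x = x⁻¹ * (x * f⁻¹ * x⁻¹) * x := by rw [h _ (inv_mem hf), inv_inv]
          _ = f⁻¹ := by group
      calc x * y * x⁻¹ * f * (x * y * x⁻¹)⁻¹ = x * (y * (x⁻¹ * f * x) * y⁻¹) * x⁻¹ := by group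
        _ = x * (y * f * y⁻¹)⁻¹ * x⁻¹ := by rw [h0]; group
        _ = y * f * y⁻¹ := by rw [h _ (inv_mem hyf), inv_inv]

/-- The commutators with an element acting by scalars. -/
def defect (x y : G) : G := y⁻¹ * (x * y * x⁻¹)

theorem defect_facts {a x y : G} (hxc : x ∈ cI a) (hx : Sc a x) (hy : y ∈ coreC a) :
    defect x y ∈ fitC a ∧ ∀ f ∈ fitC a, defect x y * f = f * defect x y := by
  have h : ∀ f ∈ fitC a, defect x y * f = f * defect x y := fun f hf => by
    show y⁻¹ * (x * y * x⁻¹) * f = f * (y⁻¹ * (x * y * x⁻¹))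
    rw [mul_assoc, conj_Sc hx hy f hf]
    group
  exact ⟨mem_fitC_of_centralizes (mul_mem (inv_mem hy) (conj_mem_coreC hxc hy)) h, h⟩

/-- The squares of scalar elements centralise `O(C(a))`. -/
theorem Sc.sq_coreC {a x : G} (hxc : x ∈ cI a) (hx : Sc a x) (h2 : ∃ k, x ^ 2 ^ k = 1) :
    ∀ y ∈ coreC a, x ^ 2 * y = y * x ^ 2 := by
  intro y hy
  set w := x ^ 2 with hw
  have hwc : w ∈ cI a := pow_mem hxc 2
  obtain ⟨k, hk⟩ := h2
  have hwSc : Sc a w := by rw [hw, pow_two]; exact hx.mul hx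
  set f := defect w y
  have hf := (defect_facts hwc hwSc hy).1
  have hpow : ∀ i : ℕ, w ^ i * y * (w ^ i)⁻¹ = y * f ^ i := fun i => by
    induction i with
    | zero => simp
    | succ i ih =>
      have hfi : Commute w (f ^ i) := Commute.pow_right (show Commute w f from hx.sq f hf) i
      calc w ^ (i + 1) * y * (w ^ (i + 1))⁻¹ = w * (w ^ i * y * (w ^ i)⁻¹) * w⁻¹ := by
            rw [pow_succ']; group
        _ = w * y * w⁻¹ * (w * f ^ i * w⁻¹) := by rw [ih]; group
        _ = y * f * f ^ i := by rw [hfi.eq, mul_inv_cancel_right]; simp only [f, defect]; group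
        _ = y * f ^ (i + 1) := by rw [pow_succ', mul_assoc]
  have hw1 : w ^ 2 ^ k = 1 := by rw [hw, ← pow_mul, mul_comm, pow_mul, hk, one_pow]
  have hf1 : f = 1 := by
    refine orderOf_eq_one_iff.1 (Nat.eq_one_of_dvd_coprimes (a := orderOf f) (b := 2 ^ k)
      ((Nat.coprime_two_right.2 (odd_orderOf_mem_coreC (fitC_le_coreC a hf))).pow_right k)
      dvd_rfl (orderOf_dvd_of_pow_eq_one ?_))
    have := hpow (2 ^ k)
    rw [hw1, one_mul, inv_one, mul_one] at this
    exact mul_eq_left.1 this.symm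
  have := hpow 1
  rw [hf1, one_pow, mul_one, pow_one] at this
  exact mul_inv_eq_iff_eq_mul.1 this

/-- **The theorem of Gorenstein and Walter for simple groups**, from its pieces. -/
theorem min_false_of_pieces (hm : MaximalStmt.{u}) (hs : ScalarStmt.{u}) (ht : TwistStmt.{u})
    (M : Min G) : False := by
  classical
  haveI := M.simple
  haveI : Fact (Nat.Prime 2) := ⟨Nat.prime_two⟩
  obtain ⟨T₁⟩ := (inferInstance : Nonempty (Sylow 2 G))
  obtain ⟨D₁⟩ := M.dih T₁
  set a := dz T₁ D₁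
  have ha : orderOf a = 2 := (Subgroup.orderOf_coe _).trans D₁.orderOf_z
  obtain ⟨T, haT, hT⟩ : ∃ T : Sylow 2 G, a ∈ (T : Subgroup G) ∧ (T : Subgroup G) ≤ cI a :=
    M.exists_sylow ha
  obtain ⟨D₀⟩ := M.dih T
  obtain ⟨D, hD⟩ := CfsgLib.InvChar.BSW.exists_dihData_central D₀ ⟨a, haT⟩
    (by rw [orderOf_mk, ha]) fun w => Subtype.ext (mem_cI.1 (hT w.2))
  obtain ⟨e⟩ := dihEquiv D
  set O := coreC a with hO
  -- the central involution acts trivially
  have hOa : ∀ y ∈ O, a * y * a⁻¹ = y := fun y hy => by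
    rw [(mem_cI.1 (coreC_le_cI a hy)).symm, mul_inv_cancel_right]
  -- involutions act by scalars
  have hsc : ∀ s ∈ (T : Subgroup G), orderOf s = 2 → ∀ p : ℕ, p.Prime →
      fitP a p ≤ cI s ∨ ∀ x ∈ fitP a p, s * x * s⁻¹ = x⁻¹ := by
    intro s hsT hso p hp
    by_cases hsa : s = a
    · exact Or.inl (hsa ▸ fitP_le_cI a p)
    obtain ⟨g, hg⟩ := M.exists_four T ha haT hT hso hsT hsa
    refine (hs G M a s g hg p hp).imp id fun h => ?_
    exact inverts_of_inf_eq_bot hso (fun x hx => conj_mem_fitP (hT hsT) hx) h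
  have hinv : ∀ s ∈ (T : Subgroup G), orderOf s = 2 → Sc a s := fun s hsT hso p hp =>
    (hsc s hsT hso p hp).imp (fun h f hf => by rw [(mem_cI.1 (h hf)).symm, mul_inv_cancel_right]) id
  have hScT : ∀ x ∈ (T : Subgroup G), Sc a x := by
    intro x hx
    have hd : ∀ i, Sc a (dt T D i) := fun i =>
      hinv _ (SetLike.coe_mem _) ((Subgroup.orderOf_coe _).trans (D.orderOf_zy i))
    rcases D.cases ⟨x, hx⟩ with ⟨i, h⟩ | ⟨i, h⟩
    · rw [show x = dt T D i * dt T D 0 from congrArg Subtype.val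
        (show (⟨x, hx⟩ : (T : Subgroup G)) = D.r ^ i * D.s * (D.r ^ (0 : ℤ) * D.s) by
          rw [D.zy_mul_zy, sub_zero, h])]
      exact (hd i).mul (hd 0)
    · rw [show x = dt T D i from congrArg Subtype.val h]; exact hd i
  have hsq : ∀ s ∈ (T : Subgroup G), ∀ y ∈ O, s ^ 2 * y = y * s ^ 2 := fun s hsT =>
    Sc.sq_coreC (hT hsT) (hScT s hsT) ((T.2 ⟨s, hsT⟩).imp fun _ h => congrArg Subtype.val h)
  have hsup := M.cI_le_sup T ha hT
  have hmax := hm G M
  -- every reflection inverts `O`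
  have hrefl : ∀ b ∈ (T : Subgroup G), orderOf b = 2 → b ≠ a → ∀ y ∈ O, b * y * b⁻¹ = y⁻¹ := by
    intro b hbT hbo hba
    obtain ⟨g, hg⟩ := M.exists_four T ha haT hT hbo hbT hba
    have hbc : b ∈ cI a := hT hbT
    have hbb : b⁻¹ = b := invol_inv hbo
    -- the inverted part
    set F := closure {z | ∃ y ∈ O, z = defect b y} with hFdef
    have hFf : F ≤ fitC a := (closure_le _).2 fun z ⟨y, hy, e⟩ =>
      e ▸ (defect_facts hbc (hinv b hbT hbo) hy).1
    have hFcent : F ≤ centralizer (fitC a : Set G) := (closure_le _).2 fun z ⟨y, hy, e⟩ =>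
      mem_centralizer_iff.2 fun f hf => e ▸ ((defect_facts hbc (hinv b hbT hbo) hy).2 f hf).symm
    have hFcomm : ∀ x ∈ F, ∀ y ∈ F, x * y = y * x := fun x hx y hy =>
      (mem_centralizer_iff.1 (hFcent hx) y (hFf hy)).symm
    have hFinv : ∀ x ∈ F, b * x * b⁻¹ = x⁻¹ := by
      intro x hx
      induction hx using closure_induction with
      | mem z hz =>
        obtain ⟨y, hy, rfl⟩ := hz
        simp only [defect, hbb]
        calc b * (y⁻¹ * (b * y * b)) * b = b * y⁻¹ * b * y * (b * b) := by simp only [mul_assoc]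
          _ = b⁻¹ * y⁻¹ * b⁻¹ * y := by rw [invol_mul_self hbo, mul_one, hbb]
          _ = _ := by group
      | one => simp
      | mul u v hu hv ihu ihv =>
        calc b * (u * v) * b⁻¹ = (b * u * b⁻¹) * (b * v * b⁻¹) := by group
          _ = u⁻¹ * v⁻¹ := by rw [ihu, ihv]
          _ = (v * u)⁻¹ := (mul_inv_rev v u).symm
          _ = (u * v)⁻¹ := by rw [hFcomm u hu v hv]
      | inv u hu ih =>
        calc b * u⁻¹ * b⁻¹ = (b * u * b⁻¹)⁻¹ := by group
          _ = _ := by rw [ih]
    -- `O = F W`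
    set W := O ⊓ cI b with hWdef
    have hFO : F ≤ O := hFf.trans (fitC_le_coreC a)
    have hOFW : O = F ⊔ W := by
      refine le_antisymm (fun y hy => ?_) (sup_le hFO inf_le_left)
      set d := defect b y
      have hdF : d ∈ F := subset_closure ⟨y, hy, rfl⟩
      obtain ⟨m, hm'⟩ := odd_orderOf_mem_coreC (hFO hdF)
      have hz2 : d ^ (m + 1) * d ^ (m + 1) = d := by
        rw [← pow_add, show m + 1 + (m + 1) = orderOf d + 1 by omega, pow_succ, pow_orderOf_eq_one,
          one_mul]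
      set z := d ^ (m + 1)
      have hzF : z ∈ F := pow_mem hdF _
      have hw : y * z ∈ cI b := by
        refine mem_cI.2 (mul_inv_eq_iff_eq_mul.1 (?_ : b * (y * z) * b⁻¹ = y * z)).symm
        calc b * (y * z) * b⁻¹ = y * d * (b * z * b⁻¹) := by simp only [d, defect]; group
          _ = y * (z * z) * z⁻¹ := by rw [hFinv z hzF, hz2]
          _ = y * z := by group
      have hyz : y * z ∈ W := ⟨mul_mem hy (hFO hzF), hw⟩
      simpa [mul_assoc] using mul_mem (mem_sup_right hyz : y * z ∈ F ⊔ W)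
        (mem_sup_left (inv_mem hzF))
    -- elements of `T` and `b` commute in their action on `O`
    have hbx : ∀ x ∈ (T : Subgroup G), ∀ y ∈ O, x * b * x⁻¹ * y * (x * b * x⁻¹)⁻¹ = b * y * b⁻¹ := by
      intro x hx y hy
      have hd : x * b * x⁻¹ * b⁻¹ = x ^ 2 * (x⁻¹ * b) ^ 2 := by
        rw [hbb, pow_two, pow_two]
        group
      have hby : b * y * b⁻¹ ∈ O := conj_mem_coreC hbc hy
      have hcomm : Commute (x * b * x⁻¹ * b⁻¹) (b * y * b⁻¹) := by
        rw [hd]
        exact Commute.mul_left (hsq x hx _ hby) (hsq _ (mul_mem (inv_mem hx) hbT) _ hby)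
      calc x * b * x⁻¹ * y * (x * b * x⁻¹)⁻¹
          = x * b * x⁻¹ * b⁻¹ * (b * y * b⁻¹) * (x * b * x⁻¹ * b⁻¹)⁻¹ := by group
        _ = b * y * b⁻¹ := by rw [hcomm.eq, mul_inv_cancel_right]
    -- `F` is normal in `C(a)`
    have hFnorm : ∀ x ∈ cI a, ∀ f ∈ F, x * f * x⁻¹ ∈ F := by
      have hgens : ∀ x ∈ coreC a ⊔ (T : Subgroup G), x ∈ normalizer (F : Set G) := by
        refine fun x hx => (sup_le (fun o ho => ?_) (fun t ht => ?_) : _ ≤ normalizer (F : Set G)) hx
        · refine mem_normalizer_iff_of_finite fun f hf => ?_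
          induction hf using closure_induction with
          | mem z hz =>
            obtain ⟨y, hy, rfl⟩ := hz
            have e : o * defect b y * o⁻¹ = defect b (y * o⁻¹) * (defect b o⁻¹)⁻¹ := by
              simp only [defect]; group
            rw [e]
            exact mul_mem (subset_closure ⟨_, mul_mem hy (inv_mem ho), rfl⟩)
              (inv_mem (subset_closure ⟨_, inv_mem ho, rfl⟩))
          | one => simp
          | mul u v _ _ ihu ihv =>
            rw [show o * (u * v) * o⁻¹ = (o * u * o⁻¹) * (o * v * o⁻¹) by group]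
            exact mul_mem ihu ihv
          | inv u _ ih =>
            rw [show o * u⁻¹ * o⁻¹ = (o * u * o⁻¹)⁻¹ by group]
            exact inv_mem ih
        · refine mem_normalizer_iff_of_finite fun f hf => ?_
          induction hf using closure_induction with
          | mem z hz =>
            obtain ⟨y, hy, rfl⟩ := hz
            have hty : t * y * t⁻¹ ∈ O := conj_mem_coreC (hT ht) hy
            have e : t * defect b y * t⁻¹ = defect b (t * y * t⁻¹) := by
              simp only [defect]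
              rw [← hbx t ht _ hty]
              group
            exact e ▸ subset_closure ⟨_, hty, rfl⟩
          | one => simp
          | mul u v _ _ ihu ihv =>
            rw [show t * (u * v) * t⁻¹ = (t * u * t⁻¹) * (t * v * t⁻¹) by group]
            exact mul_mem ihu ihv
          | inv u _ ih =>
            rw [show t * u⁻¹ * t⁻¹ = (t * u * t⁻¹)⁻¹ by group]
            exact inv_mem ih
      exact fun x hx f hf => (mem_normalizer_iff.1 (hgens x (hsup hx)) f).1 hf
    have hWF : W ≤ centralizer (F : Set G) :=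
      ht G M hmax T a b g hg haT hT hbT hsc hsq F hFf hOFW hFnorm hFcomm hFinv
    -- `W` is normal in `C(a)` and rotated by `g`
    have hW : W = ⊥ := by
      by_contra hne
      have hWT : coreC a ⊔ (T : Subgroup G) ≤ normalizer (W : Set G) := by
        refine sup_le (le_of_eq_of_le hOFW (sup_le (fun f hf => ?_) le_normalizer)) fun t ht => ?_
        · refine mem_normalizer_iff_of_finite fun w hw => ?_
          rwa [mem_centralizer_iff.1 (hWF hw) f hf, mul_inv_cancel_right]
        · refine mem_normalizer_iff_of_finite fun w hw => ⟨conj_mem_coreC (hT ht) hw.1, mem_cI.2 ?_⟩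
          have h1 := hbx t⁻¹ (inv_mem ht) w hw.1
          rw [(mem_cI.1 hw.2).symm, mul_inv_cancel_right] at h1
          have h2 : t⁻¹ * b * t * w = w * (t⁻¹ * b * t) := by
            simpa [mul_assoc] using mul_inv_eq_iff_eq_mul.1 h1
          calc t * w * t⁻¹ * b = t * (w * (t⁻¹ * b * t)) * t⁻¹ := by group
            _ = t * (t⁻¹ * b * t * w) * t⁻¹ := by rw [h2]
            _ = b * (t * w * t⁻¹) := by group
      have htop : W ≠ ⊤ := fun h => M.cI_ne_top (invol_ne_one hbo)
        (top_le_iff.1 (h ▸ (inf_le_right : W ≤ cI b)))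
      have heq : normalizer (W : Set G) = cI a :=
        ((hmax a ha).le_iff.1 (hsup.trans hWT)).resolve_left (M.normalizer_ne_top hne htop)
      have hgN : g ∈ normalizer (W : Set G) := mem_normalizer_iff_of_finite fun w hw => by
        rw [hWdef, hO, M.inf_cI_eq hbo] at hw ⊢
        exact hg.rot_core M hw
      have hga := conj_eq_self (heq ▸ hgN : g ∈ cI a)
      exact hba (hg.ga.symm.trans hga)
    intro y hy
    exact hFinv y (by rw [hOFW, hW, sup_bot_eq] at hy; exact hy)
  -- the hypotheses of the theorem of Brauer, Suzuki and Wall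
  have hdt : ∀ i, dt T D i ≠ a ∧ orderOf (dt T D i) = 2 := fun i =>
    ⟨fun h => D.ne_zpow i _ ((Subtype.ext h : D.r ^ i * D.s = ⟨a, haT⟩).trans hD.symm),
      (Subgroup.orderOf_coe _).trans (D.orderOf_zy i)⟩
  have hdtinv : ∀ i, ∀ y ∈ O, dt T D i * y * (dt T D i)⁻¹ = y⁻¹ := fun i =>
    hrefl _ (SetLike.coe_mem _) (hdt i).2 (hdt i).1
  set R := (zpowers D.r).map (T : Subgroup G).subtype with hRdef
  have hOodd := odd_coreC a
  have hCT : O ≠ ⊥ → (T : Subgroup G) ⊓ centralizer (O : Set G) = R := by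
    intro hne
    refine le_antisymm (fun x hx => ?_) ?_
    · rcases D.cases ⟨x, hx.1⟩ with ⟨i, h⟩ | ⟨i, h⟩
      · exact ⟨D.r ^ i, zpow_mem (mem_zpowers _) i, (congrArg Subtype.val h).symm⟩
      · exfalso
        obtain ⟨y, hy, hy1⟩ := (bot_or_exists_ne_one O).resolve_left hne
        have h1 := hdtinv i y hy
        obtain rfl : x = dt T D i := congrArg Subtype.val h
        rw [(mem_centralizer_iff.1 hx.2 y hy).symm, mul_inv_cancel_right] at h1
        refine hy1 (orderOf_eq_one_iff.1 (Nat.eq_one_of_dvd_coprimes (a := orderOf y) (b := 2)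
          (Nat.coprime_two_right.2 (odd_orderOf_mem_coreC hy)) dvd_rfl
          (orderOf_dvd_of_pow_eq_one ?_)))
        rw [pow_two]; nth_rewrite 1 [h1]; exact inv_mul_cancel y
    · rintro _ ⟨w, hw, rfl⟩
      obtain ⟨i, rfl⟩ := mem_zpowers_iff.1 hw
      refine ⟨SetLike.coe_mem (D.r ^ i), mem_centralizer_iff.2 fun y hy => ?_⟩
      have hw' : ((D.r ^ i : (T : Subgroup G)) : G) = dt T D i * dt T D 0 := congrArg Subtype.val
        (show D.r ^ i = D.r ^ i * D.s * (D.r ^ (0 : ℤ) * D.s) by rw [D.zy_mul_zy, sub_zero])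
      show y * ((D.r ^ i : (T : Subgroup G)) : G) = ((D.r ^ i : (T : Subgroup G)) : G) * y
      rw [hw']
      refine (mul_inv_eq_iff_eq_mul.1 ?_).symm
      calc dt T D i * dt T D 0 * y * (dt T D i * dt T D 0)⁻¹
          = dt T D i * (dt T D 0 * y * (dt T D 0)⁻¹) * (dt T D i)⁻¹ := by group
        _ = y := by rw [hdtinv 0 y hy, hdtinv i _ (inv_mem hy), inv_inv]
  obtain ⟨K, fK, ftK, hodd, ⟨f⟩⟩ := CfsgLib.InvChar.BSW.psl_of_dihedral T (2 * D.h)
    (by have := D.h_pos; omega) ⟨e⟩ a ha haT (fun s hs' => mem_cI.1 (hT hs')) O rfl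
    (fun hne => by
      rw [hCT hne]
      refine ⟨CfsgLib.InvChar.BSW.isCyclic_rot T D, ?_⟩
      have hRT : R ≤ (T : Subgroup G) := map_subtype_le _
      have h1 := Subgroup.relIndex_mul_index (H := R.subgroupOf (T : Subgroup G)) le_top
      have hc : Nat.card R = 2 * D.h := by
        rw [hRdef, card_map_of_injective (subtype_injective _), Nat.card_zpowers, D.orderOf_r]
      have h2 := (R.subgroupOf (T : Subgroup G)).card_mul_index
      rw [Nat.card_congr (subgroupOfEquivOfLe hRT).toEquiv, hc, D.card_eq] at h2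
      have h3 : (R.subgroupOf (T : Subgroup G)).index = 2 := by
        have := D.h_pos
        nlinarith
      exact h3)
    (fun x hx hxC y hy => by
      rcases D.cases ⟨x, hx⟩ with ⟨i, h⟩ | ⟨i, h⟩
      · refine absurd ?_ hxC
        have hne : O ≠ ⊥ := fun h0 => hxC (mem_centralizer_iff.2 fun z hz => by
          rw [mem_bot.1 (h0 ▸ hz : z ∈ (⊥ : Subgroup G)), one_mul, mul_one])
        exact ((hCT hne).ge ⟨D.r ^ i, zpow_mem (mem_zpowers _) i, (congrArg Subtype.val h).symm⟩).2
      · obtain rfl : x = dt T D i := congrArg Subtype.val h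
        exact hdtinv i y hy)
    (fun Y hY hYne => by
      have htop : Y ≠ ⊤ := fun h => M.cI_ne_top (invol_ne_one ha)
        (top_le_iff.1 (h ▸ hY.trans (coreC_le_cI a)))
      have hOcomm : ∀ x ∈ O, ∀ y ∈ O, x * y = y * x := fun x hx y hy => by
        have e1 := hdtinv 0 _ (mul_mem hx hy)
        rw [show dt T D 0 * (x * y) * (dt T D 0)⁻¹ = (dt T D 0 * x * (dt T D 0)⁻¹) *
          (dt T D 0 * y * (dt T D 0)⁻¹) by group, hdtinv 0 x hx, hdtinv 0 y hy, ← mul_inv_rev] at e1
        exact (inv_injective e1).symm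
      have hle : cI a ≤ normalizer (Y : Set G) := hsup.trans (sup_le (fun x hx =>
        mem_normalizer_iff_of_finite fun y hy => by
          rwa [hOcomm x hx y (hY hy), mul_inv_cancel_right]) fun x hx =>
        mem_normalizer_iff_of_finite fun y hy => by
          rcases D.cases ⟨x, hx⟩ with ⟨i, h⟩ | ⟨i, h⟩
          · have hxR : x ∈ R := ⟨D.r ^ i, zpow_mem (mem_zpowers _) i, (congrArg Subtype.val h).symm⟩
            by_cases hO0 : O = ⊥
            · exact absurd (eq_bot_iff.2 (hO0 ▸ hY)) hYne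
            rwa [(mem_centralizer_iff.1 ((hCT hO0).ge hxR).2 y (hY hy)).symm, mul_inv_cancel_right]
          · obtain rfl : x = dt T D i := congrArg Subtype.val h
            exact (hdtinv i y (hY hy)).symm ▸ inv_mem hy)
      exact le_of_eq (((hm G M a ha).le_iff.1 hle).resolve_left (M.normalizer_ne_top hYne htop)))
  refine M.notModel (Or.inl ⟨K, fK, ftK, hodd, ?_, ⟨f⟩⟩)
  by_contra h3
  have hK1 : 1 < Fintype.card K := Fintype.one_lt_card
  have hK3 : Fintype.card K = 3 := by
    obtain ⟨j, hj⟩ := hodd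
    omega
  obtain ⟨f'⟩ := Cfsg.Agent.S0251.result hK3
  haveI := Cfsg.Agent.S4203.isSolvable_perm_four
  haveI : Group.IsSolvable (alternatingGroup (Fin 4)) :=
    solvable_of_solvable_injective (alternatingGroup (Fin 4)).subtype_injective
  have hsol : Group.IsSolvable G :=
    solvable_of_solvable_injective (f := (f.trans f').toMonoidHom) (f.trans f').injective
  exact M.noncomm ⟨⟨IsSimpleGroup.comm_iff_isSolvable.2 hsol⟩⟩

/-- Gorenstein-Walter for simple groups of any order, from the pieces. -/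
theorem simpleGW_of_pieces (hm : MaximalStmt.{u}) (hs : ScalarStmt.{u}) (ht : TwistStmt.{u})
    (N : ℕ) : SimpleGW.{u} N := by
  induction N using Nat.strong_induction_on with
  | _ N ih =>
    intro G _ _ hs' hna hN T hT
    by_contra hnot
    have hpos : 0 < Nat.card G := Nat.card_pos
    refine min_false_of_pieces hm hs ht (G := G) ⟨hs', hna, fun T' => ?_, ih _ (by omega), hnot⟩
    obtain ⟨D⟩ := hT
    obtain ⟨f⟩ := dihEquiv D
    exact exists_dihData T'.2 (by have := D.h_pos; omega) ((Sylow.equiv T' T).trans f)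

end CfsgLib.GW
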