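import Cfsg.Agent.Lib.GW.Basic

/-!
Combination of the cases of the pieces: a Sylow 2-subgroup with a four-group has order 4 or at
least 8, and the Fitting subgroup has one or several primes.
-/

set_option autoImplicit false

namespace CfsgLib.GW

open Subgroup CfsgLib.Invol

universe u

/-- `TwistStmt` from the cases `|T| = 4` and `|T| ≥ 8`. -/
theorem twist_of_cases
    (hk : ∀ (G : Type u) [Group G] [Finite G], Min G →
      (∀ x : G, orderOf x = 2 → IsCoatom (cI x)) →
      ∀ (T : Sylow 2 G) (a b g : G), Nat.card (T : Subgroup G) = 4 → Four a b g →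
        a ∈ (T : Subgroup G) → (T : Subgroup G) ≤ cI a → b ∈ (T : Subgroup G) →
        (∀ s ∈ (T : Subgroup G), orderOf s = 2 → ∀ p : ℕ, p.Prime →
          fitP a p ≤ cI s ∨ ∀ x ∈ fitP a p, s * x * s⁻¹ = x⁻¹) →
        (∀ s ∈ (T : Subgroup G), ∀ x ∈ coreC a, s ^ 2 * x = x * s ^ 2) →
        ∀ F : Subgroup G, F ≤ fitC a → coreC a = F ⊔ (coreC a ⊓ cI b) →
          (∀ x ∈ cI a, ∀ f ∈ F, x * f * x⁻¹ ∈ F) →
          (∀ x ∈ F, ∀ y ∈ F, x * y = y * x) → (∀ x ∈ F, b * x * b⁻¹ = x⁻¹) →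
          coreC a ⊓ cI b ≤ centralizer (F : Set G))
    (hd : ∀ (G : Type u) [Group G] [Finite G], Min G →
      (∀ x : G, orderOf x = 2 → IsCoatom (cI x)) →
      ∀ (T : Sylow 2 G) (a b g : G), 8 ≤ Nat.card (T : Subgroup G) → Four a b g →
        a ∈ (T : Subgroup G) → (T : Subgroup G) ≤ cI a → b ∈ (T : Subgroup G) →
        (∀ s ∈ (T : Subgroup G), orderOf s = 2 → ∀ p : ℕ, p.Prime →
          fitP a p ≤ cI s ∨ ∀ x ∈ fitP a p, s * x * s⁻¹ = x⁻¹) →
        (∀ s ∈ (T : Subgroup G), ∀ x ∈ coreC a, s ^ 2 * x = x * s ^ 2) →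
        ∀ F : Subgroup G, F ≤ fitC a → coreC a = F ⊔ (coreC a ⊓ cI b) →
          (∀ x ∈ cI a, ∀ f ∈ F, x * f * x⁻¹ ∈ F) →
          (∀ x ∈ F, ∀ y ∈ F, x * y = y * x) → (∀ x ∈ F, b * x * b⁻¹ = x⁻¹) →
          coreC a ⊓ cI b ≤ centralizer (F : Set G)) :
    TwistStmt.{u} := by
  intro G _ _ M hco T a b g h haT hT hbT
  haveI : Fact (Nat.Prime 2) := ⟨Nat.prime_two⟩
  obtain ⟨k, hk2⟩ := T.2.exists_card_eq
  have hcard : Nat.card (T : Subgroup G) = 4 ∨ 8 ≤ Nat.card (T : Subgroup G) := by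
    match k, hk2 with
    | 0, hk2 =>
      rw [pow_zero, card_eq_one] at hk2
      have := h.ha
      rw [show a = 1 by simpa [hk2] using haT, orderOf_one] at this
      omega
    | 1, hk2 =>
      exfalso
      have h2 : Nat.card (T : Subgroup G) = 2 := by simpa using hk2
      have e1 : ∀ x ∈ (T : Subgroup G), x ≠ 1 → x = a := by
        intro x hx hx1
        obtain ⟨u, hu, hu'⟩ := (Nat.card_eq_two_iff' (1 : (T : Subgroup G))).1 h2
        have ha1 : a ≠ 1 := fun e => by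
          have := h.ha; rw [e, orderOf_one] at this; omega
        exact congrArg Subtype.val ((hu' ⟨x, hx⟩ fun e => hx1 (congrArg Subtype.val e)).trans
          (hu' ⟨a, haT⟩ fun e => ha1 (congrArg Subtype.val e)).symm)
      refine h.hab (e1 b hbT fun e => ?_).symm
      have := h.hb
      rw [e, orderOf_one] at this
      omega
    | 2, hk2 => exact Or.inl hk2
    | (n + 3), hk2 =>
      right
      rw [hk2, pow_add]
      have := Nat.one_le_two_pow (n := n)
      omega
  exact hcard.elim (fun e => hk G M hco T a b g e h haT hT hbT)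
    fun e => hd G M hco T a b g e h haT hT hbT

end CfsgLib.GW
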