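import Cfsg.Agent.Lib.OddLocal.PStable
import Cfsg.Agent.Lib.Comp.Subnormal
import Cfsg.Agent.Lib.Solvable.Fitting
import Cfsg.Agent.Lib.Solvable.HallHigman
import Cfsg.Agent.Lib.Solvable.MinNormal
import Cfsg.Agent.Lib.FT.OddOrder

/-!
In a group of odd order an element inverted by an involutory automorphism, which centralises the
fixed points of that automorphism on the Fitting subgroup, lies in the Fitting subgroup.
-/

set_option autoImplicit false
set_option linter.style.haveILetI false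

namespace CfsgLib.GW

open Subgroup

universe u

/-- An element of odd order equal to its inverse is trivial. -/
theorem eq_one_of_eq_inv {H : Type*} [Group H] [Finite H] (hodd : Odd (Nat.card H)) {x : H}
    (h : x = x⁻¹) : x = 1 := by
  have h2 : x ^ 2 = 1 := by rw [pow_two]; exact eq_inv_iff_mul_eq_one.1 h
  rw [← orderOf_eq_one_iff]
  rcases (Nat.dvd_prime Nat.prime_two).1 (orderOf_dvd_of_pow_eq_one h2) with h1 | h1
  · exact h1
  · exact absurd (h1 ▸ hodd.of_dvd_nat (orderOf_dvd_natCard x)) (by decide)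

/-- The inverted element acts quadratically on an invariant abelian normal subgroup. -/
theorem quadratic_of_inverted {H : Type*} [Group H] [Finite H] (hodd : Odd (Nat.card H))
    (M : Subgroup H) [M.Normal] [IsMulCommutative M] (τ : MulAut H) (hτ : ∀ x, τ (τ x) = x)
    (hMτ : ∀ x ∈ M, τ x ∈ M) {β : H} (hβ : τ β = β⁻¹)
    (hfix : ∀ x ∈ M, τ x = x → β * x = x * β) :
    ∀ m ∈ M, β * (β * m * β⁻¹ * m⁻¹) * β⁻¹ = β * m * β⁻¹ * m⁻¹ := by
  intro m hm
  have hc : ∀ x ∈ M, ∀ y ∈ M, x * y = y * x := fun x hx y hy =>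
    congrArg Subtype.val ((inferInstance : IsMulCommutative M).is_comm.comm ⟨x, hx⟩ ⟨y, hy⟩)
  have hcj : ∀ (a : H), ∀ x ∈ M, a * x * a⁻¹ ∈ M := fun a x hx =>
    (inferInstance : M.Normal).conj_mem x hx a
  obtain ⟨d, hd⟩ : ∃ d, d = β * m * β⁻¹ * m⁻¹ := ⟨_, rfl⟩
  rw [← hd]
  have hdM : d ∈ M := hd ▸ mul_mem (hcj β m hm) (inv_mem hm)
  -- `β` centralises `m * τ m`
  have hs : β * (m * τ m) = (m * τ m) * β := hfix _ (mul_mem hm (hMτ m hm)) (by
    rw [map_mul, hτ]; exact hc _ (hMτ m hm) _ hm)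
  obtain ⟨d', hd'⟩ : ∃ d', d' = β⁻¹ * m * β * m⁻¹ := ⟨_, rfl⟩
  have hd'M : d' ∈ M := by
    rw [hd']; have := hcj β⁻¹ m hm; rw [inv_inv] at this; exact mul_mem this (inv_mem hm)
  -- `τ d = d'⁻¹`
  have h1 : τ d = d'⁻¹ := by
    have e1 : τ d = β⁻¹ * τ m * β * (τ m)⁻¹ := by rw [hd]; simp [map_mul, hβ]
    have e2 : β⁻¹ * (m * τ m) * β = m * τ m := by rw [mul_assoc, ← hs]; group
    have e3 : β⁻¹ * τ m * β = (β⁻¹ * m * β)⁻¹ * (m * τ m) :=
      eq_inv_mul_iff_mul_eq.2 (by
        calc β⁻¹ * m * β * (β⁻¹ * τ m * β) = β⁻¹ * (m * τ m) * β := by group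
          _ = m * τ m := e2)
    rw [e1, e3, hd', ← mul_assoc (β⁻¹ * m * β)⁻¹ m (τ m), mul_inv_cancel_right,
      hc _ (inv_mem (by have := hcj β⁻¹ m hm; rwa [inv_inv] at this)) m hm]
    group
  -- so `β` fixes `d * d'⁻¹`
  have h2 : β * (d * d'⁻¹) = (d * d'⁻¹) * β := by
    rw [← h1]
    exact hfix _ (mul_mem hdM (hMτ d hdM)) (by rw [map_mul, hτ]; exact hc _ (hMτ d hdM) _ hdM)
  have hdd : d' = β⁻¹ * d⁻¹ * β := by rw [hd', hd]; group
  obtain ⟨e, he⟩ : ∃ e, e = β * d * β⁻¹ * d⁻¹ := ⟨_, rfl⟩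
  have heM : e ∈ M := he ▸ mul_mem (hcj β d hdM) (inv_mem hdM)
  -- the commutator `e` of `β` with `d` is inverted by `β`
  have h3 : β * e * β⁻¹ = e⁻¹ := by
    have h4 : β * (d * (β⁻¹ * d * β)) * β⁻¹ = d * (β⁻¹ * d * β) := by
      have h2' : β * (d * (β⁻¹ * d * β)) = (d * (β⁻¹ * d * β)) * β := by
        simpa [hdd, mul_inv_rev, mul_assoc] using h2
      rw [h2']; group
    have hA : β * d * β⁻¹ ∈ M := hcj β d hdM
    have hB : β⁻¹ * d * β ∈ M := by have := hcj β⁻¹ d hdM; rwa [inv_inv] at this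
    have h5 : β * d * β⁻¹ * d = d * (β⁻¹ * d * β) := by rw [← h4]; group
    have h6 : β⁻¹ * d * β = d⁻¹ * (β * d * β⁻¹) * d := by
      rw [mul_assoc d⁻¹, h5]; group
    have h7 : d⁻¹ * (β * d * β⁻¹) * d = β * d * β⁻¹ := by
      rw [mul_assoc, hc _ hA _ hdM]; group
    rw [h7] at h6
    -- conjugation by `β` squared fixes `d`
    have h8 : β * (β * d * β⁻¹) * β⁻¹ = d := by rw [← h6]; group
    rw [he]
    calc β * (β * d * β⁻¹ * d⁻¹) * β⁻¹ = (β * (β * d * β⁻¹) * β⁻¹) * (β * d * β⁻¹)⁻¹ := by group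
      _ = d * (β * d * β⁻¹)⁻¹ := by rw [h8]
      _ = (β * d * β⁻¹ * d⁻¹)⁻¹ := by group
  -- odd order: `β` is a power of `β ^ 2`
  have h9 : β * e * β⁻¹ = e := by
    have h10 : Commute (β ^ 2) e := by
      show β ^ 2 * e = e * β ^ 2
      have : β * (β * e * β⁻¹) * β⁻¹ = e := by
        rw [h3, show β * e⁻¹ * β⁻¹ = (β * e * β⁻¹)⁻¹ by group, h3, inv_inv]
      calc β ^ 2 * e = β * (β * e * β⁻¹) * β⁻¹ * β ^ 2 := by rw [pow_two]; group
        _ = e * β ^ 2 := by rw [this]
    obtain ⟨n, hn⟩ : Odd (orderOf β) := hodd.of_dvd_nat (orderOf_dvd_natCard β)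
    have hb : (β ^ 2) ^ (n + 1) = β := by
      rw [← pow_mul, show 2 * (n + 1) = orderOf β + 1 by omega, pow_succ, pow_orderOf_eq_one, one_mul]
    have h11 := h10.pow_left (n + 1)
    rw [hb] at h11
    rw [h11.eq, mul_inv_cancel_right]
  have he1 : e = 1 := eq_one_of_eq_inv hodd (h9.symm.trans h3)
  rw [he] at he1
  exact mul_inv_eq_one.1 he1

/-- An inverted element centralising the fixed points of an invariant normal `p`-subgroup `P` lies
in a normal subgroup whose `p'`-elements centralise `P`. -/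
theorem exists_normal_of_inverted : ∀ {H : Type u} [Group H] [Finite H] [Group.IsSolvable H]
    (_ : Odd (Nat.card H)) {p : ℕ} [Fact p.Prime] (P : Subgroup H) [P.Normal] (_ : IsPGroup p P)
    (τ : MulAut H) (_ : ∀ x, τ (τ x) = x) (_ : ∀ x ∈ P, τ x ∈ P) {β : H} (_ : τ β = β⁻¹)
    (_ : ∀ x ∈ P, τ x = x → β * x = x * β),
    ∃ K : Subgroup H, K.Normal ∧ β ∈ K ∧
      ∀ g ∈ K, (orderOf g).Coprime p → g ∈ Subgroup.centralizer (P : Set H) := by
  intro H _ _ _ hodd p hp P _ hP τ hτ hPτ β hβ hfix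
  induction hn : Nat.card P using Nat.strong_induction_on generalizing H with
  | _ n ih =>
    subst hn
    by_cases hP1 : P = ⊥
    · exact ⟨⊤, inferInstance, Subgroup.mem_top β, fun g _ _ => by
        rw [Subgroup.mem_centralizer_iff]
        intro y hy
        rw [hP1] at hy
        simp [Subgroup.mem_bot.mp hy]⟩
    obtain ⟨A, hAn, hA1, hAP, hAmin⟩ := CfsgLib.Solvable.exists_minimal_normal_le ‹P.Normal› hP1
    have := hAn
    obtain ⟨B, hB⟩ : ∃ B, B = A.map τ.toMonoidHom := ⟨_, rfl⟩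
    haveI hBn : B.Normal := hB ▸ Subgroup.Normal.map hAn _ τ.surjective
    have hBP : B ≤ P := by
      rw [hB]; rintro _ ⟨x, hx, rfl⟩; exact hPτ x (hAP hx)
    have hB1 : B ≠ ⊥ := fun e => hA1 ((map_eq_bot_iff_of_injective _ τ.injective).1 (hB ▸ e))
    have hBA : B.map τ.toMonoidHom = A := by
      ext x
      simp only [hB, mem_map, MulEquiv.coe_toMonoidHom, exists_exists_and_eq_and, hτ,
        exists_eq_right]
    have hBmin : ∀ K : Subgroup H, K.Normal → K ≤ B → K = ⊥ ∨ K = B := by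
      intro K hK hKB
      rcases hAmin (K.map τ.toMonoidHom) (hK.map _ τ.surjective) (hBA ▸ map_mono hKB) with h | h
      · exact Or.inl ((map_eq_bot_iff_of_injective _ τ.injective).1 h)
      · exact Or.inr (map_injective (f := τ.toMonoidHom) τ.injective (by rw [h, hBA]))
    haveI hAc := CfsgLib.Solvable.isMulCommutative_of_minimal_normal hA1 hAmin
    haveI hBc := CfsgLib.Solvable.isMulCommutative_of_minimal_normal hB1 hBmin
    have hAB : ∀ a ∈ A, ∀ b ∈ B, a * b = b * a := by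
      intro a ha b hb
      rcases hAmin (A ⊓ B) inferInstance inf_le_left with h | h
      · have hxA : a * b * a⁻¹ * b⁻¹ ∈ A := by
          rw [show a * b * a⁻¹ * b⁻¹ = a * (b * a⁻¹ * b⁻¹) by group]
          exact mul_mem ha (hAn.conj_mem _ (inv_mem ha) b)
        have hxB : a * b * a⁻¹ * b⁻¹ ∈ B := mul_mem (hBn.conj_mem b hb a) (inv_mem hb)
        have hx : a * b * a⁻¹ * b⁻¹ ∈ A ⊓ B := mem_inf.2 ⟨hxA, hxB⟩
        rw [h, mem_bot, mul_inv_eq_one] at hx
        exact mul_inv_eq_iff_eq_mul.1 hx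
      · exact congrArg Subtype.val (hBc.is_comm.comm (⟨a, (inf_le_right : A ⊓ B ≤ B) (h.ge ha)⟩ : B) ⟨b, hb⟩)
    obtain ⟨M, hM⟩ : ∃ M, M = A ⊔ B := ⟨_, rfl⟩
    haveI hMn : M.Normal := hM ▸ inferInstance
    have hMP : M ≤ P := hM ▸ sup_le hAP hBP
    have hMc' : M ≤ centralizer (M : Set H) := by
      rw [hM]
      refine sup_le ?_ ?_ <;> rw [le_centralizer_iff] <;> refine sup_le ?_ ?_ <;>
        intro x hx <;> rw [mem_centralizer_iff] <;> intro y hy
      · exact congrArg Subtype.val (hAc.is_comm.comm (⟨y, hy⟩ : A) ⟨x, hx⟩)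
      · exact hAB y hy x hx
      · exact (hAB x hx y hy).symm
      · exact congrArg Subtype.val (hBc.is_comm.comm (⟨y, hy⟩ : B) ⟨x, hx⟩)
    haveI : IsMulCommutative M := ⟨⟨fun x y => Subtype.ext
      (mem_centralizer_iff.1 (hMc' y.2) x x.2)⟩⟩
    have hMτ : M.map τ.toMonoidHom = M := by rw [hM, Subgroup.map_sup, hBA, ← hB, sup_comm]
    have hMτ' : ∀ x ∈ M, τ x ∈ M := fun x hx => hMτ.le ⟨x, hx, rfl⟩
    have hquad := quadratic_of_inverted hodd M τ hτ hMτ' hβ fun x hx => hfix x (hMP hx)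
    have hexp : ∀ N : Subgroup H, N.Normal → N ≠ ⊥ → N ≤ P →
        (∀ K : Subgroup H, K.Normal → K ≤ N → K = ⊥ ∨ K = N) → ∀ m ∈ N, m ^ p = 1 := by
      intro N hN hN1 hNP hNmin
      have := hN
      haveI := CfsgLib.Solvable.isMulCommutative_of_minimal_normal hN1 hNmin
      obtain ⟨q, hq, hNq⟩ := CfsgLib.Solvable.exists_prime_pow_eq_one_of_minimal_normal hN1 hNmin
      obtain ⟨m, hm⟩ := Subgroup.ne_bot_iff_exists_ne_one.mp hN1
      have h1 : orderOf (m : H) = q := by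
        have := Fact.mk hq
        exact orderOf_eq_prime (hNq m m.2) fun h => hm (Subtype.ext h)
      obtain ⟨k, hk⟩ := IsPGroup.iff_card.mp hP
      have h2 := Subgroup.orderOf_dvd_natCard P (hNP m.2)
      rw [h1, hk] at h2
      rwa [← (Nat.prime_dvd_prime_iff_eq hq hp.out).mp (hq.dvd_of_dvd_pow h2)]
    have hβM : β ∈ centralizer (M : Set H) := by
      have h1 := CfsgLib.OddLocal.quadratic_mem_centralizer_of_minimal hodd A (hexp A hAn hA1 hAP hAmin)
        hA1 hAmin (a := β) fun m hm => hquad m (hM ▸ mem_sup_left hm)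
      have h2 := CfsgLib.OddLocal.quadratic_mem_centralizer_of_minimal hodd B (hexp B hBn hB1 hBP hBmin)
        hB1 hBmin (a := β) fun m hm => hquad m (hM ▸ mem_sup_right hm)
      rw [← zpowers_le, le_centralizer_iff, hM] at *
      exact sup_le h1 h2
    set f := QuotientGroup.mk' M
    have hlt : Nat.card (P.map f) < Nat.card P := by
      have h1 := CfsgLib.Solvable.card_map_mk'_eq M hMP
      have hM1 : M ≠ ⊥ := fun e => hA1 (le_bot_iff.1 (e ▸ hM ▸ le_sup_left))
      have h2 : 1 < Nat.card M := (Subgroup.one_lt_card_iff_ne_bot M).mpr hM1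
      have h3 : 0 < Nat.card (P.map f) := Nat.card_pos
      calc Nat.card (P.map f) = Nat.card (P.map f) * 1 := (mul_one _).symm
        _ < Nat.card (P.map f) * Nat.card M := Nat.mul_lt_mul_of_pos_left h2 h3
        _ = Nat.card P := h1
    haveI : (P.map f).Normal := Subgroup.Normal.map inferInstance f (QuotientGroup.mk'_surjective M)
    let τ' : MulAut (H ⧸ M) := QuotientGroup.congr M M τ hMτ
    have hτ'f : ∀ x : H, τ' (f x) = f (τ x) := fun x => rfl
    obtain ⟨K₁, hK₁n, hβK₁, hK₁⟩ := ih _ hlt (H := H ⧸ M)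
      (hodd.of_dvd_nat (Subgroup.card_quotient_dvd_card M)) (P.map f) (hP.map f) τ'
      (fun x => by
        obtain ⟨x, rfl⟩ := QuotientGroup.mk'_surjective M x
        rw [hτ'f, hτ'f, hτ])
      (by rintro _ ⟨x, hx, rfl⟩; exact ⟨τ x, hPτ x hx, (hτ'f x).symm⟩)
      (β := f β) (by rw [hτ'f, hβ, map_inv]) (by
        rintro _ ⟨x, hx, rfl⟩ hfx
        obtain ⟨μ, hμ⟩ : ∃ μ, μ = x⁻¹ * τ x := ⟨_, rfl⟩
        have hμM : μ ∈ M := by
          rw [hμ, ← QuotientGroup.eq_one_iff]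
          show f (x⁻¹ * τ x) = 1
          rw [map_mul, map_inv, ← hτ'f, hfx, inv_mul_cancel]
        have hτμ : τ μ = μ⁻¹ := by rw [hμ, map_mul, map_inv, hτ]; group
        obtain ⟨n, hn⟩ : Odd (orderOf μ) := hodd.of_dvd_nat (orderOf_dvd_natCard μ)
        obtain ⟨ν, hν⟩ : ∃ ν, ν = μ ^ (n + 1) := ⟨_, rfl⟩
        have hνν : ν * ν = μ := by
          rw [hν, ← pow_add, show n + 1 + (n + 1) = orderOf μ + 1 by omega, pow_succ,
            pow_orderOf_eq_one, one_mul]
        have hνM : ν ∈ M := hν ▸ pow_mem hμM _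
        have hy : τ (x * ν) = x * ν := by
          rw [map_mul, show τ x = x * μ by rw [hμ]; group, hν, map_pow, hτμ, inv_pow, ← hν, ← hνν]
          group
        have h := congrArg f (hfix (x * ν) (mul_mem hx (hMP hνM)) hy)
        simp only [map_mul, show f ν = 1 from (QuotientGroup.eq_one_iff ν).2 hνM, mul_one] at h
        exact h) rfl
    refine ⟨K₁.comap f ⊓ Subgroup.centralizer (M : Set H), Subgroup.normal_inf_normal _ _,
      ⟨hβK₁, hβM⟩, fun g hg hord => ?_⟩
    have hgP : f g ∈ Subgroup.centralizer (P.map f : Set (H ⧸ M)) :=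
      hK₁ _ hg.1 (hord.coprime_dvd_left (orderOf_map_dvd f g))
    rw [Subgroup.mem_centralizer_iff]
    intro x hx
    have hz : g * x * g⁻¹ * x⁻¹ ∈ M := by
      rw [← QuotientGroup.eq_one_iff]
      show f (g * x * g⁻¹ * x⁻¹) = 1
      rw [map_mul, map_mul, map_mul, map_inv, map_inv,
        ← Subgroup.mem_centralizer_iff.mp hgP _ ⟨x, hx, rfl⟩]
      group
    have := CfsgLib.OddLocal.conj_eq_of_stabilizes M g x hz
      (mul_inv_eq_iff_eq_mul.mpr (Subgroup.mem_centralizer_iff.mp hg.2 _ hz).symm) (by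
        obtain ⟨k, hk⟩ := IsPGroup.iff_card.mp (hP.to_le hMP)
        rw [hk]; exact hord.pow_right k)
    exact (mul_inv_eq_iff_eq_mul.mp this).symm

/-- An element of prime power order of the Fitting subgroup lies in the `p`-core. -/
theorem mem_pCore_of_mem_fitting {H : Type*} [Group H] [Finite H] {p : ℕ} [Fact p.Prime] {x : H}
    (hx : x ∈ Cfsg.fittingSubgroup H) {k : ℕ} (hk : orderOf x = p ^ k) : x ∈ Cfsg.pCore p H := by
  haveI : Group.IsNilpotent (Cfsg.fittingSubgroup H) := CfsgLib.Solvable.fittingSubgroup_isNilpotent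
  refine CfsgLib.Comp.le_pCore_of_isSubnormal (Subgroup.IsSubnormal.trans (zpowers_le.2 hx)
    (CfsgLib.Solvable.isSubnormal_of_isNilpotent _)
    (CfsgLib.Solvable.fittingSubgroup_normal H).isSubnormal) ?_ (mem_zpowers x)
  exact IsPGroup.of_card (by rw [Nat.card_zpowers, hk])

/-- In a group of odd order, an element inverted by an involutory automorphism and centralising
its fixed points on the Fitting subgroup lies in the Fitting subgroup. -/
theorem mem_fitting_of_inverted {H : Type u} [Group H] [Finite H] (hodd : Odd (Nat.card H))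
    (τ : MulAut H) (hτ : ∀ x, τ (τ x) = x) {β : H} (hβ : τ β = β⁻¹)
    (hfix : ∀ x ∈ Cfsg.fittingSubgroup H, τ x = x → β * x = x * β) :
    β ∈ Cfsg.fittingSubgroup H := by
  haveI : Group.IsSolvable H := CfsgLib.FT.odd_order_solvable hodd
  -- reduce to elements of prime power order
  have key : ∀ (p : ℕ) [Fact p.Prime] (γ : H) (k : ℕ), orderOf γ = p ^ k → τ γ = γ⁻¹ →
      (∀ x ∈ Cfsg.fittingSubgroup H, τ x = x → γ * x = x * γ) → γ ∈ Cfsg.fittingSubgroup H := by
    intro p _ γ k hk hγ hγfix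
    have hex : ∀ r : Nat.Primes, ∃ K : Subgroup H, K.Normal ∧ γ ∈ K ∧
        ∀ g ∈ K, (orderOf g).Coprime (r : ℕ) → g ∈ centralizer (Cfsg.pCore (r : ℕ) H : Set H) := by
      intro r
      haveI := Fact.mk r.2
      haveI := CfsgLib.Solvable.pCore_normal (r : ℕ) H
      refine exists_normal_of_inverted hodd _ (CfsgLib.Solvable.pCore_isPGroup _) τ hτ ?_ hγ
        fun x hx => hγfix x (CfsgLib.Solvable.pCore_le_fittingSubgroup (r : ℕ) hx)
      intro x hx
      exact (Subgroup.characteristic_iff_map_le.1 (CfsgLib.Solvable.pCore_characteristic (r : ℕ) H) τ) ⟨x, hx, rfl⟩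
    obtain ⟨K, hKn, hγK, hK⟩ := hex ⟨p, Fact.out⟩
    haveI := hKn
    haveI : ∀ r : {r : Nat.Primes // (r : ℕ) ≠ p},
        (centralizer (Cfsg.pCore ((r : Nat.Primes) : ℕ) H : Set H)).Normal := fun r => by
      haveI := CfsgLib.Solvable.pCore_normal ((r : Nat.Primes) : ℕ) H
      infer_instance
    obtain ⟨L, hL⟩ : ∃ L, L = K ⊓ ⨅ r : {r : Nat.Primes // (r : ℕ) ≠ p},
        centralizer (Cfsg.pCore ((r : Nat.Primes) : ℕ) H : Set H) := ⟨_, rfl⟩
    haveI : (⨅ r : {r : Nat.Primes // (r : ℕ) ≠ p},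
        centralizer (Cfsg.pCore ((r : Nat.Primes) : ℕ) H : Set H)).Normal :=
      Subgroup.normal_iInf_normal fun r => inferInstance
    haveI hLn : L.Normal := hL ▸ Subgroup.normal_inf_normal _ _
    have hγL : γ ∈ L := by
      rw [hL]
      refine ⟨hγK, mem_iInf.2 fun r => ?_⟩
      obtain ⟨Kr, -, hγr, hKr⟩ := hex r.1
      exact hKr γ hγr (hk ▸ ((Nat.coprime_primes Fact.out r.1.2).2 (Ne.symm r.2)).pow_left k)
    -- a Sylow subgroup of `L` is normal
    obtain ⟨S⟩ : Nonempty (Sylow p L) := inferInstance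
    have hq : ∀ q : ℕ, q.Prime → q ≠ p → ∀ g ∈ L, ∀ j, orderOf g = q ^ j →
        ∀ s ∈ (S : Subgroup L), (s : H) * g = g * s := by
      intro q hq hqp g hg j hj s hs
      haveI := Fact.mk hq
      rw [hL] at hg
      have hgp := hK g hg.1 (hj ▸ ((Nat.coprime_primes hq Fact.out).2 hqp).pow_left j)
      have hgF : g ∈ centralizer (Cfsg.fittingSubgroup H : Set H) := by
        rw [← zpowers_le, le_centralizer_iff, CfsgLib.Solvable.fittingSubgroup_eq_iSup_pCore]
        refine iSup_le fun r => ?_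
        rw [le_centralizer_iff, zpowers_le]
        by_cases hr : (r : ℕ) = p
        · rw [hr]; exact hgp
        · exact mem_iInf.1 hg.2 ⟨r, hr⟩
      have hgq := mem_pCore_of_mem_fitting (CfsgLib.Solvable.centralizer_fittingSubgroup_le hgF) hj
      have hsL : (s : H) ∈ K ⊓ ⨅ r : {r : Nat.Primes // (r : ℕ) ≠ p},
          centralizer (Cfsg.pCore ((r : Nat.Primes) : ℕ) H : Set H) := hL.le s.2
      have hs' : (s : H) ∈ centralizer (Cfsg.pCore q H : Set H) :=
        mem_iInf.1 hsL.2 ⟨⟨q, hq⟩, hqp⟩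
      exact (mem_centralizer_iff.1 hs' g hgq).symm
    have hSn : normalizer ((S : Subgroup L) : Set L) = ⊤ := by
      refine CfsgLib.Solvable.eq_top_of_forall_prime fun q hq' hd => ?_
      haveI := Fact.mk hq'
      by_cases hqp : q = p
      · subst hqp
        exact S.not_dvd_index (hd.trans (Subgroup.index_dvd_of_le le_normalizer))
      · obtain ⟨Q⟩ : Nonempty (Sylow q L) := inferInstance
        refine Q.not_dvd_index (hd.trans (Subgroup.index_dvd_of_le fun g hg => ?_))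
        obtain ⟨j, hj⟩ := IsPGroup.iff_orderOf.1 Q.2 ⟨g, hg⟩
        have hj' : orderOf (g : H) = q ^ j := by
          rw [Subgroup.orderOf_coe, ← hj]
          exact (Subgroup.orderOf_coe (⟨g, hg⟩ : (Q : Subgroup L)))
        refine (Subgroup.centralizer_le_normalizer _) (mem_centralizer_iff.2 fun s hs => ?_)
        exact Subtype.ext (hq q hq' hqp g g.2 j hj' s hs)
    haveI : ((S : Subgroup L)).Normal := normalizer_eq_top_iff.1 hSn
    haveI := S.characteristic_of_normal inferInstance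
    have hSH : ((S : Subgroup L).map L.subtype).Normal := ConjAct.normal_of_characteristic_of_normal
    refine CfsgLib.Solvable.pCore_le_fittingSubgroup p
      (CfsgLib.Solvable.le_pCore hSH (S.2.map _) ⟨⟨γ, hγL⟩, ?_, rfl⟩)
    have hzp : IsPGroup p (zpowers (⟨γ, hγL⟩ : L)) :=
      IsPGroup.of_card (by rw [Nat.card_zpowers, ← Subgroup.orderOf_coe, hk])
    exact (S.3 (hzp.to_sup_of_normal_right S.2) le_sup_right).le (mem_sup_left (mem_zpowers _))
  by_contra hne
  have hcomp : (zpowers β) ⊓ Cfsg.fittingSubgroup H ≠ zpowers β := fun e =>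
    hne (inf_eq_left.1 e (mem_zpowers β))
  apply hcomp
  refine inf_eq_left.2 ?_
  have htop : (Cfsg.fittingSubgroup H).subgroupOf (zpowers β) = ⊤ := by
    refine CfsgLib.Solvable.eq_top_of_forall_prime fun p hp hd => ?_
    haveI := Fact.mk hp
    obtain ⟨Q⟩ : Nonempty (Sylow p (zpowers β)) := inferInstance
    refine Q.not_dvd_index (hd.trans (Subgroup.index_dvd_of_le fun g hg => ?_))
    rw [mem_subgroupOf]
    obtain ⟨j, hj⟩ := IsPGroup.iff_orderOf.1 Q.2 ⟨g, hg⟩
    obtain ⟨i, hi⟩ := mem_zpowers_iff.1 g.2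
    refine key p (g : H) j ?_ ?_ fun x hx hfx => ?_
    · rw [Subgroup.orderOf_coe, ← hj]
      exact (Subgroup.orderOf_coe (⟨g, hg⟩ : (Q : Subgroup (zpowers β))))
    · rw [← hi, map_zpow, hβ, inv_zpow]
    · rw [← hi]
      exact ((show Commute β x from hfix x hx hfx).zpow_left i).eq
  exact subgroupOf_eq_top.1 htop

/-- The same for a subgroup normalised by an involution `t` of a group `G`. -/
theorem mem_fitting_of_conj_inv {G : Type u} [Group G] [Finite G] {R : Subgroup G}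
    (hodd : Odd (Nat.card R)) {t β : G} (ht : t * t = 1) (htR : t ∈ normalizer (R : Set G))
    (hβR : β ∈ R) (hinv : t * β * t⁻¹ = β⁻¹)
    (hfix : ∀ x ∈ (Cfsg.fittingSubgroup R).map R.subtype, t * x = x * t → β * x = x * β) :
    β ∈ (Cfsg.fittingSubgroup R).map R.subtype := by
  obtain ⟨τ, hτ⟩ : ∃ τ : MulAut R, ∀ x : R, (τ x : G) = t * x * t⁻¹ :=
    ⟨normalizerMonoidHom R ⟨t, htR⟩, fun x => rfl⟩
  have ht' : t⁻¹ = t := inv_eq_of_mul_eq_one_left ht
  have h2 : ∀ x, τ (τ x) = x := fun x => Subtype.ext (by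
    rw [hτ, hτ, ht']
    calc t * (t * x * t) * t = (t * t) * x * (t * t) := by group
      _ = x := by rw [ht, one_mul, mul_one])
  refine ⟨⟨β, hβR⟩, mem_fitting_of_inverted hodd τ h2 (Subtype.ext (by rw [hτ]; exact hinv))
    fun x hx hfx => Subtype.ext (hfix x ⟨x, hx, rfl⟩ ?_), rfl⟩
  have h := congrArg Subtype.val hfx
  rw [hτ] at h
  exact mul_inv_eq_iff_eq_mul.1 h

end CfsgLib.GW
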