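import Cfsg.Agent.Lib.GW.Basic
import Cfsg.Agent.Lib.GW.Quadratic
import Cfsg.Agent.Lib.Comp.BenderPair
import Cfsg.Agent.S1312
import Cfsg.Agent.Lib.Recog.GenDihedral.Pair

/-!
A maximal subgroup without components over the normalizer of a subgroup of `F(O(C(a)))` centralised
by `b` is `C(a)`.
-/

set_option autoImplicit false
set_option linter.style.haveILetI false
set_option linter.unusedSectionVars false

namespace CfsgLib.GW

open Subgroup CfsgLib.Invol CfsgLib.Comp

universe u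

variable {G : Type u} [Group G] [Finite G]

/-- The centralizer of an involution is solvable. -/
theorem Min.isSolvable_cI (M : Min G) {a : G} (ha : orderOf a = 2) : Group.IsSolvable (cI a) := by
  obtain ⟨T⟩ := (inferInstance : Nonempty (Sylow 2 G))
  obtain ⟨D⟩ := M.dih T
  obtain ⟨e⟩ := dihEquiv D
  obtain ⟨N, hN, hNo, k, hk⟩ :=
    Cfsg.Agent.S0514.result T (2 * D.h) (by have := D.h_pos; omega) ⟨e⟩ a ha
  haveI := hN
  haveI : Group.IsSolvable N := CfsgLib.FT.odd_order_solvable hNo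
  haveI : Fact (Nat.Prime 2) := ⟨Nat.prime_two⟩
  haveI : Group.IsNilpotent (cI a ⧸ N) :=
    (IsPGroup.of_card (p := 2) (n := k) (by rw [← Subgroup.index_eq_card, hk])).isNilpotent
  haveI : Group.IsSolvable (cI a ⧸ N) := inferInstance
  exact Group.isSolvable_of_ker_le_range N.subtype (QuotientGroup.mk' N)
    (by rw [QuotientGroup.ker_mk', range_subtype])

theorem Min.layer_cI (M : Min G) {a : G} (ha : orderOf a = 2) : Cfsg.layer ↥(cI a) = ⊥ := by
  haveI := M.isSolvable_cI ha
  exact (centralizer_fitting_le_iff _).1 CfsgLib.Solvable.centralizer_fittingSubgroup_le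

theorem fitC_le_fitting_cI (a : G) :
    fitC a ≤ (Cfsg.fittingSubgroup ↥(cI a)).map (cI a).subtype := by
  rw [← map_subgroupOf_eq_of_le (fitC_le_cI a)]
  refine map_mono (CfsgLib.Solvable.le_fittingSubgroup ?_ ?_)
  · exact normal_subgroupOf_of_le_normalizer (cI_le_normalizer_fitC a)
  · haveI : Group.IsNilpotent (Cfsg.fittingSubgroup ↥(coreC a)) :=
      CfsgLib.Solvable.fittingSubgroup_isNilpotent
    exact Group.nilpotent_of_mulEquiv ((Cfsg.fittingSubgroup ↥(coreC a)).equivMapOfInjective _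
      (coreC a).subtype_injective |>.trans (subgroupOfEquivOfLe (fitC_le_cI a)).symm)

theorem mem_fitting_cI_self (a : G) : a ∈ (Cfsg.fittingSubgroup ↥(cI a)).map (cI a).subtype := by
  refine ⟨⟨a, self_mem_cI a⟩, ?_, rfl⟩
  have hn : (zpowers (⟨a, self_mem_cI a⟩ : cI a)).Normal := by
    refine ⟨fun x hx y => ?_⟩
    have hle : zpowers (⟨a, self_mem_cI a⟩ : cI a) ≤ center (cI a) := zpowers_le.2
      (mem_center_iff.2 fun z => Subtype.ext (mem_cI.1 z.2))
    rw [mem_center_iff.1 (hle hx) y, mul_inv_cancel_right]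
    exact hx
  exact CfsgLib.Solvable.le_fittingSubgroup_of_isMulCommutative hn inferInstance (mem_zpowers _)

theorem card_fitC_conj (a x : G) : Nat.card (fitC (x * a * x⁻¹)) = Nat.card (fitC a) := by
  rw [← fitC_conj, card_map_of_injective (MulEquiv.injective _)]

/-- The primes of `fitC a` occur in `F(C(a))`. -/
theorem dvd_fitting_cI {a : G} {q : ℕ} (h : q ∣ Nat.card (fitC a)) :
    q ∣ Nat.card (Cfsg.fittingSubgroup ↥(cI a)) := by
  refine h.trans ?_
  have := Subgroup.card_dvd_of_le (fitC_le_fitting_cI a)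
  rwa [card_map_of_injective (subtype_injective _)] at this

/-- The key step: an `a`-inverted part `E` of `N` avoiding the primes of `fitC a` has no fixed
point for an involution `c` whose core meets `C(a)` inside `N`. -/
theorem eq_bot_of_cent (M : Min G) {a c : G} (ha : orderOf a = 2) (hc : orderOf c = 2)
    (hac : a * c = c * a) (hcard : Nat.card (fitC c) = Nat.card (fitC a)) {N : Subgroup G}
    (hN : ∀ x ∈ coreC c, x ∈ cI a → x ∈ N) {q : ℕ} [Fact q.Prime]
    (hq : ¬ q ∣ Nat.card (fitC a)) (hq2 : q ≠ 2) {E : Subgroup G} (hE : IsPGroup q E)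
    (hEn : N ≤ normalizer (E : Set G)) (hinv : ∀ e ∈ E, a * e * a⁻¹ = e⁻¹) {e : G} (he : e ∈ E)
    (hec : e ∈ cI c) : e = 1 := by
  have hdisj : E ⊓ fitC c = ⊥ := by
    refine Subgroup.inf_eq_bot_of_coprime ?_
    obtain ⟨k, hk⟩ := IsPGroup.iff_card.1 hE
    rw [hk, hcard]
    exact ((Fact.out : q.Prime).coprime_iff_not_dvd.2 hq).pow_left k
  have hodd : Odd (orderOf e) := by
    obtain ⟨k, hk⟩ := IsPGroup.iff_card.1 hE
    exact Odd.of_dvd_nat ((Fact.out : q.Prime).odd_of_ne_two hq2).pow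
      (hk ▸ Subgroup.orderOf_dvd_natCard E he)
  have heR : e ∈ coreC c := M.mem_coreC hc hec hodd
  have haR : a ∈ normalizer (coreC c : Set G) := cI_le_normalizer_coreC c (mem_cI.2 hac)
  have h1 := mem_fitting_of_conj_inv (odd_coreC c) (invol_mul_self ha) haR heR (hinv e he) ?_
  · have : e ∈ E ⊓ fitC c := ⟨he, h1⟩
    rwa [hdisj, mem_bot] at this
  · intro x hx hxa
    have hxN : x ∈ N := hN x (fitC_le_coreC c hx) (mem_cI.2 hxa.symm)
    have h2 : x * e * x⁻¹ * e⁻¹ ∈ E ⊓ fitC c := by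
      refine mem_inf.2 ⟨mul_mem ((mem_normalizer_iff.1 (hEn hxN) e).1 he) (inv_mem he), ?_⟩
      rw [show x * e * x⁻¹ * e⁻¹ = x * (e * x⁻¹ * e⁻¹) by group]
      exact mul_mem hx (conj_mem_fitC hec (inv_mem hx))
    rw [hdisj, mem_bot, mul_inv_eq_one] at h2
    exact (mul_inv_eq_iff_eq_mul.1 h2).symm

/-- C: a maximal subgroup without components over `N(Q)` is `C(a)`. -/
theorem noLayer : NoLayerStmt.{u} := by
  intro G _ _ M hmax a b g h Q N hQ hQle hW hN hNQ hlayer
  classical
  haveI := M.simple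
  have hQF : Q ≤ fitC a := hQle.trans inf_le_left
  have hQb : Q ≤ cI b := hQle.trans inf_le_right
  have hcent : ∀ c : G, Q ≤ cI c → c ∈ N := fun c hc => hNQ
    (Subgroup.centralizer_le_normalizer _ (mem_centralizer_iff.2 fun y hy => mem_cI.1 (hc hy)))
  have haN : a ∈ N := hcent a (hQF.trans (fitC_le_cI a))
  have hbN : b ∈ N := hcent b hQb
  have hH : IsCoatom (cI a) := hmax a h.ha
  haveI : Fact (Nat.Prime 2) := ⟨Nat.prime_two⟩
  -- two primes in `F(C(a))`
  have h2H : 2 ∣ Nat.card (Cfsg.fittingSubgroup ↥(cI a)) := by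
    have := Subgroup.orderOf_dvd_natCard _ (mem_fitting_cI_self a)
    rwa [h.ha, card_map_of_injective (subtype_injective _)] at this
  obtain ⟨r, hr, hrd⟩ := Nat.exists_prime_and_dvd (fun e => hQ (Subgroup.card_eq_one.1 e) : Nat.card Q ≠ 1)
  have hrF : r ∣ Nat.card (fitC a) := hrd.trans (Subgroup.card_dvd_of_le hQF)
  have hr2 : r ≠ 2 := fun e => by
    have := (odd_coreC a).of_dvd_nat (hrF.trans (Subgroup.card_dvd_of_le (fitC_le_coreC a)))
    rw [e] at this
    exact absurd this (by decide)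
  have hrH := dvd_fitting_cI hrF
  have hlead : Cfsg.leadsTo (cI a) N :=
    ⟨Q, hQ, hQF.trans (fitC_le_fitting_cI a), inf_le_right.trans hNQ⟩
  -- the radicals of `N` lie in `C(a)`
  have hrad : ∀ q : Nat.Primes, radP (q : ℕ) N ≤ cI a := by
    intro q
    haveI := Fact.mk q.2
    by_cases hd : (q : ℕ) ∣ Nat.card (Cfsg.fittingSubgroup ↥(cI a))
    · by_cases e : (q : ℕ) = 2
      · exact leadsTo_radP_le hH hlead q.2 hr (by omega) hd hrH
      · exact leadsTo_radP_le hH hlead q.2 Nat.prime_two (Ne.symm e) hd h2H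
    · have hbot := leadsTo_radP_inf hlead q.2 hd
      have hq2 : (q : ℕ) ≠ 2 := fun e => hd (e ▸ h2H)
      obtain ⟨E, hEdef⟩ : ∃ E, E = radP (q : ℕ) N := ⟨_, rfl⟩
      rw [← hEdef] at hbot ⊢
      have hE : IsPGroup (q : ℕ) E := hEdef ▸ isPGroup_radP _ N
      have hEn : N ≤ normalizer (E : Set G) := hEdef ▸ le_normalizer_radP _ N
      have hEodd : Odd (Nat.card E) := by
        obtain ⟨k, hk⟩ := IsPGroup.iff_card.1 hE
        rw [hk]; exact (q.2.odd_of_ne_two hq2).pow
      -- `a` inverts `E`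
      have hinv : ∀ e ∈ E, a * e * a⁻¹ = e⁻¹ := fun e he =>
        CfsgLib.Recog.GenDih.inv_of_fpf h.ha
          (fun x hx => (mem_normalizer_iff.1 (hEn haN) x).1 hx)
          (fun x hx hxa => mem_bot.1 (hbot ▸ mem_inf.2 ⟨hx, mem_cI.2 hxa.eq⟩)) he
      have hqa : ¬ (q : ℕ) ∣ Nat.card (fitC a) := fun h' => hd (dvd_fitting_cI h')
      have hkill : ∀ c : G, orderOf c = 2 → a * c = c * a →
          Nat.card (fitC c) = Nat.card (fitC a) → (∀ x ∈ coreC c, x ∈ cI a → x ∈ N) →
          ∀ e ∈ E, e ∈ cI c → e = 1 := fun c hc hac hcard hcN e he hec =>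
        eq_bot_of_cent M h.ha hc hac hcard hcN hqa hq2 hE hEn hinv he hec
      have hfb : Nat.card (fitC b) = Nat.card (fitC a) := by rw [← h.ga, card_fitC_conj]
      have hfab : Nat.card (fitC (a * b)) = Nat.card (fitC a) := by
        rw [← h.gb, card_fitC_conj, hfb]
      have hb1 := hkill b h.hb h.comm hfb fun x hx hxa =>
        hNQ (hW ⟨M.mem_coreC h.ha hxa (odd_orderOf_mem_coreC hx), hx⟩)
      have habc : a * (a * b) = a * b * a := by rw [mul_assoc a b a, ← h.comm]
      have hab1 := hkill (a * b) h.rot.hb habc hfab fun x hx hxa => by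
        have hxb : x ∈ cI b := by
          refine mem_cI.2 ?_
          have e1 : x * (a * b) = a * b * x := mem_cI.1 (coreC_le_cI _ hx)
          have e2 : x * a = a * x := mem_cI.1 hxa
          calc x * b = a⁻¹ * (x * a) * b := by rw [e2]; group
            _ = a⁻¹ * (x * (a * b)) := by group
            _ = b * x := by rw [e1]; group
        have hodd := odd_orderOf_mem_coreC hx
        exact hNQ (hW ⟨M.mem_coreC h.ha hxa hodd, M.mem_coreC h.hb hxb hodd⟩)
      intro x hx
      have hxb : b * x * b⁻¹ ∈ E := (mem_normalizer_iff.1 (hEn hbN) x).1 hx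
      have hcomm : ∀ y ∈ E, x * y = y * x := fun y hy => by
        have e0 := hinv _ (mul_mem hx hy)
        have e1 : a * (x * y) * a⁻¹ = x⁻¹ * y⁻¹ := by
          rw [← hinv x hx, ← hinv y hy]; group
        rw [e1, mul_inv_rev] at e0
        have := congrArg (·⁻¹) e0
        simpa using this.symm
      have hbb : b⁻¹ = b := invol_inv h.hb
      have hbbx : b * (b * x * b⁻¹) * b⁻¹ = x := by
        rw [hbb]
        calc b * (b * x * b) * b = (b * b) * x * (b * b) := by group
          _ = x := by rw [invol_mul_self h.hb, one_mul, mul_one]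
      have h1 : x * (b * x * b⁻¹) = 1 := by
        refine hb1 _ (mul_mem hx hxb) (mem_cI.2 ?_)
        have e : b * (x * (b * x * b⁻¹)) * b⁻¹ = x * (b * x * b⁻¹) := by
          calc b * (x * (b * x * b⁻¹)) * b⁻¹ = b * x * b⁻¹ * (b * (b * x * b⁻¹) * b⁻¹) := by group
            _ = b * x * b⁻¹ * x := by rw [hbbx]
            _ = _ := (hcomm _ hxb).symm
        exact (mul_inv_eq_iff_eq_mul.1 e).symm
      have h2 : x * (b * x * b⁻¹)⁻¹ = 1 := by
        refine hab1 _ (mul_mem hx (inv_mem hxb)) (mem_cI.2 ?_)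
        obtain ⟨y, hy⟩ : ∃ y, y = x * (b * x * b⁻¹)⁻¹ := ⟨_, rfl⟩
        have hyE : y ∈ E := hy ▸ mul_mem hx (inv_mem hxb)
        have e : b * y * b⁻¹ = y⁻¹ := by
          calc b * y * b⁻¹ = b * x * b⁻¹ * (b * (b * x * b⁻¹) * b⁻¹)⁻¹ := by rw [hy]; group
            _ = b * x * b⁻¹ * x⁻¹ := by rw [hbbx]
            _ = y⁻¹ := by rw [hy]; group
        rw [← hy]
        refine (mul_inv_eq_iff_eq_mul.1 ?_).symm
        calc a * b * y * (a * b)⁻¹ = a * (b * y * b⁻¹) * a⁻¹ := by group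
          _ = y := by rw [e, hinv _ (inv_mem hyE), inv_inv]
      have hxx : x * x = 1 := by
        rw [mul_inv_eq_one] at h2
        rwa [← h2] at h1
      have hx1 : x = 1 := eq_one_of_sq_of_odd hxx (hEodd.of_dvd_nat (Subgroup.orderOf_dvd_natCard E hx))
      rw [hx1]; exact one_mem _
  -- `N` leads back to `C(a)`
  have gN : Cfsg.generalizedFittingSubgroup N = Cfsg.fittingSubgroup N := by
    rw [Cfsg.generalizedFittingSubgroup, hlayer, bot_sup_eq]
  have hFle : (Cfsg.fittingSubgroup N).map N.subtype ≤ cI a :=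
    (fitting_map_eq N).le.trans (iSup_le hrad)
  have hFne : (Cfsg.fittingSubgroup N).map N.subtype ≠ ⊥ := fun e => by
    have e' := (map_eq_bot_iff_of_injective _ N.subtype_injective).1 e
    have hc := (centralizer_fitting_le_iff N).2 hlayer
    rw [e'] at hc
    have : (⟨a, haN⟩ : N) ∈ (⊥ : Subgroup N) := hc (mem_centralizer_iff.2 fun y hy => by
      rw [mem_bot.1 hy, one_mul, mul_one])
    exact invol_ne_one h.ha (congrArg Subtype.val (mem_bot.1 this))
  have hlead' : Cfsg.leadsTo N (cI a) :=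
    ⟨_, hFne, le_rfl, (inf_le_left.trans (le_of_eq (by rw [gN]))).trans hFle⟩
  have h2N := dvd_of_leadsTo_symm hlead hlead' Nat.prime_two h2H
  have hrN := dvd_of_leadsTo_symm hlead hlead' hr hrH
  have hHle : ∀ q : Nat.Primes, radP (q : ℕ) (cI a) ≤ N := fun q => by
    haveI := Fact.mk q.2
    by_cases hb : radP (q : ℕ) (cI a) = ⊥
    · rw [hb]; exact bot_le
    have hd : (q : ℕ) ∣ Nat.card (Cfsg.fittingSubgroup N) := by
      refine dvd_of_leadsTo_symm hlead hlead' q.2 (dvd_trans ?_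
        (card_dvd_of_le (CfsgLib.Solvable.pCore_le_fittingSubgroup (q : ℕ))))
      haveI := (nontrivial_iff_ne_bot _).2 (fun e => hb (by rw [radP, e, Subgroup.map_bot]) :
        Cfsg.pCore (q : ℕ) ↥(cI a) ≠ ⊥)
      exact (isPGroup_pCore (q : ℕ) ↥(cI a)).card_eq_or_dvd.resolve_left Finite.one_lt_card.ne'
    by_cases e : (q : ℕ) = 2
    · exact leadsTo_radP_le hN hlead' q.2 hr (by omega) hd hrN
    · exact leadsTo_radP_le hN hlead' q.2 Nat.prime_two (Ne.symm e) hd h2N
  have gH : Cfsg.generalizedFittingSubgroup ↥(cI a) = Cfsg.fittingSubgroup ↥(cI a) := by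
    rw [Cfsg.generalizedFittingSubgroup, M.layer_cI h.ha, bot_sup_eq]
  by_contra hne
  obtain ⟨p, hp, hpH, -⟩ := Cfsg.Agent.S1312.result M.noncomm (cI a) N hH hN (Ne.symm hne)
    (by rw [gH, fitting_map_eq]; exact iSup_le hHle) (by rw [gN]; exact hFle)
  rw [gH] at hpH
  haveI := Fact.mk hp
  obtain ⟨k, hk⟩ := (IsPGroup.iff_card (p := p)).1 hpH
  rw [hk] at h2H hrH
  have e2 := (Nat.prime_dvd_prime_iff_eq Nat.prime_two hp).1 (Nat.prime_two.dvd_of_dvd_pow h2H)
  have er := (Nat.prime_dvd_prime_iff_eq hr hp).1 (hr.dvd_of_dvd_pow hrH)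
  exact hr2 (er.trans e2.symm)

end CfsgLib.GW
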