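import Cfsg.Agent.Lib.GW.Basic
import Cfsg.Agent.Lib.Coprime.Action

/-!
The centralizers of involutions are maximal, the normalizer lemma, and the scalar action of the
four-groups on the Fitting subgroup of `O(C(a))`.
-/

set_option autoImplicit false
set_option linter.unusedSectionVars false
set_option linter.style.haveILetI false

namespace CfsgLib.GW

open Subgroup CfsgLib.Invol

universe u

/-- The centralizers of involutions are maximal. -/
theorem maximal_of_cases (h1 : OneClassStmt.{u}) (h2 : TwoClassStmt.{u})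
    (h3 : NilpotentOvergroupStmt.{u}) : MaximalStmt.{u} := by
  intro G _ _ M a ha
  have hne : cI a ≠ ⊤ := M.cI_ne_top (invol_ne_one ha)
  obtain ⟨K, hK, hle⟩ := (eq_top_or_exists_le_coatom (cI a)).resolve_left hne
  by_cases hc : Cfsg.HasNormalPComplement 2 K
  · exact h3 G M a ha K hK hle hc ▸ hK
  · by_cases ho : ∀ x ∈ K, ∀ y ∈ K, orderOf x = 2 → orderOf y = 2 → ∃ k ∈ K, k * x * k⁻¹ = y
    · exact (h1 G M a ha K hK.1 hle ho).elim
    · exact (h2 G M a ha K hK.1 hle hc ho).elim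

/-- The normalizer lemma, from its two halves. -/
theorem normalizer_of_cases (hm : MaximalStmt.{u}) (hC : NoLayerStmt.{u})
    (hD : ComponentStmt.{u}) : NormalizerStmt.{u} := by
  intro G _ _ M a b g h Q hQ hQle hW
  have hQtop : Q ≠ ⊤ := fun e =>
    M.cI_ne_top (invol_ne_one h.ha) (top_le_iff.1 (e ▸ (hQle.trans inf_le_left).trans (fitC_le_cI a)))
  obtain ⟨N, hN, hle⟩ :=
    (eq_top_or_exists_le_coatom (normalizer (Q : Set G))).resolve_left (M.normalizer_ne_top hQ hQtop)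
  have hmax : ∀ x : G, orderOf x = 2 → IsCoatom (cI x) := hm G M
  exact hle.trans_eq (hC G M hmax a b g h Q N hQ hQle hW hN hle
    (hD G M hmax a b g h Q N hQ hQle hW hN hle))

variable {G : Type u} [Group G] [Finite G]

/-- An involution without fixed points on a group of odd order inverts it. -/
theorem inverts_of_inf_eq_bot {P : Subgroup G} {b : G} (hb : orderOf b = 2)
    (hn : ∀ x ∈ P, b * x * b⁻¹ ∈ P) (hfix : P ⊓ cI b = ⊥) :
    ∀ x ∈ P, b * x * b⁻¹ = x⁻¹ := by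
  have hbb : b * b = 1 := invol_mul_self hb
  let f : P → P := fun x =>
    ⟨(x : G)⁻¹ * (b * x * b⁻¹), P.mul_mem (P.inv_mem x.2) (hn x x.2)⟩
  have hf : Function.Injective f := fun x y hxy => by
    have h1 : (x : G)⁻¹ * (b * x * b⁻¹) = (y : G)⁻¹ * (b * y * b⁻¹) := congrArg Subtype.val hxy
    have h2 : (y : G) * (x : G)⁻¹ ∈ P ⊓ cI b := by
      refine ⟨P.mul_mem y.2 (P.inv_mem x.2), mem_cI.2 ?_⟩
      calc (y : G) * (x : G)⁻¹ * b
          = (y : G) * ((x : G)⁻¹ * (b * x * b⁻¹)) * b * (x : G)⁻¹ := by group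
        _ = (y : G) * ((y : G)⁻¹ * (b * y * b⁻¹)) * b * (x : G)⁻¹ := by rw [h1]
        _ = b * ((y : G) * (x : G)⁻¹) := by group
    rw [hfix, mem_bot, mul_inv_eq_one] at h2
    exact Subtype.ext h2.symm
  intro x hx
  obtain ⟨⟨z, hz⟩, hzx⟩ := (Finite.injective_iff_surjective.1 hf) ⟨x, hx⟩
  have e : z⁻¹ * (b * z * b⁻¹) = x := congrArg Subtype.val hzx
  have hb' : b⁻¹ = b := inv_eq_of_mul_eq_one_right hbb
  rw [← e, hb']
  calc b * (z⁻¹ * (b * z * b)) * b = b * z⁻¹ * b * z * (b * b) := by simp only [mul_assoc]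
    _ = b⁻¹ * z⁻¹ * b⁻¹ * z := by rw [hbb, mul_one, hb']
    _ = (z⁻¹ * (b * z * b))⁻¹ := by group

/-- The `A × B` lemma for a `p`-subgroup and an element of order prime to `p` centralising it. -/
theorem axb_subgroup {p : ℕ} [Fact p.Prime] {P A : Subgroup G} (hP : IsPGroup p P) (hA : IsPGroup p A)
    (hAP : A ≤ normalizer (P : Set G)) {v : G} (hv : v ∈ normalizer (P : Set G))
    (hvp : (orderOf v).Coprime p) (hvA : ∀ x ∈ A, Commute x v)
    (hfix : ∀ u ∈ P, (∀ x ∈ A, Commute x u) → Commute v u) : ∀ u ∈ P, Commute v u := by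
  set Q := P ⊓ cI v with hQ
  suffices hle : P ≤ Q from fun u hu => (mem_cI.1 (hle hu).2).symm
  by_contra hnle
  have hL : IsPGroup p (P ⊔ A : Subgroup G) := hP.to_sup_of_normal_left' hA hAP
  have hAQ : A ≤ normalizer (Q : Set G) := fun x hx => mem_normalizer_iff_of_finite fun u hu =>
    ⟨(mem_normalizer_iff.1 (hAP hx) u).1 hu.1, mem_cI.2
      (((hvA x hx).mul_left (mem_cI.1 hu.2)).mul_left (hvA x hx).inv_left).eq⟩
  set R := Q ⊔ A with hR
  have hRP : ∀ e ∈ R, e ∈ P → e ∈ Q := by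
    intro e he heP
    obtain ⟨c, hc, b, hb, rfl⟩ := (CfsgLib.Coprime.mem_sup_of_le_normalizer hAQ).1 he
    refine ⟨heP, ?_⟩
    exact mul_mem hc.2 (mem_cI.2 (hvA b hb).eq)
  have hRL : R ≤ P ⊔ A := sup_le_sup_right inf_le_left _
  have hlt : R.subgroupOf (P ⊔ A) < ⊤ := lt_top_iff_ne_top.2 fun e => hnle fun u hu =>
    hRP u (subgroupOf_eq_top.1 e (mem_sup_left hu)) hu
  have := hL.isNilpotent
  obtain ⟨⟨g, hg⟩, hgN, hgR⟩ :=
    SetLike.exists_of_lt (Group.normalizerCondition_of_isNilpotent _ hlt)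
  obtain ⟨w, hw, b, hb, hgwb⟩ := (CfsgLib.Coprime.mem_sup_of_le_normalizer hAP).1 hg
  have hwR : w ∉ R := fun h => hgR (mem_subgroupOf.2
    (show g ∈ R from hgwb ▸ mul_mem h (mem_sup_right hb)))
  set d := w⁻¹ * (v * w * v⁻¹) with hd
  have hdP : d ∈ P := mul_mem (inv_mem hw) ((mem_normalizer_iff.1 hv w).1 hw)
  have hdx : ∀ x ∈ A, Commute x d := by
    intro x hx
    have hy : b⁻¹ * x⁻¹ * b ∈ R :=
      mem_sup_right (mul_mem (mul_mem (inv_mem hb) (inv_mem hx)) hb)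
    have h1 : g * (b⁻¹ * x⁻¹ * b) * g⁻¹ ∈ R :=
      (mem_normalizer_iff.1 hgN ⟨b⁻¹ * x⁻¹ * b, hRL hy⟩).1 (mem_subgroupOf.2 hy)
    rw [← hgwb, show w * b * (b⁻¹ * x⁻¹ * b) * (w * b)⁻¹ = w * x⁻¹ * w⁻¹ by group] at h1
    set e := x * w * x⁻¹ * w⁻¹ with he
    have heQ : e ∈ Q := hRP e
      (by rw [he, mul_assoc x, mul_assoc x]; exact mul_mem (mem_sup_right hx) h1)
      (mul_mem ((mem_normalizer_iff.1 (hAP hx) w).1 hw) (inv_mem hw))
    have hve : v * e = e * v := (mem_cI.1 heQ.2).symm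
    have hxd : x * d * x⁻¹ = d :=
      calc x * d * x⁻¹ = (x * w * x⁻¹)⁻¹ * ((x * v) * w * (x * v)⁻¹) := by rw [hd]; group
        _ = (x * w * x⁻¹)⁻¹ * (v * (x * w * x⁻¹) * v⁻¹) := by rw [(hvA x hx).eq]; group
        _ = (e * w)⁻¹ * ((v * e) * w * v⁻¹) := by rw [he]; group
        _ = d := by rw [hve, hd]; group
    exact mul_inv_eq_iff_eq_mul.1 hxd
  have hdv := hfix d hdP hdx
  have hpow : ∀ k : ℕ, v ^ k * w * (v ^ k)⁻¹ = w * d ^ k := by
    intro k
    induction k with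
    | zero => simp
    | succ k ih =>
      calc v ^ (k + 1) * w * (v ^ (k + 1))⁻¹ = v * (v ^ k * w * (v ^ k)⁻¹) * v⁻¹ := by
            rw [pow_succ']; group
        _ = (v * w * v⁻¹) * (v * d ^ k * v⁻¹) := by rw [ih]; group
        _ = w * d * d ^ k := by rw [(hdv.pow_right k).eq, mul_inv_cancel_right, hd]; group
        _ = w * d ^ (k + 1) := by rw [pow_succ', mul_assoc]
  obtain ⟨j, hj⟩ := hP ⟨d, hdP⟩
  have hd1 : d = 1 := by
    refine orderOf_eq_one_iff.1 (Nat.eq_one_of_dvd_coprimes (a := orderOf v) (b := p ^ j)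
      (hvp.pow_right j) ?_ (orderOf_dvd_of_pow_eq_one (congrArg Subtype.val hj :)))
    refine orderOf_dvd_of_pow_eq_one ?_
    have := hpow (orderOf v)
    rw [pow_orderOf_eq_one, one_mul, inv_one, mul_one] at this
    exact mul_eq_left.1 this.symm
  refine hwR (mem_sup_left ⟨hw, mem_cI.2 ?_⟩)
  exact (mul_inv_eq_iff_eq_mul.1 (inv_mul_eq_one.1 hd1).symm).symm

/-- The `A × B` step: `b` centralises or inverts each `p`-core. -/
theorem scalar_of_normalizer (hN : NormalizerStmt.{u}) : ScalarStmt.{u} := by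
  intro G _ _ M a b g h p hp
  haveI := Fact.mk hp
  refine or_iff_not_imp_right.2 fun hA => ?_
  set A := fitP a p ⊓ cI b with hAdef
  set c := a * b
  have hW : coreC a ⊓ coreC b ≤ normalizer (A : Set G) := fun w hw =>
    mem_normalizer_iff_of_finite fun x hx =>
      ⟨conj_mem_fitP (coreC_le_cI a hw.1) hx.1,
        (cI b).mul_mem ((cI b).mul_mem (coreC_le_cI b hw.2) hx.2) ((cI b).inv_mem (coreC_le_cI b hw.2))⟩
  have hNA : normalizer (A : Set G) ≤ cI a :=
    hN G M a b g h A hA (le_inf (inf_le_left.trans (fitP_le_fitC a p)) inf_le_right) hW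
  -- `p` is odd
  obtain ⟨x₀, hx₀, hx1⟩ := (bot_or_exists_ne_one A).resolve_left hA
  obtain ⟨k, hk⟩ := (isPGroup_fitP a p) ⟨x₀, hx₀.1⟩
  have hp2 : p ≠ 2 := fun e => by
    subst e
    refine hx1 (orderOf_eq_one_iff.1 (Nat.eq_one_of_dvd_coprimes (a := orderOf x₀) (b := 2 ^ k)
      ((Nat.coprime_two_right.2 (odd_orderOf_mem_coreC (fitP_le_coreC a 2 hx₀.1))).pow_right k)
      dvd_rfl (orderOf_dvd_of_pow_eq_one (congrArg Subtype.val hk :))))
  have hcop : (orderOf a).Coprime p := by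
    rw [h.ha]
    exact (Nat.coprime_primes Nat.prime_two hp).2 (Ne.symm hp2)
  have hac : Commute a b := h.comm
  have hab : a ∈ normalizer (fitP b p : Set G) :=
    cI_le_normalizer_fitP b p (mem_cI.2 h.comm)
  have main : ∀ u ∈ fitP b p, Commute a u :=
    axb_subgroup (isPGroup_fitP b p) ((isPGroup_fitP a p).to_le inf_le_left)
      ((inf_le_right : A ≤ cI b).trans (cI_le_normalizer_fitP b p)) hab hcop
      (fun x hx => mem_cI.1 (fitP_le_cI a p hx.1))
      fun u _ hu => (mem_cI.1 (hNA (mem_normalizer_iff_of_finite fun x hx => by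
        rwa [(hu x hx).eq.symm, mul_inv_cancel_right]))).symm
  intro u hu
  have hu' : g * u * g⁻¹ ∈ fitP b p := by
    rw [← h.ga, ← fitP_conj]; exact ⟨u, hu, rfl⟩
  have h1 : Commute (g⁻¹ * a * g) u := by
    have := (main _ hu').map (MulAut.conj g⁻¹).toMonoidHom
    simpa [MulAut.conj_apply, mul_assoc] using this
  have hgab : g⁻¹ * a * g = a * b := by
    calc g⁻¹ * a * g = g⁻¹ * (g * (a * b) * g⁻¹) * g := by rw [h.gab]
      _ = a * b := by group
  rw [hgab] at h1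
  have h2 : Commute a u := (mem_cI.1 (fitP_le_cI a p hu)).symm
  have h3 : Commute b u := by
    have h4 := h2.inv_left.mul_left h1
    rwa [inv_mul_cancel_left] at h4
  exact mem_cI.2 h3.eq.symm

end CfsgLib.GW
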