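import Cfsg.Agent.Lib.Recog.GW.Reduce

/-!
Interfaces for the theorem of Gorenstein and Walter: the minimal counterexample, four-groups with
a rotation, and the statements of the pieces of the proof.
-/

set_option autoImplicit false

namespace CfsgLib.GW

open Subgroup CfsgLib.Invol
open scoped commutatorElement

universe u

variable {G : Type u} [Group G]

/-- The centralizer of an element. -/
abbrev cI (a : G) : Subgroup G := centralizer ({a} : Set G)

/-- The odd core of the centralizer of `a`, in `G`. -/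
def coreC (a : G) : Subgroup G :=
  (Cfsg.oddCore (centralizer ({a} : Set G))).map (centralizer ({a} : Set G)).subtype

/-- The Fitting subgroup of `coreC a`, in `G`. -/
def fitC (a : G) : Subgroup G :=
  (Cfsg.fittingSubgroup ↥(coreC a)).map (coreC a).subtype

/-- The `p`-core of `coreC a`, in `G`. -/
def fitP (a : G) (p : ℕ) : Subgroup G :=
  (Cfsg.pCore p ↥(coreC a)).map (coreC a).subtype

/-- A four-group `⟨a, b⟩` with an element `g` which permutes its involutions in a cycle. -/
structure Four (a b g : G) : Prop where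
  ha : orderOf a = 2
  hb : orderOf b = 2
  hab : a ≠ b
  comm : a * b = b * a
  ga : g * a * g⁻¹ = b
  gb : g * b * g⁻¹ = a * b
  gab : g * (a * b) * g⁻¹ = a

/-- A minimal counterexample. -/
structure Min (G : Type u) [Group G] [Finite G] : Prop where
  simple : IsSimpleGroup G
  noncomm : ¬ IsMulCommutative G
  dih : ∀ T : Sylow 2 G, Nonempty (DihData (T : Subgroup G))
  below : CfsgLib.Recog.GW.SimpleGW.{u} (Nat.card G - 1)
  notModel : ¬ CfsgLib.Recog.GW.IsGWModel G

/-- A1: no proper subgroup with one class of involutions contains the centralizer of an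
involution. -/
def OneClassStmt : Prop :=
  ∀ (G : Type u) [Group G] [Finite G], Min G → ∀ (a : G), orderOf a = 2 →
    ∀ K : Subgroup G, K ≠ ⊤ → cI a ≤ K →
      (∀ x ∈ K, ∀ y ∈ K, orderOf x = 2 → orderOf y = 2 → ∃ k ∈ K, k * x * k⁻¹ = y) → False

/-- A2: no proper subgroup without normal 2-complement and with several classes of involutions
contains the centralizer of an involution. -/
def TwoClassStmt : Prop :=
  ∀ (G : Type u) [Group G] [Finite G], Min G → ∀ (a : G), orderOf a = 2 →
    ∀ K : Subgroup G, K ≠ ⊤ → cI a ≤ K → ¬ Cfsg.HasNormalPComplement 2 K →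
      ¬ (∀ x ∈ K, ∀ y ∈ K, orderOf x = 2 → orderOf y = 2 → ∃ k ∈ K, k * x * k⁻¹ = y) → False

/-- A3: a maximal subgroup with normal 2-complement containing the centralizer of an involution
is that centralizer. -/
def NilpotentOvergroupStmt : Prop :=
  ∀ (G : Type u) [Group G] [Finite G], Min G → ∀ (a : G), orderOf a = 2 →
    ∀ K : Subgroup G, IsCoatom K → cI a ≤ K → Cfsg.HasNormalPComplement 2 K → K = cI a

/-- The centralizers of involutions are maximal. -/
def MaximalStmt : Prop :=
  ∀ (G : Type u) [Group G] [Finite G], Min G → ∀ (a : G), orderOf a = 2 → IsCoatom (cI a)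

/-- B: the twist lemma.  Once every involution of `T` acts by `±1` on the Fitting subgroup of
`O(C(a))`, and `O(C(a)) = F · C(b)` with `F` abelian and inverted by `b`, the fixed points of `b`
centralise `F`. -/
def TwistStmt : Prop :=
  ∀ (G : Type u) [Group G] [Finite G], Min G →
    (∀ x : G, orderOf x = 2 → IsCoatom (cI x)) →
    ∀ (T : Sylow 2 G) (a b g : G), Four a b g → a ∈ (T : Subgroup G) → (T : Subgroup G) ≤ cI a →
      b ∈ (T : Subgroup G) →
      (∀ s ∈ (T : Subgroup G), orderOf s = 2 → ∀ p : ℕ, p.Prime →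
        fitP a p ≤ cI s ∨ ∀ x ∈ fitP a p, s * x * s⁻¹ = x⁻¹) →
      (∀ s ∈ (T : Subgroup G), ∀ x ∈ coreC a, s ^ 2 * x = x * s ^ 2) →
      ∀ F : Subgroup G, F ≤ fitC a → coreC a = F ⊔ (coreC a ⊓ cI b) →
        (∀ x ∈ cI a, ∀ f ∈ F, x * f * x⁻¹ ∈ F) →
        (∀ x ∈ F, ∀ y ∈ F, x * y = y * x) → (∀ x ∈ F, b * x * b⁻¹ = x⁻¹) →
        coreC a ⊓ cI b ≤ centralizer (F : Set G)

/-- C: a maximal subgroup without components over the normalizer of a subgroup of `F(O(C(a)))`
centralised by `b` is `C(a)`. -/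
def NoLayerStmt : Prop :=
  ∀ (G : Type u) [Group G] [Finite G], Min G →
    (∀ x : G, orderOf x = 2 → IsCoatom (cI x)) →
    ∀ (a b g : G), Four a b g → ∀ (Q N : Subgroup G), Q ≠ ⊥ → Q ≤ fitC a ⊓ cI b →
      coreC a ⊓ coreC b ≤ normalizer (Q : Set G) → IsCoatom N → normalizer (Q : Set G) ≤ N →
      Cfsg.layer ↥N = ⊥ → N = cI a

/-- D: the component leg. -/
def ComponentStmt : Prop :=
  ∀ (G : Type u) [Group G] [Finite G], Min G →
    (∀ x : G, orderOf x = 2 → IsCoatom (cI x)) →
    ∀ (a b g : G), Four a b g → ∀ (Q N : Subgroup G), Q ≠ ⊥ → Q ≤ fitC a ⊓ cI b →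
      coreC a ⊓ coreC b ≤ normalizer (Q : Set G) → IsCoatom N → normalizer (Q : Set G) ≤ N →
      Cfsg.layer ↥N = ⊥

/-- Consequence of C and D. -/
def NormalizerStmt : Prop :=
  ∀ (G : Type u) [Group G] [Finite G], Min G →
    ∀ (a b g : G), Four a b g → ∀ (Q : Subgroup G), Q ≠ ⊥ → Q ≤ fitC a ⊓ cI b →
      coreC a ⊓ coreC b ≤ normalizer (Q : Set G) → normalizer (Q : Set G) ≤ cI a

/-- E: each `p`-core of `O(C(a))` is centralised by `b` or meets `C(b)` trivially. -/
def ScalarStmt : Prop :=
  ∀ (G : Type u) [Group G] [Finite G], Min G →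
    ∀ (a b g : G), Four a b g → ∀ p : ℕ, p.Prime → fitP a p ≤ cI b ∨ fitP a p ⊓ cI b = ⊥

end CfsgLib.GW
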