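import Cfsg.Agent.Lib.Char.Orthogonality
import Cfsg.Agent.Lib.Char.Linear
import Mathlib.GroupTheory.NoncommCoprod

/-!
An element of prime order acting with a group on which the character is constant off it: the
eigenspaces are free.
-/

set_option autoImplicit false

namespace CfsgLib.GW

open Subgroup
open scoped ComplexConjugate

variable {G : Type*} [Group G] [Finite G]

/-- A homomorphism to the units is a character. -/
theorem isCharacter_unitsHom {H : Type*} [Group H] (lam : H →* ℂˣ) :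
    Cfsg.IsCharacter H (fun h => (lam h : ℂ)) := by
  refine ⟨1, ⟨⟨fun h => (lam h : ℂ) • LinearMap.id, by simp [Module.End.one_eq_id]⟩, fun a b => ?_⟩, ?_⟩
  · ext x i
    simp [Module.End.mul_eq_comp, mul_assoc, mul_comm, mul_left_comm]
  · funext h
    simp [Representation.character]

/-- If `χ (u * r ^ i) = χ u` for `u` in `A` other than one, `r` has prime order `p` and centralises
`A`, all generators of `⟨r⟩` have one value and `r` is outside the kernel, then
`χ r = χ 1 - p * |A| * N` for some positive `N` with `(p - 1) * |A| * N ≤ χ 1`. -/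
theorem eigenspace_value {χ : G → ℂ} (hχ : Cfsg.IsCharacter G χ) {x : ℕ} (hx : χ 1 = x)
    {A : Subgroup G} {r : G} {p : ℕ} (hp : p.Prime) (hr : orderOf r = p)
    (hAr : ∀ u ∈ A, u * r = r * u)
    (hconst : ∀ u ∈ A, u ≠ 1 → ∀ i : ℕ, χ (u * r ^ i) = χ u)
    (hgen : ∀ i : ℕ, ¬ p ∣ i → χ (r ^ i) = χ r) (hker : χ r ≠ χ 1) :
    ∃ N : ℕ, N ≠ 0 ∧ (p - 1) * Nat.card A * N ≤ x ∧ χ r = (x : ℂ) - (Nat.card A * p * N : ℕ) := by
  classical
  haveI : NeZero p := ⟨hp.ne_zero⟩
  haveI := Fintype.ofFinite G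
  haveI : Fintype A := Fintype.ofFinite _
  set Z := Multiplicative (ZMod p) with hZ
  let φ : Z →* G := MonoidHom.mk' (fun k => r ^ (Multiplicative.toAdd k).val) fun a b => by
    rw [← pow_add, pow_eq_pow_iff_modEq, hr, toAdd_mul, ZMod.val_add]
    exact Nat.mod_modEq _ _
  let f : A × Z →* G := MonoidHom.noncommCoprod A.subtype φ fun a k =>
    (show Commute (a : G) r from hAr a a.2).pow_right _
  have hf : ∀ (a : A) (k : Z), f (a, k) = (a : G) * r ^ (Multiplicative.toAdd k).val := fun a k => rfl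
  obtain ⟨lam, hlam⟩ := Char.exists_linear_ne_one (G := Z) (fun a b => mul_comm a b)
    (g := Multiplicative.ofAdd (1 : ZMod p)) (by
      haveI : Fact p.Prime := ⟨hp⟩
      exact fun h => one_ne_zero (α := ZMod p) (Multiplicative.ofAdd.injective (h.trans ofAdd_zero.symm)))
  have key : ∀ μ : Z →* ℂˣ, ∃ N : ℕ, ∑ w : A × Z, χ (f w) * conj ((μ w.2 : ℂ)) =
      (Nat.card A * p * N : ℕ) := by
    intro μ
    obtain ⟨N, hN⟩ := Char.classInner_isCharacter_nat (Char.isCharacter_comp hχ f)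
      (isCharacter_unitsHom (μ.comp (MonoidHom.snd A Z)))
    refine ⟨N, ?_⟩
    rw [Cfsg.classInner, Nat.card_prod, inv_mul_eq_iff_eq_mul₀ (by simp)] at hN
    rw [show (∑ w : A × Z, χ (f w) * conj ((μ w.2 : ℂ))) = _ from hN]
    simp [Nat.card_eq_fintype_card, Z]
  have hone : ∀ k : Z, k ≠ 1 → χ (r ^ (Multiplicative.toAdd k).val) = χ r := fun k hk => hgen _
    fun h => hk (by
      have h' : (Multiplicative.toAdd k).val = 0 := Nat.eq_zero_of_dvd_of_lt h (ZMod.val_lt _)
      exact Multiplicative.toAdd.injective ((ZMod.val_eq_zero _).1 h'))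
  have hrow : ∀ μ : Z →* ℂˣ, ∑ w : A × Z, χ (f w) * conj ((μ w.2 : ℂ)) =
      (χ 1 - χ r) + χ r * ∑ k : Z, conj ((μ k : ℂ)) +
      (∑ a ∈ Finset.univ.erase (1 : A), χ a) * ∑ k : Z, conj ((μ k : ℂ)) := by
    intro μ
    rw [Fintype.sum_prod_type, ← Finset.add_sum_erase _ _ (Finset.mem_univ (1 : A))]
    congr 1
    · rw [Finset.mul_sum, ← Finset.add_sum_erase _ _ (Finset.mem_univ (1 : Z)),
        ← Finset.add_sum_erase _ (fun k : Z => χ r * conj ((μ k : ℂ))) (Finset.mem_univ (1 : Z))]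
      have e : ∀ k ∈ Finset.univ.erase (1 : Z),
          χ (f ((1 : A), k)) * conj ((μ k : ℂ)) = χ r * conj ((μ k : ℂ)) := fun k hk => by
        rw [hf, OneMemClass.coe_one, one_mul, hone k (Finset.mem_erase.1 hk).1]
      rw [Finset.sum_congr rfl e, hf]
      simp
      ring
    · rw [Finset.sum_mul]
      refine Finset.sum_congr rfl fun a ha => ?_
      rw [Finset.mul_sum]
      refine Finset.sum_congr rfl fun k _ => ?_
      rw [hf, hconst a a.2 (fun h => (Finset.mem_erase.1 ha).1 (Subtype.ext h))]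
  have hsum : ∑ k : Z, conj ((lam k : ℂ)) = 0 := by
    have h := sum_hom_units_eq_zero ((starRingEnd ℂ).toMonoidHom.comp ((Units.coeHom ℂ).comp lam))
      (fun h => hlam (by
        have := DFunLike.congr_fun h (Multiplicative.ofAdd (1 : ZMod p))
        simp at this
        refine Units.ext ((starRingEnd ℂ).injective ?_)
        simpa using this))
    simpa using h
  obtain ⟨N, hN⟩ := key lam
  rw [hrow, hsum, mul_zero, mul_zero, add_zero, add_zero] at hN
  have hN0 : N ≠ 0 := fun h => hker (by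
    rw [h, mul_zero, Nat.cast_zero, sub_eq_zero] at hN; exact hN.symm)
  -- the trivial character of the cyclic group alone
  let φ' : Z →* G := φ
  obtain ⟨N0, hN0'⟩ := Char.classInner_isCharacter_nat (Char.isCharacter_comp hχ φ')
    (isCharacter_unitsHom (1 : Z →* ℂˣ))
  rw [Cfsg.classInner, inv_mul_eq_iff_eq_mul₀ (by simp),
    ← Finset.add_sum_erase _ _ (Finset.mem_univ (1 : Z))] at hN0'
  have e0 : ∀ k ∈ Finset.univ.erase (1 : Z),
      (χ ∘ φ') k * conj (((1 : Z →* ℂˣ) k : ℂ)) = χ r := fun k hk => by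
    show χ (r ^ _) * _ = _
    rw [hone k (Finset.mem_erase.1 hk).1]
    simp
  have hcard : (Finset.univ.erase (1 : Z)).card = p - 1 := by
    rw [Finset.card_erase_of_mem (Finset.mem_univ _), Finset.card_univ]
    simp [Z]
  rw [Finset.sum_congr rfl e0, Finset.sum_const, hcard, nsmul_eq_mul,
    show Nat.card Z = p by simp [Z]] at hN0'
  have h10 : (χ ∘ φ') 1 * conj (((1 : Z →* ℂˣ) 1 : ℂ)) = (x : ℂ) := by simp [hx]
  rw [h10] at hN0'
  have hreal : ((p * x : ℕ) : ℂ) = ((p * N0 + (p - 1) * (Nat.card A * p * N) : ℕ) : ℂ) := by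
    rw [Nat.cast_add, Nat.cast_mul p N0, Nat.cast_mul (p - 1), ← hN, ← hN0', hx, Nat.cast_mul,
      Nat.cast_sub hp.one_le]
    ring
  have hnat : p * x = p * N0 + (p - 1) * (Nat.card A * p * N) := by exact_mod_cast hreal
  refine ⟨N, hN0, Nat.le_of_mul_le_mul_left ?_ hp.pos, by rw [← hN, hx]; ring⟩
  rw [hnat]
  refine le_trans (le_of_eq ?_) (le_add_of_nonneg_left (Nat.zero_le _))
  ring

/-- The bound from `eigenspace_value`. -/
theorem eigenspace_bound {χ : G → ℂ} (hχ : Cfsg.IsCharacter G χ) {x : ℕ} (hx : χ 1 = x)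
    {A : Subgroup G} {r : G} {p : ℕ} (hp : p.Prime) (hr : orderOf r = p)
    (hAr : ∀ u ∈ A, u * r = r * u)
    (hconst : ∀ u ∈ A, u ≠ 1 → ∀ i : ℕ, χ (u * r ^ i) = χ u)
    (hgen : ∀ i : ℕ, ¬ p ∣ i → χ (r ^ i) = χ r) (hker : χ r ≠ χ 1) :
    (p - 1) * Nat.card A ≤ x := by
  obtain ⟨N, hN, hle, -⟩ := eigenspace_value hχ hx hp hr hAr hconst hgen hker
  exact (Nat.le_mul_of_pos_right _ (Nat.pos_of_ne_zero hN)).trans hle

end CfsgLib.GW
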