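import Cfsg.Agent.Lib.GW.Defs
import Cfsg.Agent.Lib.Recog.GenDihedral.OneClass
import Cfsg.Agent.Lib.Classical.ExcIsoPermOdd

/-!
A1: no proper subgroup with one class of involutions contains the centralizer of an involution.
-/

set_option autoImplicit false
set_option linter.style.haveILetI false

namespace CfsgLib.GW

open Subgroup CfsgLib.Invol CfsgLib.BlockA.DihedralBlock

universe u

/-- **A1.** The index lemma leaves only the alternating group of degree five. -/
theorem oneClass : OneClassStmt.{u} := by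
  intro G _ _ hmin a ha K hK hC hone
  haveI := hmin.simple
  haveI : Fact (Nat.Prime 2) := ⟨Nat.prime_two⟩
  let T : Sylow 2 G := default
  obtain ⟨D⟩ := hmin.dih T
  have hz : orderOf (dz T D) = 2 := (Subgroup.orderOf_coe _).trans D.orderOf_z
  obtain ⟨c, hc⟩ := isConj_iff.1 (one_class_of_no_index_two T D
    (CfsgLib.Invol.index_ne_two_of_simple hmin.noncomm) a (dz T D) ha hz)
  set e := MulAut.conj c with he
  set M := K.map e.toMonoidHom with hM
  have hMK : M ≠ ⊤ := by
    rw [hM, Ne, ← Subgroup.map_top_of_surjective e.toMonoidHom e.surjective]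
    exact fun h => hK (Subgroup.map_injective e.injective h)
  have hCM : centralizer ({dz T D} : Set G) ≤ M := by
    intro x hx
    obtain ⟨y, rfl⟩ := e.surjective x
    refine ⟨y, hC (mem_centralizer_singleton_iff.2 (e.injective ?_)), rfl⟩
    have h1 : e a = dz T D := hc
    rw [map_mul, map_mul, h1]
    exact mem_centralizer_singleton_iff.1 hx
  have honeM : ∀ s t : M, orderOf s = 2 → orderOf t = 2 → IsConj s t := by
    intro s t hs ht
    obtain ⟨x, hx, hxe⟩ := s.2
    obtain ⟨y, hy, hye⟩ := t.2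
    have hxe' : e x = (s : G) := hxe
    have hye' : e y = (t : G) := hye
    have hx2 : orderOf x = 2 := by
      rw [← MulEquiv.orderOf_eq e x, hxe', Subgroup.orderOf_coe, hs]
    have hy2 : orderOf y = 2 := by
      rw [← MulEquiv.orderOf_eq e y, hye', Subgroup.orderOf_coe, ht]
    obtain ⟨k, hk, hkx⟩ := hone x hx y hy hx2 hy2
    refine isConj_iff.2 ⟨⟨e k, k, hk, rfl⟩, Subtype.ext ?_⟩
    show e k * (s : G) * (e k)⁻¹ = (t : G)
    rw [← hxe', ← hye', ← hkx, map_mul, map_mul, map_inv]
  obtain ⟨-, -, -, ⟨f⟩⟩ := CfsgLib.Recog.GenDihedral.altFive_of_one_class T D hmin.noncomm M hMK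
    hCM honeM
  haveI : Fact (Nat.Prime 5) := ⟨by norm_num⟩
  obtain ⟨g⟩ := CfsgLib.Classical.psl_two_five_equiv
  exact hmin.notModel (Or.inl ⟨ZMod 5, inferInstance, inferInstance, by rw [ZMod.card]; decide,
    by rw [ZMod.card]; norm_num, ⟨f.trans g.symm⟩⟩)

end CfsgLib.GW
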