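import Cfsg.Agent.Lib.GW.Assembly
import Cfsg.Agent.Lib.GW.OneClass
import Cfsg.Agent.Lib.GW.NoLayer
import Cfsg.Agent.Lib.Recog.GW.RankOne

/-!
The perfect groups with dihedral Sylow 2-subgroups, from the remaining pieces.
-/

set_option autoImplicit false

namespace CfsgLib.GW

open Subgroup CfsgLib.Invol CfsgLib.Recog.GW

universe u

/-- The classification of simple groups with dihedral Sylow 2-subgroups, from the open pieces. -/
theorem simpleGW_of_open (h2 : OneClassStmt.{u} → TwoClassStmt.{u})
    (h3 : NilpotentOvergroupStmt.{u}) (hs : MaximalStmt.{u} → NoLayerStmt.{u} → ScalarStmt.{u})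
    (ht : TwistStmt.{u}) (N : ℕ) : SimpleGW.{u} N :=
  have hm : MaximalStmt.{u} := maximal_of_cases oneClass (h2 oneClass) h3
  simpleGW_of_pieces hm (hs hm noLayer) ht N

/-- The perfect groups with dihedral Sylow 2-subgroups, from the simple groups. -/
theorem perfectDihedral_of_simpleGW (h : ∀ N, SimpleGW.{u} N) : PerfectDihedral.{u} :=
  fun _ _ _ _ S n hn hS => perfect_mod_core (h _) S n hn hS

end CfsgLib.GW
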