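import Cfsg.Agent.Lib.Coprime.Generation
import Cfsg.Agent.Lib.FT.OddOrder
import Cfsg.Agent.Lib.Invol.Basic
import Mathlib.GroupTheory.Nilpotent
import Mathlib.GroupTheory.IsPerfect

/-!
Group lemmas for the two-prime case of the nilpotent overgroup of an involution centralizer:
commutators with an involution, and the action of an inverted abelian group normalised by an
element which centralises the fixed points.
-/

set_option autoImplicit false
set_option linter.unusedSectionVars false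
set_option linter.style.haveILetI false

namespace CfsgLib.GW.Nilp

open Subgroup
open scoped commutatorElement

universe u

variable {G : Type u} [Group G] [Finite G]

theorem inv_eq_self {a : G} (ha : a * a = 1) : a⁻¹ = a := inv_eq_of_mul_eq_one_left ha

/-- An element of odd order is a power of its square. -/
theorem commute_of_sq {e s : G} (ho : Odd (orderOf e)) (h : Commute (e ^ 2) s) : Commute e s := by
  obtain ⟨n, hn⟩ := ho
  have h2 := h.pow_left (n + 1)
  rwa [← pow_mul, show 2 * (n + 1) = orderOf e + 1 by omega, pow_succ, pow_orderOf_eq_one,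
    one_mul] at h2

/-- An element of odd order equal to its inverse is trivial. -/
theorem eq_one_of_eq_inv {x : G} (ho : Odd (orderOf x)) (h : x = x⁻¹) : x = 1 := by
  have h2 : x ^ 2 = 1 := by rw [pow_two]; exact eq_inv_iff_mul_eq_one.1 h
  have := (commute_of_sq ho (s := x) (by rw [h2]; exact Commute.one_left _))
  rcases (Nat.dvd_prime Nat.prime_two).1 (orderOf_dvd_of_pow_eq_one h2) with h1 | h1
  · exact orderOf_eq_one_iff.1 h1
  · exact absurd (h1 ▸ ho) (by decide)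

theorem odd_orderOf {X : Subgroup G} (hX : Odd (Nat.card X)) {x : G} (hx : x ∈ X) :
    Odd (orderOf x) :=
  hX.of_dvd_nat (Subgroup.orderOf_dvd_natCard _ hx)

/-- The commutator with an involution is inverted by it. -/
theorem conj_comm_invol {a : G} (ha : a * a = 1) (x : G) :
    a * ⁅x, a⁆ * a⁻¹ = (⁅x, a⁆)⁻¹ := by
  have e := inv_eq_self ha
  rw [commutatorElement_def, mul_inv_rev, mul_inv_rev, mul_inv_rev, inv_inv, inv_inv, e]
  simp only [← mul_assoc]
  rw [mul_assoc _ a a, ha, mul_one]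

/-- If the commutator with an involution commutes with it then it is trivial. -/
theorem commute_of_comm_invol {X : Subgroup G} (hX : Odd (Nat.card X)) {a : G} (ha : a * a = 1)
    (han : a ∈ normalizer (X : Set G)) {x : G} (hx : x ∈ X) (h : Commute a ⁅x, a⁆) :
    Commute x a := by
  have hm : ⁅x, a⁆ ∈ X := by
    rw [commutatorElement_def, mul_assoc x a, mul_assoc x]
    exact mul_mem hx ((mem_normalizer_iff.1 han _).1 (inv_mem hx))
  have h1 := conj_comm_invol ha x
  rw [h.eq, mul_inv_cancel_right] at h1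
  exact commutatorElement_eq_one_iff_commute.1 (eq_one_of_eq_inv (odd_orderOf hX hm) h1)

/-- The generators of `[X, a]`. -/
theorem commutator_zpowers_le {X H : Subgroup G} {a : G} (ha : a * a = 1)
    (h : ∀ x ∈ X, ⁅x, a⁆ ∈ H) : ⁅X, zpowers a⁆ ≤ H := by
  refine commutator_le.2 fun x hx w hw => ?_
  obtain ⟨i, rfl⟩ := hw
  rcases Int.emod_two_eq_zero_or_one i with hi | hi
  · have : a ^ i = 1 := by
      rw [← Int.emod_add_ediv_mul i 2, hi, zero_add, mul_comm, zpow_mul, zpow_two, ha, one_zpow]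
    simp [this, commutatorElement_def]
  · have : a ^ i = a := by
      rw [← Int.emod_add_ediv_mul i 2, hi, zpow_add, zpow_one, mul_comm _ (2 : ℤ), zpow_mul,
        zpow_two, ha, one_zpow, mul_one]
    simp only [this]
    exact h x hx

theorem comm_mem_commutator {X : Subgroup G} {a x : G} (hx : x ∈ X) :
    ⁅x, a⁆ ∈ ⁅X, zpowers a⁆ := commutator_mem_commutator hx (mem_zpowers a)

/-- A fixed point free involution inverts. -/
theorem inverts_of_free {X : Subgroup G} (hX : Odd (Nat.card X)) {a : G} (ha : a * a = 1)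
    (han : a ∈ normalizer (X : Set G)) (hf : ∀ x ∈ X, Commute x a → x = 1) {x : G} (hx : x ∈ X) :
    a * x * a⁻¹ = x⁻¹ := by
  let f : X → X := fun r => ⟨⁅(r : G), a⁆, by
    rw [commutatorElement_def, mul_assoc (r : G) a, mul_assoc (r : G)]
    exact mul_mem r.2 ((mem_normalizer_iff.1 han _).1 (inv_mem r.2))⟩
  have hinj : Function.Injective f := by
    intro r s hrs
    have h1 : ⁅(r : G), a⁆ = ⁅(s : G), a⁆ := congrArg Subtype.val hrs
    rw [commutatorElement_def, commutatorElement_def, mul_left_inj] at h1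
    have h2 : Commute ((s : G)⁻¹ * r) a := by
      show (s : G)⁻¹ * r * a = a * ((s : G)⁻¹ * r)
      calc (s : G)⁻¹ * r * a = (s : G)⁻¹ * ((r : G) * a * (r : G)⁻¹) * r := by group
        _ = a * ((s : G)⁻¹ * r) := by rw [h1]; group
    exact Subtype.ext (inv_mul_eq_one.1 (hf _ (mul_mem (inv_mem s.2) r.2) h2)).symm
  obtain ⟨r, hr⟩ := Finite.surjective_of_injective hinj ⟨x, hx⟩
  have hr' : ⁅(r : G), a⁆ = x := congrArg Subtype.val hr
  rw [← hr']
  exact conj_comm_invol ha _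

/-- In a nilpotent group a subgroup supplementing the derived subgroup is everything. -/
theorem eq_of_sup_commutator {U A : Subgroup G} (hU : Group.IsNilpotent U) (hA : A ≤ U)
    (h : U ≤ A ⊔ ⁅U, U⁆) : A = U := by
  refine le_antisymm hA ?_
  by_contra hne
  have htop : A.subgroupOf U ≠ ⊤ := fun e => hne (subgroupOf_eq_top.1 e)
  obtain ⟨M, hM, hAM⟩ := (eq_top_or_exists_le_coatom (A.subgroupOf U)).resolve_left htop
  have : Group.IsNilpotent U := hU
  haveI hMn : M.Normal := NormalizerCondition.normal_of_coatom M Group.normalizerCondition_of_isNilpotent hM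
  haveI : IsSimpleGroup (U ⧸ M) := by
    haveI : Nontrivial (U ⧸ M) := QuotientGroup.nontrivial_iff.2 hM.1
    refine ⟨fun H hH => ?_⟩
    have hle : M ≤ H.comap (QuotientGroup.mk' M) := by
      intro m hm
      rw [mem_comap, show QuotientGroup.mk' M m = 1 from (QuotientGroup.eq_one_iff m).2 hm]
      exact one_mem _
    rcases hM.le_iff.1 hle with e | e
    · right
      rw [← map_comap_eq_self_of_surjective (QuotientGroup.mk'_surjective M) H, e,
        map_top_of_surjective _ (QuotientGroup.mk'_surjective M)]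
    · left
      rw [← map_comap_eq_self_of_surjective (QuotientGroup.mk'_surjective M) H, e,
        QuotientGroup.map_mk'_self]
  haveI : Group.IsNilpotent (U ⧸ M) := inferInstance
  have hc : ∀ p q : U ⧸ M, p * q = q * p :=
    IsSimpleGroup.comm_iff_isSolvable.2 inferInstance
  have hcomm : ⁅(⊤ : Subgroup U), ⊤⁆ ≤ M := commutator_le.2 fun p _ q _ => by
    rw [← QuotientGroup.eq_one_iff]
    show QuotientGroup.mk' M ⁅p, q⁆ = 1
    rw [map_commutatorElement]
    exact commutatorElement_eq_one_iff_mul_comm.2 (hc _ _)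
  refine hM.1 (eq_top_iff.2 fun w _ => ?_)
  have hsup : A ⊔ ⁅U, U⁆ ≤ M.map U.subtype := by
    refine sup_le ?_ ?_
    · rw [← map_subgroupOf_eq_of_le hA]; exact map_mono hAM
    · refine le_trans (le_of_eq ?_) (map_mono hcomm)
      rw [Subgroup.map_commutator, ← MonoidHom.range_eq_map, range_subtype]
  obtain ⟨v, hv, e⟩ := hsup (h w.2)
  exact U.subtype_injective e ▸ hv

section Abelian

variable {S : Subgroup G} (hSc : ∀ s ∈ S, ∀ t ∈ S, s * t = t * s) (hS : Odd (Nat.card S))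

include hSc hS

/-- An inverted element centralising the fixed points centralises an abelian group. -/
theorem centralizes_abelian {a e : G} (ha : a * a = 1) (haS : a ∈ normalizer (S : Set G))
    (heS : e ∈ normalizer (S : Set G)) (hcop : (orderOf e).Coprime (Nat.card S))
    (ho : Odd (orderOf e)) (hinv : a * e * a⁻¹ = e⁻¹) (hfix : ∀ s ∈ S, Commute s a → Commute e s) :
    ∀ s ∈ S, Commute e s := by
  have hc : ∀ {g : G}, g ∈ normalizer (S : Set G) → ∀ {s}, s ∈ S → g * s * g⁻¹ ∈ S :=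
    fun {g} hg {s} hs => (mem_normalizer_iff.1 hg s).1 hs
  -- inverted elements
  have key : ∀ s ∈ S, a * s * a⁻¹ = s⁻¹ → Commute e s := by
    intro s hs hsi
    obtain ⟨A, hA⟩ : ∃ A, A = e * s * e⁻¹ := ⟨_, rfl⟩
    obtain ⟨B, hB⟩ : ∃ B, B = e⁻¹ * s * e := ⟨_, rfl⟩
    have hAS : A ∈ S := hA ▸ hc heS hs
    have hBS : B ∈ S := by rw [hB]; simpa using hc (inv_mem heS) hs
    have hD : Commute (A * B⁻¹) a := by
      have e1 : a * A * a⁻¹ = B⁻¹ := by
        calc a * A * a⁻¹ = (a * e * a⁻¹) * (a * s * a⁻¹) * (a * e * a⁻¹)⁻¹ := by rw [hA]; group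
          _ = B⁻¹ := by rw [hinv, hsi, hB]; group
      have e2 : a * B * a⁻¹ = A⁻¹ := by
        calc a * B * a⁻¹ = (a * e * a⁻¹)⁻¹ * (a * s * a⁻¹) * (a * e * a⁻¹) := by rw [hB]; group
          _ = A⁻¹ := by rw [hinv, hsi, hA]; group
      have e3 : a * (A * B⁻¹) * a⁻¹ = A * B⁻¹ := by
        calc a * (A * B⁻¹) * a⁻¹ = (a * A * a⁻¹) * (a * B * a⁻¹)⁻¹ := by group
          _ = A * B⁻¹ := by rw [e1, e2, inv_inv, hSc _ (inv_mem hBS) _ hAS]
      exact (mul_inv_eq_iff_eq_mul.1 e3).symm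
    have hfD : e * (A * B⁻¹) * e⁻¹ = A * B⁻¹ := by
      rw [(hfix _ (mul_mem hAS (inv_mem hBS)) hD).eq, mul_inv_cancel_right]
    have h2 : e * A * e⁻¹ * s⁻¹ = A * B⁻¹ := by rw [← hfD, hB]; group
    -- `t = A s⁻¹` is fixed by `e ^ 2`
    have hts : Commute (e ^ 2) (A * s⁻¹) := by
      have h3 : e * e * (A * s⁻¹) * (e * e)⁻¹ = A * s⁻¹ := by
        have e4 : e * (e * A * e⁻¹ * s⁻¹) * e⁻¹ = e * (A * B⁻¹) * e⁻¹ := by rw [h2]
        rw [hfD] at e4
        have hEA : e * A * e⁻¹ ∈ S := hc heS hAS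
        have hEEA : e * (e * A * e⁻¹) * e⁻¹ ∈ S := hc heS hEA
        have e5 : e * (e * A * e⁻¹) * e⁻¹ = e * A * e⁻¹ * s⁻¹ * A := by
          rw [h2, ← e4, hA]; group
        calc e * e * (A * s⁻¹) * (e * e)⁻¹
            = e * (e * A * e⁻¹) * e⁻¹ * (e * A * e⁻¹)⁻¹ := by rw [hA]; group
          _ = e * A * e⁻¹ * s⁻¹ * A * (e * A * e⁻¹)⁻¹ := by rw [e5]
          _ = A * s⁻¹ := by
            rw [mul_assoc (e * A * e⁻¹ * s⁻¹), hSc _ (mul_mem hEA (inv_mem hs)) _
              (mul_mem hAS (inv_mem hEA))]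
            group
      rw [pow_two]
      exact mul_inv_eq_iff_eq_mul.1 h3
    have ht : Commute e (A * s⁻¹) := commute_of_sq ho hts
    have hmem : A * s⁻¹ ∈ ⁅S, zpowers e⁆ := by
      rw [Subgroup.commutator_comm, hA]
      exact commutator_mem_commutator (mem_zpowers e) hs
    have hbot := CfsgLib.Coprime.commutator_inf_centralizer_eq_bot (A := zpowers e) (V := S)
      ⟨⟨fun p q => Subtype.ext (hSc p p.2 q q.2)⟩⟩ (zpowers_le.2 heS)
      (by rwa [Nat.card_zpowers])
    have h1 : A * s⁻¹ = 1 := by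
      rw [← mem_bot, ← hbot]
      refine ⟨hmem, mem_centralizer_iff.2 ?_⟩
      rintro _ ⟨i, rfl⟩
      exact (ht.zpow_left i).eq
    rw [hA] at h1
    exact mul_inv_eq_iff_eq_mul.1 (mul_inv_eq_one.1 h1)
  intro s hs
  have hsa := hc haS hs
  have hai := inv_eq_self ha
  have h1 : Commute e (s * (a * s * a⁻¹)) := by
    refine hfix _ (mul_mem hs hsa) ?_
    show s * (a * s * a⁻¹) * a = a * (s * (a * s * a⁻¹))
    rw [hSc _ hs _ hsa]
    calc a * s * a⁻¹ * s * a = a * (s * (a * s * a)) := by rw [hai]; group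
      _ = _ := by rw [hai, hSc (a * s * a) (by rw [hai] at hsa; exact hsa) _ hs]
  have h2 : Commute e (s * (a * s * a⁻¹)⁻¹) := by
    refine key _ (mul_mem hs (inv_mem hsa)) ?_
    rw [hSc _ hs _ (inv_mem hsa)]
    calc a * ((a * s * a⁻¹)⁻¹ * s) * a⁻¹ = (a * a) * s⁻¹ * (a * a)⁻¹ * (a * s * a⁻¹) := by group
      _ = ((a * s * a⁻¹)⁻¹ * s)⁻¹ := by rw [ha]; group
  have h3 : Commute e (s ^ 2) := by
    have h := h1.mul_right h2
    rwa [show s * (a * s * a⁻¹) * (s * (a * s * a⁻¹)⁻¹) = s ^ 2 by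
      rw [hSc _ hs _ (inv_mem hsa), pow_two]; group] at h
  exact (commute_of_sq (odd_orderOf hS hs) h3.symm).symm

/-- An inverted abelian group normalised by `y`, where `y` centralises the fixed points on `S`. -/
theorem commutes_abelian {E : Subgroup G} (hEc : ∀ e ∈ E, ∀ f ∈ E, e * f = f * e)
    (hE : Odd (Nat.card E)) {a y : G} (ha : a * a = 1) (haS : a ∈ normalizer (S : Set G))
    (hinv : ∀ e ∈ E, a * e * a⁻¹ = e⁻¹) (hES : E ≤ normalizer (S : Set G))
    (hcop : (Nat.card E).Coprime (Nat.card S))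
    (hyE : y ∈ normalizer (E : Set G)) (hy : Odd (orderOf y))
    (hfix : ∀ s ∈ S, Commute s a → Commute y s) {e : G} (he : e ∈ E) :
    ∀ s ∈ S, Commute (e * (y * e * y⁻¹)⁻¹) s := by
  obtain ⟨f, hf⟩ : ∃ f, f = y * e * y⁻¹ := ⟨_, rfl⟩
  rw [← hf]
  have hfE : f ∈ E := hf ▸ (mem_normalizer_iff.1 hyE e).1 he
  have hc : ∀ {g : G}, g ∈ E → ∀ {s}, s ∈ S → g * s * g⁻¹ ∈ S :=
    fun {g} hg {s} hs => (mem_normalizer_iff.1 (hES hg) s).1 hs
  have hc' : ∀ {g : G}, g ∈ E → ∀ {s}, s ∈ S → g⁻¹ * s * g ∈ S := fun {g} hg {s} hs => by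
    simpa using hc (inv_mem hg) hs
  -- the symmetrisation
  let T : G → G → G := fun g s => g * s * g⁻¹ * (g⁻¹ * s * g)
  have hT : ∀ {g : G}, g ∈ E → ∀ {s}, s ∈ S → T g s ∈ S :=
    fun {g} hg {s} hs => mul_mem (hc hg hs) (hc' hg hs)
  have hTm : ∀ {g : G}, g ∈ E → ∀ {s t}, s ∈ S → t ∈ S → T g (s * t) = T g s * T g t := by
    intro g hg s t hs ht
    show g * (s * t) * g⁻¹ * (g⁻¹ * (s * t) * g) = _
    rw [show g * (s * t) * g⁻¹ = g * s * g⁻¹ * (g * t * g⁻¹) by group,
      show g⁻¹ * (s * t) * g = g⁻¹ * s * g * (g⁻¹ * t * g) by group]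
    rw [mul_assoc, ← mul_assoc (g * t * g⁻¹), hSc _ (hc hg ht) _ (hc' hg hs)]
    simp only [T, mul_assoc]
  have hTa : ∀ {g : G}, g ∈ E → ∀ {s}, s ∈ S → a * T g s * a⁻¹ = T g (a * s * a⁻¹) := by
    intro g hg s hs
    have hsa := (mem_normalizer_iff.1 haS s).1 hs
    calc a * T g s * a⁻¹ = (a * g * a⁻¹) * (a * s * a⁻¹) * (a * g * a⁻¹)⁻¹ *
          ((a * g * a⁻¹)⁻¹ * (a * s * a⁻¹) * (a * g * a⁻¹)) := by simp only [T]; group
      _ = T g (a * s * a⁻¹) := by
        rw [hinv g hg, inv_inv, hSc _ (hc' hg hsa) _ (hc hg hsa)]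
  have hTeq : ∀ s ∈ S, Commute s a → T e s = T f s := by
    intro s hs hsa
    have h1 : Commute y (T e s) := hfix _ (hT he hs) (by
      have h := hTa he hs
      rw [← hsa.eq, mul_inv_cancel_right] at h
      exact (mul_inv_eq_iff_eq_mul.1 h).symm)
    have h2 : y * s * y⁻¹ = s := by rw [(hfix s hs hsa).eq, mul_inv_cancel_right]
    calc T e s = y * T e s * y⁻¹ := by rw [h1.eq, mul_inv_cancel_right]
      _ = T (y * e * y⁻¹) (y * s * y⁻¹) := by simp only [T]; group
      _ = T f s := by rw [h2, hf]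
  -- the two symmetrisations agree on all of `S`
  let δ : G → G := fun s => T e s * (T f s)⁻¹
  have hδS : ∀ {s}, s ∈ S → δ s ∈ S := fun hs => mul_mem (hT he hs) (inv_mem (hT hfE hs))
  have hδm : ∀ {s t}, s ∈ S → t ∈ S → δ (s * t) = δ s * δ t := by
    intro s t hs ht
    show T e (s * t) * (T f (s * t))⁻¹ = _
    rw [hTm he hs ht, hTm hfE hs ht, mul_inv_rev, hSc _ (inv_mem (hT hfE ht)) _ (inv_mem (hT hfE hs))]
    show _ = T e s * (T f s)⁻¹ * (T e t * (T f t)⁻¹)
    rw [mul_assoc, ← mul_assoc (T e t), hSc _ (hT he ht) _ (inv_mem (hT hfE hs))]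
    simp only [mul_assoc]
  have hδa : ∀ {s}, s ∈ S → a * δ s * a⁻¹ = (δ s)⁻¹ := by
    intro s hs
    have hsa := (mem_normalizer_iff.1 haS s).1 hs
    have h1 : a * δ s * a⁻¹ = δ (a * s * a⁻¹) := by
      calc a * δ s * a⁻¹ = (a * T e s * a⁻¹) * (a * T f s * a⁻¹)⁻¹ := by simp only [δ]; group
        _ = δ (a * s * a⁻¹) := by rw [hTa he hs, hTa hfE hs]
    have h2 : δ (s * (a * s * a⁻¹)) = 1 := by
      refine mul_inv_eq_one.2 (hTeq _ (mul_mem hs hsa) ?_)
      show s * (a * s * a⁻¹) * a = a * (s * (a * s * a⁻¹))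
      rw [hSc _ hs _ hsa]
      calc a * s * a⁻¹ * s * a = a * (s * (a * s * a)) := by rw [inv_eq_self ha]; group
        _ = _ := by
          rw [inv_eq_self ha, hSc (a * s * a) (by rw [inv_eq_self ha] at hsa; exact hsa) _ hs]
    rw [h1]
    rw [hδm hs hsa] at h2
    exact eq_inv_of_mul_eq_one_right h2
  have hδe : ∀ {g : G}, g ∈ E → ∀ {s}, s ∈ S → δ (g * s * g⁻¹) = g * δ s * g⁻¹ := by
    intro g hg s hs
    have aux : ∀ h ∈ E, T h (g * s * g⁻¹) = g * T h s * g⁻¹ := by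
      intro h hh
      have e1 : h * g = g * h := hEc h hh g hg
      calc T h (g * s * g⁻¹) = (h * g) * s * (h * g)⁻¹ * (((h⁻¹ * g) * s * (h⁻¹ * g)⁻¹)) := by
            simp only [T]; group
        _ = (g * h) * s * (g * h)⁻¹ * ((g * h⁻¹) * s * (g * h⁻¹)⁻¹) := by
            rw [e1, hEc _ (inv_mem hh) _ hg]
        _ = g * T h s * g⁻¹ := by simp only [T]; group
    show T e (g * s * g⁻¹) * (T f (g * s * g⁻¹))⁻¹ = _
    rw [aux e he, aux f hfE]
    simp only [δ]; group
  have hδc : ∀ {s}, s ∈ S → ∀ g ∈ E, Commute g (δ s) := by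
    intro s hs g hg
    refine commute_of_sq (odd_orderOf hE hg) ?_
    have h1 := hδa (hc hg hs)
    rw [hδe hg hs] at h1
    have h2 : a * (g * δ s * g⁻¹) * a⁻¹ = g⁻¹ * (δ s)⁻¹ * g := by
      calc a * (g * δ s * g⁻¹) * a⁻¹ = (a * g * a⁻¹) * (a * δ s * a⁻¹) * (a * g * a⁻¹)⁻¹ := by group
        _ = _ := by rw [hinv g hg, hδa hs, inv_inv]
    rw [h2] at h1
    have h3 : g⁻¹ * δ s * g = g * δ s * g⁻¹ := by
      have h4 := congrArg (·⁻¹) h1
      simpa [mul_assoc] using h4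
    show g ^ 2 * δ s = δ s * g ^ 2
    calc g ^ 2 * δ s = g * (g * δ s * g⁻¹) * g := by rw [pow_two]; group
      _ = g * (g⁻¹ * δ s * g) * g := by rw [h3]
      _ = δ s * g ^ 2 := by rw [pow_two]; group
  have hcopE : (Nat.card E).Coprime (Nat.card S) := hcop
  have hδ1 : ∀ s ∈ S, δ s = 1 := by
    intro s hs
    obtain ⟨c, hc0, n, hn, hcn⟩ := CfsgLib.Coprime.exists_mul_eq hES hcopE
      (Or.inl (Group.isSolvable_of_comm fun p q => Subtype.ext (hEc p p.2 q q.2))) hs
    have h1 : δ 1 = 1 := by simp [δ, T]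
    have hlow : ⁅S, E⁆ ≤ S := le_normalizer_iff_commutator_le_left.mp hES
    let K : Subgroup G :=
      { carrier := {z | z ∈ S ∧ δ z = 1}
        one_mem' := ⟨one_mem _, h1⟩
        mul_mem' := fun {p q} hp hq => ⟨mul_mem hp.1 hq.1, by rw [hδm hp.1 hq.1, hp.2, hq.2, mul_one]⟩
        inv_mem' := fun {p} hp => ⟨inv_mem hp.1, by
          have h := hδm hp.1 (inv_mem hp.1)
          rwa [mul_inv_cancel, h1, hp.2, one_mul, eq_comm] at h⟩ }
    have hnK : n ∈ K := by
      refine (commutator_le.2 fun p hp g hg => ?_) hn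
      have hm : g * p⁻¹ * g⁻¹ ∈ S := hc hg (inv_mem hp)
      have e1 : ⁅p, g⁆ = p * (g * p⁻¹ * g⁻¹) := by rw [commutatorElement_def]; group
      refine ⟨e1 ▸ mul_mem hp hm, ?_⟩
      rw [e1, hδm hp hm, hδe hg (inv_mem hp), (hδc (inv_mem hp) g hg).eq, mul_inv_cancel_right,
        ← hδm hp (inv_mem hp), mul_inv_cancel, h1]
    have hc1 : δ c = 1 := by
      have hcc : ∀ g ∈ E, g * c * g⁻¹ = c ∧ g⁻¹ * c * g = c := fun g hg => by
        have h := mem_centralizer_iff.1 hc0.2 g hg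
        refine ⟨by rw [h, mul_inv_cancel_right], ?_⟩
        rw [mul_assoc, ← h, inv_mul_cancel_left]
      show T e c * (T f c)⁻¹ = 1
      simp only [T]
      rw [(hcc e he).1, (hcc e he).2, (hcc f hfE).1, (hcc f hfE).2, mul_inv_cancel]
    rw [← hcn, hδm hc0.1 hnK.1, hc1, hnK.2, mul_one]
  -- `u = e f⁻¹` fixes every `[w, s]`, `w = e f`
  obtain ⟨v, hv⟩ : ∃ v, v = e * f⁻¹ := ⟨_, rfl⟩
  obtain ⟨w, hw⟩ : ∃ w, w = e * f := ⟨_, rfl⟩
  rw [← hv]
  have hvE : v ∈ E := hv ▸ mul_mem he (inv_mem hfE)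
  have hwE : w ∈ E := hw ▸ mul_mem he hfE
  have hfixw : ∀ s ∈ S, Commute v (w * s * w⁻¹ * s⁻¹) := by
    intro s hs
    have h := mul_inv_eq_one.1 (hδ1 s hs)
    have h' := congrArg (fun z => e * z * e⁻¹) h
    simp only [T] at h'
    have e2 : v * w = e * e := by
      rw [hv, hw, hEc e he f hfE, mul_assoc, inv_mul_cancel_left]
    have h5 : v * w * s * (v * w)⁻¹ * s = w * s * w⁻¹ * (v * s * v⁻¹) := by
      calc v * w * s * (v * w)⁻¹ * s = e * e * s * (e * e)⁻¹ * s := by rw [e2]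
        _ = e * (e * s * e⁻¹ * (e⁻¹ * s * e)) * e⁻¹ := by group
        _ = e * (f * s * f⁻¹ * (f⁻¹ * s * f)) * e⁻¹ := h'
        _ = _ := by rw [hv, hw]; group
    have hws := hc hwE hs
    have hvs := hc hvE hs
    have hvws : v * w * s * (v * w)⁻¹ ∈ S := hc (mul_mem hvE hwE) hs
    refine mul_inv_eq_iff_eq_mul.1 ?_
    calc v * (w * s * w⁻¹ * s⁻¹) * v⁻¹
        = (v * w * s * (v * w)⁻¹) * (v * s * v⁻¹)⁻¹ := by group
      _ = v * w * s * (v * w)⁻¹ * s * s⁻¹ * (v * s * v⁻¹)⁻¹ := by rw [mul_inv_cancel_right]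
      _ = w * s * w⁻¹ * (v * s * v⁻¹) * s⁻¹ * (v * s * v⁻¹)⁻¹ := by rw [h5]
      _ = w * s * w⁻¹ * s⁻¹ := by
        rw [mul_assoc (w * s * w⁻¹) (v * s * v⁻¹), hSc _ hvs _ (inv_mem hs), ← mul_assoc,
          mul_inv_cancel_right]
  -- on `[S, v]` conjugation by `f` is conjugation by `e⁻¹`
  have hAn : zpowers v ≤ normalizer (S : Set G) := zpowers_le.2 (hES hvE)
  have hcop' : (Nat.card ↥(zpowers v)).Coprime (Nat.card S) :=
    hcop.coprime_dvd_left (card_dvd_of_le (zpowers_le.2 hvE))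
  obtain ⟨S₁, hS₁⟩ : ∃ S₁, S₁ = ⁅S, zpowers v⁆ := ⟨_, rfl⟩
  have hS₁S : S₁ ≤ S := hS₁ ▸ le_normalizer_iff_commutator_le_left.mp hAn
  have hES₁ : E ≤ normalizer (S₁ : Set G) := fun g hg => by
    rw [hS₁, CfsgLib.Coprime.mem_normalizer_iff_map_conj, Subgroup.map_commutator,
      CfsgLib.Coprime.mem_normalizer_iff_map_conj.1 (hES hg), MonoidHom.map_zpowers]
    congr 2
    show g * v * g⁻¹ = v
    rw [hEc g hg v hvE, mul_inv_cancel_right]
  have hbot := CfsgLib.Coprime.commutator_inf_centralizer_eq_bot (A := zpowers v) (V := S)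
    ⟨⟨fun p q => Subtype.ext (hSc p p.2 q q.2)⟩⟩ hAn hcop'
  have hwf : ∀ s ∈ S₁, f * s * f⁻¹ = e⁻¹ * s * e := by
    intro s hs
    have h1 : w * s * w⁻¹ * s⁻¹ = 1 := by
      rw [← mem_bot, ← hbot, ← hS₁]
      refine mem_inf.2 ⟨mul_mem ((mem_normalizer_iff.1 (hES₁ hwE) s).1 hs) (inv_mem hs),
        mem_centralizer_iff.2 ?_⟩
      rintro _ ⟨i, rfl⟩
      exact ((hfixw s (hS₁S hs)).zpow_left i).eq
    have h2 := mul_inv_eq_one.1 h1
    calc f * s * f⁻¹ = e⁻¹ * (w * s * w⁻¹) * e := by rw [hw]; group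
      _ = _ := by rw [h2]
  have hefix : ∀ s ∈ S₁, Commute s a → Commute e s := by
    intro s hs hsa
    have hsS := hS₁S hs
    refine commute_of_sq (odd_orderOf hE he) ?_
    obtain ⟨D, hD⟩ : ∃ D, D = e * s * e⁻¹ * (e⁻¹ * s * e)⁻¹ := ⟨_, rfl⟩
    have hys : y * s * y⁻¹ = s := by rw [(hfix s hsS hsa).eq, mul_inv_cancel_right]
    have hyD : y * D * y⁻¹ = D⁻¹ := by
      calc y * D * y⁻¹ = (y * e * y⁻¹) * (y * s * y⁻¹) * (y * e * y⁻¹)⁻¹ *
            ((y * e * y⁻¹)⁻¹ * (y * s * y⁻¹) * (y * e * y⁻¹))⁻¹ := by rw [hD]; group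
        _ = f * s * f⁻¹ * (f⁻¹ * s * f)⁻¹ := by rw [hys, hf]
        _ = e⁻¹ * s * e * (e * s * e⁻¹)⁻¹ := by
          rw [hwf s hs, show f⁻¹ * s * f = e * s * e⁻¹ from ?_]
          have hm : e * s * e⁻¹ ∈ S₁ := (mem_normalizer_iff.1 (hES₁ he) s).1 hs
          calc f⁻¹ * s * f = f⁻¹ * (e⁻¹ * (e * s * e⁻¹) * e) * f := by group
            _ = f⁻¹ * (f * (e * s * e⁻¹) * f⁻¹) * f := by rw [hwf _ hm]
            _ = _ := by group
        _ = D⁻¹ := by rw [hD]; simp [mul_assoc]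
    have hDS : D ∈ S := hD ▸ mul_mem (hc he hsS) (inv_mem (hc' he hsS))
    have hyD2 : Commute (y ^ 2) D := by
      refine mul_inv_eq_iff_eq_mul.1 ?_
      calc y ^ 2 * D * (y ^ 2)⁻¹ = y * (y * D * y⁻¹) * y⁻¹ := by rw [pow_two]; group
        _ = y * D⁻¹ * y⁻¹ := by rw [hyD]
        _ = (y * D * y⁻¹)⁻¹ := by group
        _ = D := by rw [hyD, inv_inv]
    have hy1 := (commute_of_sq hy hyD2).eq
    rw [hy1, mul_inv_cancel_right] at hyD
    have hD1 := eq_one_of_eq_inv (odd_orderOf hS hDS) hyD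
    rw [hD, mul_inv_eq_one] at hD1
    show e ^ 2 * s = s * e ^ 2
    calc e ^ 2 * s = e * (e * s * e⁻¹) * e := by rw [pow_two]; group
      _ = e * (e⁻¹ * s * e) * e := by rw [hD1]
      _ = _ := by rw [pow_two]; group
  have haS₁ : a ∈ normalizer (S₁ : Set G) := by
    rw [hS₁, CfsgLib.Coprime.mem_normalizer_iff_map_conj, Subgroup.map_commutator,
      CfsgLib.Coprime.mem_normalizer_iff_map_conj.1 haS, MonoidHom.map_zpowers]
    congr 1
    show zpowers (a * v * a⁻¹) = zpowers v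
    rw [hinv v hvE, zpowers_inv]
  have hS₁c : ∀ s ∈ S₁, ∀ t ∈ S₁, s * t = t * s := fun s hs t ht => hSc s (hS₁S hs) t (hS₁S ht)
  have hS₁o : Odd (Nat.card S₁) := hS.of_dvd_nat (card_dvd_of_le hS₁S)
  have heS₁ : ∀ s ∈ S₁, Commute e s := by
    refine centralizes_abelian hS₁c hS₁o ha haS₁ (hES₁ he) ?_ (odd_orderOf hE he) (hinv e he)
      hefix
    exact (hcop.coprime_dvd_left (Subgroup.orderOf_dvd_natCard _ he)).coprime_dvd_right
      (card_dvd_of_le hS₁S)
  have hvS₁ : ∀ s ∈ S₁, Commute v s := by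
    intro s hs
    have h1 := hwf s hs
    rw [mul_assoc e⁻¹, ← (heS₁ s hs).eq, inv_mul_cancel_left] at h1
    rw [hv]
    exact (heS₁ s hs).mul_left (Commute.inv_left (mul_inv_eq_iff_eq_mul.1 h1))
  have hS₁1 : ⁅S, zpowers v⁆ = ⊥ := by
    refine CfsgLib.Coprime.commutator_eq_bot_of_commutator_commutator hAn hcop'
      (Or.inl inferInstance) ?_
    rw [← hS₁, commutator_eq_bot_iff_le_centralizer]
    intro s hs
    rw [mem_centralizer_iff]
    rintro _ ⟨i, rfl⟩
    exact ((hvS₁ s hs).zpow_left i).eq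
  intro s hs
  rw [commutator_eq_bot_iff_le_centralizer] at hS₁1
  exact mem_centralizer_iff.1 (hS₁1 hs) v (mem_zpowers v)

end Abelian

/-- The same for a solvable group. -/
theorem commutes_solvable : ∀ {G : Type u} [Group G] [Finite G] (X E : Subgroup G),
    Odd (Nat.card X) → (∀ e ∈ E, ∀ f ∈ E, e * f = f * e) → Odd (Nat.card E) →
    ∀ (a y : G), a * a = 1 → a ∈ normalizer (X : Set G) → (∀ e ∈ E, a * e * a⁻¹ = e⁻¹) →
    E ≤ normalizer (X : Set G) → (Nat.card E).Coprime (Nat.card X) →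
    y ∈ normalizer (X : Set G) → y ∈ normalizer (E : Set G) → Odd (orderOf y) →
    (∀ s ∈ X, Commute s a → Commute y s) → ∀ e ∈ E, ∀ s ∈ X,
    Commute (e * (y * e * y⁻¹)⁻¹) s := by
  intro G _ _ X
  induction hn : Nat.card X using Nat.strong_induction_on generalizing X with
  | _ n ih =>
    subst hn
    intro E hX hEc hE a y ha haX hinv hEX hcop hyX hyE hy hfix e he
    by_cases hX1 : X = ⊥
    · intro s hs
      rw [hX1, mem_bot] at hs
      rw [hs]
      exact Commute.one_right _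
    haveI hsol : Group.IsSolvable X := CfsgLib.FT.odd_order_solvable hX
    obtain ⟨D, hD⟩ : ∃ D, D = ⁅X, X⁆ := ⟨_, rfl⟩
    have hlt : D < X := by
      haveI : Nontrivial X := (nontrivial_iff_ne_bot X).2 hX1
      have h := (map_subtype_lt_map_subtype (G' := X)).2
        (Group.IsSolvable.commutator_lt_top_of_nontrivial (G := X))
      rwa [commutator_def, map_commutator, ← MonoidHom.range_eq_map, range_subtype, ← hD] at h
    have hnD : ∀ g ∈ normalizer (X : Set G), g ∈ normalizer (D : Set G) := fun g hg => by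
      rw [hD, CfsgLib.Coprime.mem_normalizer_iff_map_conj, Subgroup.map_commutator,
        CfsgLib.Coprime.mem_normalizer_iff_map_conj.1 hg]
    obtain ⟨v, hv⟩ : ∃ v, v = e * (y * e * y⁻¹)⁻¹ := ⟨_, rfl⟩
    rw [← hv]
    have hcopD : (Nat.card E).Coprime (Nat.card D) :=
      hcop.coprime_dvd_right (card_dvd_of_le hlt.le)
    have hlow : ∀ s ∈ D, Commute v s := hv ▸ ih (Nat.card D)
      (Nat.lt_of_le_of_ne (Subgroup.card_le_of_le hlt.le)
        fun h => hlt.ne (eq_of_le_of_card_ge hlt.le h.ge)) D rfl E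
      (hX.of_dvd_nat (card_dvd_of_le hlt.le)) hEc hE a y ha (hnD a haX) hinv
      (fun g hg => hnD g (hEX hg)) hcopD (hnD y hyX) hyE hy
      (fun s hs h => hfix s (hlt.le hs) h) e he
    -- the abelian section
    obtain ⟨W, hW⟩ : ∃ W, W = normalizer (D : Set G) := ⟨_, rfl⟩
    have hXW : X ≤ W := hW ▸ fun g hg => hnD g (le_normalizer hg)
    have hEW : E ≤ W := hW ▸ fun g hg => hnD g (hEX hg)
    have haW : a ∈ W := hW ▸ hnD a haX
    have hyW : y ∈ W := hW ▸ hnD y hyX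
    haveI : (D.subgroupOf W).Normal := by
      rw [hW]; exact normal_subgroupOf_of_le_normalizer le_rfl
    obtain ⟨π, hπ⟩ : ∃ π : W →* W ⧸ D.subgroupOf W, π = QuotientGroup.mk' _ := ⟨_, rfl⟩
    have hπ1 : ∀ z : W, π z = 1 ↔ (z : G) ∈ D := fun z => by
      rw [hπ]; exact QuotientGroup.eq_one_iff z
    have hnorm : ∀ (H : Subgroup G) (g : W), (g : G) ∈ normalizer (H : Set G) →
        π g ∈ normalizer ((H.subgroupOf W).map π : Set (W ⧸ D.subgroupOf W)) := fun H g hg => by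
      refine le_normalizer_map π ⟨g, ?_, rfl⟩
      exact mem_normalizer_iff.2 fun z => mem_normalizer_iff.1 hg (z : G)
    have hSc : ∀ s ∈ (X.subgroupOf W).map π, ∀ t ∈ (X.subgroupOf W).map π, s * t = t * s := by
      rintro _ ⟨s, hs, rfl⟩ _ ⟨t, ht, rfl⟩
      rw [← commutatorElement_eq_one_iff_mul_comm, ← map_commutatorElement, hπ1, hD]
      exact commutator_mem_commutator hs ht
    have hcard : ∀ H : Subgroup G, H ≤ W → Nat.card ((H.subgroupOf W).map π) ∣ Nat.card H :=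
      fun H hH => ((H.subgroupOf W).card_map_dvd π).trans
        (Nat.card_congr (subgroupOfEquivOfLe hH).toEquiv).dvd
    have hab := commutes_abelian hSc (hX.of_dvd_nat (hcard X hXW)) (E := (E.subgroupOf W).map π)
      (by
        rintro _ ⟨s, hs, rfl⟩ _ ⟨t, ht, rfl⟩
        rw [← map_mul, ← map_mul]
        exact congrArg π (Subtype.ext (hEc s hs t ht)))
      (hE.of_dvd_nat (hcard E hEW)) (a := π ⟨a, haW⟩) (y := π ⟨y, hyW⟩)
      (by rw [← map_mul, show (⟨a, haW⟩ : W) * ⟨a, haW⟩ = 1 from Subtype.ext ha, map_one])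
      (hnorm X _ haX)
      (by
        rintro _ ⟨s, hs, rfl⟩
        rw [← map_inv, ← map_mul, ← map_mul, ← map_inv]
        exact congrArg π (Subtype.ext (hinv s hs)))
      (by
        rintro _ ⟨s, hs, rfl⟩
        exact hnorm X s (hEX hs))
      ((hcop.coprime_dvd_left (hcard E hEW)).coprime_dvd_right (hcard X hXW))
      (hnorm E _ hyE) (hy.of_dvd_nat ((orderOf_map_dvd π _).trans (by rw [orderOf_mk])))
      (by
        intro s hs hsa
        have hAn : zpowers (⟨a, haW⟩ : W) ≤ normalizer (X.subgroupOf W : Set W) :=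
          zpowers_le.2 (mem_normalizer_iff.2 fun z => mem_normalizer_iff.1 haX (z : G))
        have hcop2 : (Nat.card ↥(zpowers (⟨a, haW⟩ : W))).Coprime (Nat.card (X.subgroupOf W)) := by
          rw [Nat.card_zpowers, orderOf_mk, Nat.card_congr (subgroupOfEquivOfLe hXW).toEquiv]
          exact (Nat.coprime_two_left.2 hX).coprime_dvd_left
            (orderOf_dvd_of_pow_eq_one (by rw [pow_two, ha]))
        have hm : s ∈ (X.subgroupOf W).map π ⊓ centralizer ((zpowers (⟨a, haW⟩ : W)).map π :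
            Set (W ⧸ D.subgroupOf W)) := by
          refine mem_inf.2 ⟨hs, ?_⟩
          rw [MonoidHom.map_zpowers, mem_centralizer_iff]
          rintro _ ⟨i, rfl⟩
          exact (hsa.zpow_right i).eq.symm
        rw [← CfsgLib.Coprime.map_inf_centralizer π hAn hcop2 (Or.inl inferInstance)] at hm
        obtain ⟨t, ⟨ht, htc⟩, rfl⟩ := hm
        rw [Commute, SemiconjBy, ← map_mul, ← map_mul]
        refine congrArg π (Subtype.ext ?_)
        exact hfix t ht (congrArg Subtype.val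
          (mem_centralizer_iff.1 htc _ (mem_zpowers _))).symm)
      (e := π ⟨e, hEW he⟩) ⟨⟨e, hEW he⟩, he, rfl⟩
    have hvW : v ∈ W := hv ▸ mul_mem (hEW he) (inv_mem (mul_mem (mul_mem hyW (hEW he)) (inv_mem hyW)))
    have hmod : ∀ s ∈ X, ⁅s, v⁆ ∈ D := by
      intro s hs
      have h := hab (π ⟨s, hXW hs⟩) ⟨⟨s, hXW hs⟩, hs, rfl⟩
      have hπv : π ⟨v, hvW⟩ = π ⟨e, hEW he⟩ *
          (π ⟨y, hyW⟩ * π ⟨e, hEW he⟩ * (π ⟨y, hyW⟩)⁻¹)⁻¹ := by
        simp only [← map_mul, ← map_inv]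
        exact congrArg π (Subtype.ext hv)
      rw [← hπv] at h
      exact (hπ1 ⁅(⟨s, hXW hs⟩ : W), ⟨v, hvW⟩⁆).1 (by
        rw [map_commutatorElement]
        exact commutatorElement_eq_one_iff_commute.2 h.symm)
    have hvX : v ∈ normalizer (X : Set G) := hv ▸ mul_mem (hEX he)
      (inv_mem (mul_mem (mul_mem hyX (hEX he)) (inv_mem hyX)))
    have hcop' : (Nat.card ↥(zpowers v)).Coprime (Nat.card X) := by
      rw [Nat.card_zpowers]
      refine hcop.coprime_dvd_left (Subgroup.orderOf_dvd_natCard _ ?_)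
      rw [hv]
      exact mul_mem he (inv_mem ((mem_normalizer_iff.1 hyE e).1 he))
    have hc : ⁅X, zpowers v⁆ = ⊥ := by
      refine CfsgLib.Coprime.commutator_eq_bot_of_commutator_commutator (zpowers_le.2 hvX) hcop'
        (Or.inl inferInstance) ?_
      have hle : ⁅X, zpowers v⁆ ≤ D := by
        haveI : (D.subgroupOf W).Normal := inferInstance
        refine commutator_le.2 fun s hs w hw => ?_
        obtain ⟨i, rfl⟩ := hw
        have h1 : Commute (π ⟨s, hXW hs⟩) (π ⟨v, hvW⟩) := by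
          rw [← commutatorElement_eq_one_iff_commute, ← map_commutatorElement, hπ1]
          exact hmod s hs
        have h2 := h1.zpow_right i
        rw [← map_zpow, ← commutatorElement_eq_one_iff_commute, ← map_commutatorElement, hπ1] at h2
        exact h2
      rw [eq_bot_iff]
      refine (commutator_mono hle le_rfl).trans (le_of_eq ?_)
      rw [commutator_eq_bot_iff_le_centralizer]
      intro s hs
      rw [mem_centralizer_iff]
      rintro _ ⟨i, rfl⟩
      exact ((hlow s hs).zpow_left i).eq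
    intro s hs
    rw [commutator_eq_bot_iff_le_centralizer] at hc
    exact mem_centralizer_iff.1 (hc hs) v (mem_zpowers v)

end CfsgLib.GW.Nilp
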