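import Cfsg.Agent.Lib.GW.Basic
import Cfsg.Agent.Lib.GW.Quadratic
import Cfsg.Agent.Lib.GW.NilpGroup
import Cfsg.Agent.Lib.Comp.BenderPair
import Cfsg.Agent.Lib.Transfer.Basic
import Cfsg.Agent.S1312

/-!
A maximal subgroup with a normal 2-complement over the centralizer of an involution: the Fitting
subgroup, and the maximal subgroups it leads to.
-/

set_option autoImplicit false
set_option linter.unusedSectionVars false
set_option linter.style.haveILetI false

namespace CfsgLib.GW.Nilp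

open Subgroup CfsgLib.Invol CfsgLib.Comp
open scoped commutatorElement

universe u

variable {G : Type u} [Group G] [Finite G]

/-- The Fitting subgroup of a subgroup, in `G`. -/
def fit (H : Subgroup G) : Subgroup G := (Cfsg.fittingSubgroup ↥H).map H.subtype

/-- The odd core of a subgroup, in `G`. -/
def core (H : Subgroup G) : Subgroup G := (Cfsg.oddCore ↥H).map H.subtype

theorem fit_le (H : Subgroup G) : fit H ≤ H := map_subtype_le _

theorem isNilpotent_fit (H : Subgroup G) : Group.IsNilpotent (fit H) := by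
  haveI := isNilpotent_fittingSubgroup H
  exact Group.nilpotent_of_mulEquiv ((Cfsg.fittingSubgroup ↥H).equivMapOfInjective _ H.subtype_injective)

theorem card_fit (H : Subgroup G) : Nat.card (fit H) = Nat.card (Cfsg.fittingSubgroup ↥H) :=
  card_map_of_injective H.subtype_injective

theorem le_normalizer_fit (H : Subgroup G) : H ≤ normalizer (fit H : Set G) := by
  haveI := CfsgLib.Comp.fittingSubgroup_normal ↥H
  intro x hx
  refine mem_normalizer_iff_of_finite fun z hz => ?_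
  obtain ⟨w, hw, rfl⟩ := hz
  exact ⟨⟨x, hx⟩ * w * ⟨x, hx⟩⁻¹, (inferInstance : (Cfsg.fittingSubgroup ↥H).Normal).conj_mem w hw _, rfl⟩

theorem fit_conj (H : Subgroup G) (g : G) :
    (fit H).map (MulAut.conj g).toMonoidHom = fit (H.map (MulAut.conj g).toMonoidHom) :=
  map_char_conj (fun H => Cfsg.fittingSubgroup H) g
    (fun H => map_fitting ((MulAut.conj g).subgroupMap H)) rfl

theorem radP_conj (p : ℕ) (H : Subgroup G) (g : G) :
    (radP p H).map (MulAut.conj g).toMonoidHom = radP p (H.map (MulAut.conj g).toMonoidHom) :=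
  map_char_conj (fun H => Cfsg.pCore p H) g
    (fun H => map_pCore p ((MulAut.conj g).subgroupMap H)) rfl

theorem radP_le_fit (p : ℕ) [Fact p.Prime] (H : Subgroup G) : radP p H ≤ fit H :=
  map_mono (CfsgLib.Solvable.pCore_le_fittingSubgroup p)

theorem mem_radP_of_mem_fit {H : Subgroup G} {q : ℕ} [Fact q.Prime] {f : G} (hf : f ∈ fit H)
    {k : ℕ} (ho : orderOf f = q ^ k) : f ∈ radP q H := by
  obtain ⟨w, hw, rfl⟩ := hf
  haveI := isNilpotent_fittingSubgroup H
  have hsn : (zpowers w).IsSubnormal := Subgroup.IsSubnormal.trans (zpowers_le.2 hw)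
    (CfsgLib.Solvable.isSubnormal_of_isNilpotent _)
    (CfsgLib.Comp.fittingSubgroup_normal ↥H).isSubnormal
  refine ⟨w, le_pCore_of_isSubnormal hsn ?_ (mem_zpowers w), rfl⟩
  exact IsPGroup.of_card (n := k) (by rw [Nat.card_zpowers, ← orderOf_coe]; exact ho)

theorem le_normalizer_radP_of_conj {H : Subgroup G} {g : G} (p : ℕ) (hg : g ∈ H) :
    g ∈ normalizer (radP p H : Set G) := le_normalizer_radP p H hg

theorem conj_mem_norm {X : Subgroup G} {x g : G} (hg : g ∈ normalizer (X : Set G)) (hx : x ∈ X) :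
    g * x * g⁻¹ ∈ X := (mem_normalizer_iff.1 hg x).1 hx

theorem commute_of_disjoint {A B U : Subgroup G} (hA : U ≤ normalizer (A : Set G))
    (hB : U ≤ normalizer (B : Set G)) (hAU : A ≤ U) (hBU : B ≤ U) (h : A ⊓ B = ⊥) {a b : G}
    (ha : a ∈ A) (hb : b ∈ B) : a * b = b * a := by
  have h1 : a * b * a⁻¹ * b⁻¹ ∈ A ⊓ B := by
    refine mem_inf.2 ⟨?_, mul_mem (conj_mem_norm (hB (hAU ha)) hb) (inv_mem hb)⟩
    rw [show a * b * a⁻¹ * b⁻¹ = a * (b * a⁻¹ * b⁻¹) by group]
    exact mul_mem ha (conj_mem_norm (hA (hBU hb)) (inv_mem ha))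
  rw [h, mem_bot, mul_inv_eq_one, mul_inv_eq_iff_eq_mul] at h1
  exact h1

theorem commute_radP {H : Subgroup G} {p q : ℕ} [Fact p.Prime] [Fact q.Prime] (hpq : p ≠ q)
    {x y : G} (hx : x ∈ radP p H) (hy : y ∈ radP q H) : x * y = y * x := by
  refine commute_of_disjoint (le_normalizer_radP p H)
    (le_normalizer_radP q H) (radP_le p H) (radP_le q H) ?_ hx hy
  exact (IsPGroup.disjoint_of_ne p q hpq _ _ (isPGroup_radP p H) (isPGroup_radP q H)).eq_bot

/-- A 2-subgroup fixes a nontrivial element of a 2-subgroup it normalises. -/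
theorem exists_fixed {P Z : Subgroup G} (hP : IsPGroup 2 P) (hZ : IsPGroup 2 Z)
    (h : P ≤ normalizer (Z : Set G)) (hne : Z ≠ ⊥) :
    ∃ z ∈ Z, z ≠ 1 ∧ ∀ x ∈ P, Commute x z := by
  haveI : Fact (Nat.Prime 2) := ⟨Nat.prime_two⟩
  have hX : IsPGroup 2 ↥(P ⊔ Z) := hP.to_sup_of_normal_right' hZ h
  haveI := hX.isNilpotent
  haveI : (Z.subgroupOf (P ⊔ Z)).Normal :=
    normal_subgroupOf_of_le_normalizer (sup_le h le_normalizer)
  have hne' : Z.subgroupOf (P ⊔ Z) ≠ ⊥ := fun e => hne (by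
    rw [subgroupOf_eq_bot, disjoint_iff, inf_of_le_left le_sup_right] at e; exact e)
  obtain ⟨z, hz, hz1⟩ := (Subgroup.bot_or_exists_ne_one _).resolve_left
    (CfsgLib.Solvable.normal_inf_center_ne_bot _ hne')
  exact ⟨z, hz.1, fun e => hz1 (Subtype.ext e), fun x hx =>
    congrArg Subtype.val (mem_center_iff.1 hz.2 ⟨x, mem_sup_left hx⟩)⟩

/-- Two elements normalising a subgroup inverted by an involution: the commutator centralises. -/
theorem comm_centralizes {E : Subgroup G} {t x : G} (hx : x ∈ normalizer (E : Set G))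
    (hinv : ∀ e ∈ E, t * e * t⁻¹ = e⁻¹) : ⁅x, t⁆ ∈ centralizer (E : Set G) := by
  refine mem_centralizer_iff.2 fun e he => ?_
  have hxe : x⁻¹ * e * x ∈ E := by simpa using conj_mem_norm (inv_mem hx) he
  refine (mul_inv_eq_iff_eq_mul.1 ?_).symm
  have ht : t⁻¹ * e * t = e⁻¹ := by
    have h1 := hinv e⁻¹ (inv_mem he)
    rw [inv_inv] at h1
    calc t⁻¹ * e * t = t⁻¹ * (t * e⁻¹ * t⁻¹) * t := by rw [h1]
      _ = e⁻¹ := by group
  have hxe' : x⁻¹ * e⁻¹ * x ∈ E := by simpa using conj_mem_norm (inv_mem hx) (inv_mem he)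
  calc ⁅x, t⁆ * e * ⁅x, t⁆⁻¹ = x * (t * (x⁻¹ * (t⁻¹ * e * t) * x) * t⁻¹) * x⁻¹ := by
        rw [commutatorElement_def]; group
    _ = x * (x⁻¹ * e⁻¹ * x)⁻¹ * x⁻¹ := by rw [ht, hinv _ hxe']
    _ = e := by group

/-- An abelian subgroup inverted by one involution, with no fixed points for two others. -/
theorem eq_bot_of_three {E : Subgroup G} (hE : Odd (Nat.card E)) {a b : G} (hb : b * b = 1)
    (hbE : b ∈ normalizer (E : Set G)) (hinv : ∀ e ∈ E, a * e * a⁻¹ = e⁻¹)
    (h1 : ∀ e ∈ E, Commute e b → e = 1) (h2 : ∀ e ∈ E, Commute e (a * b) → e = 1) : E = ⊥ := by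
  refine (eq_bot_iff_forall _).2 fun e he => h2 e he ?_
  have hb' := inverts_of_free hE hb hbE h1 he
  refine (mul_inv_eq_iff_eq_mul.1 ?_).symm
  calc a * b * e * (a * b)⁻¹ = a * (b * e * b⁻¹) * a⁻¹ := by group
    _ = e := by rw [hb', hinv _ (inv_mem he), inv_inv]

/-- A subgroup normalised by a four-group is generated by the fixed points of its involutions. -/
theorem le_of_three {F H : Subgroup G} (hF : Odd (Nat.card F)) {a b : G} (ha : orderOf a = 2)
    (hb : orderOf b = 2) (hab : a ≠ b) (hc : a * b = b * a) (haF : a ∈ normalizer (F : Set G))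
    (hbF : b ∈ normalizer (F : Set G)) (h1 : F ⊓ cI a ≤ H) (h2 : F ⊓ cI b ≤ H)
    (h3 : F ⊓ cI (a * b) ≤ H) : F ≤ H := by
  have ea := invol_mul_self ha
  have eb := invol_mul_self hb
  have e1 : a * (a * b) = b := by rw [← mul_assoc, ea, one_mul]
  have e2 : b * (a * b) = a := by rw [hc, ← mul_assoc, eb, one_mul]
  have e3 : a * b * a = b := by rw [hc, mul_assoc, ea, mul_one]
  have e4 : a * b * b = a := by rw [mul_assoc, eb, mul_one]
  have e5 : a * b * (a * b) = 1 := by rw [← mul_assoc, e3, eb]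
  let A : Subgroup G :=
    { carrier := {x | x = 1 ∨ x = a ∨ x = b ∨ x = a * b}
      one_mem' := Or.inl rfl
      mul_mem' := by
        rintro x y (rfl | rfl | rfl | rfl) (rfl | rfl | rfl | rfl) <;>
          simp [ea, eb, e1, e2, e3, e4, e5, hc.symm]
      inv_mem' := by
        rintro x (rfl | rfl | rfl | rfl)
        · exact Or.inl inv_one
        · exact Or.inr (Or.inl (inv_eq_self ea))
        · exact Or.inr (Or.inr (Or.inl (inv_eq_self eb)))
        · exact Or.inr (Or.inr (Or.inr (inv_eq_self e5))) }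
  have hsq : ∀ x ∈ A, x * x = 1 := by
    rintro x (rfl | rfl | rfl | rfl)
    exacts [one_mul 1, ea, eb, e5]
  have hcomm : IsMulCommutative A := ⟨⟨fun x y => Subtype.ext (by
    have h := hsq _ (mul_mem x.2 y.2)
    calc (x : G) * y = ((x : G) * y)⁻¹ := (inv_eq_self h).symm
      _ = (y : G)⁻¹ * (x : G)⁻¹ := mul_inv_rev _ _
      _ = y * x := by rw [inv_eq_self (hsq _ x.2), inv_eq_self (hsq _ y.2)])⟩⟩
  have hcyc : ¬ IsCyclic A := fun h => by
    obtain ⟨w, hw⟩ := h.exists_generator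
    have hw2 : w ^ 2 = 1 := Subtype.ext (by rw [pow_two]; exact hsq _ w.2)
    have hcases : ∀ z : A, z = 1 ∨ z = w := fun z => by
      obtain ⟨i, rfl⟩ := hw z
      show w ^ i = 1 ∨ w ^ i = w
      rw [← Int.emod_add_ediv_mul i 2, zpow_add, mul_comm _ (2 : ℤ), zpow_mul,
        show w ^ (2 : ℤ) = 1 from (zpow_natCast w 2).trans hw2, one_zpow, mul_one]
      rcases Int.emod_two_eq_zero_or_one i with hi | hi <;> simp [hi]
    rcases hcases ⟨a, Or.inr (Or.inl rfl)⟩ with e | e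
    · exact invol_ne_one ha (congrArg Subtype.val e)
    · rcases hcases ⟨b, Or.inr (Or.inr (Or.inl rfl))⟩ with e' | e'
      · exact invol_ne_one hb (congrArg Subtype.val e')
      · exact hab (congrArg Subtype.val (e.trans e'.symm))
  have hAF : A ≤ normalizer (F : Set G) := by
    rintro x (rfl | rfl | rfl | rfl)
    exacts [one_mem _, haF, hbF, mul_mem haF hbF]
  have hA2 : IsPGroup 2 A := fun x => ⟨1, Subtype.ext (by rw [pow_one, pow_two]; exact hsq _ x.2)⟩
  haveI : Fact (Nat.Prime 2) := ⟨Nat.prime_two⟩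
  obtain ⟨k, hk⟩ := IsPGroup.iff_card.1 hA2
  rw [← CfsgLib.Coprime.iSup_centralizer_eq hcomm hcyc hAF
    (by rw [hk]; exact (Nat.coprime_two_left.2 hF).pow_left k)]
  refine iSup_le ?_
  rintro ⟨x, hx | hx | hx | hx, hx1⟩
  · exact absurd hx hx1
  all_goals subst hx
  exacts [h1, h2, h3]

/-- A maximal subgroup with normal 2-complement properly containing the centralizer of an
involution, with two primes in its Fitting subgroup. -/
structure S (a : G) (K : Subgroup G) : Prop where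
  min : Min G
  ha : orderOf a = 2
  hK : IsCoatom K
  hle : cI a ≤ K
  h2 : Cfsg.HasNormalPComplement 2 K
  hne : K ≠ cI a
  two : ∀ q : ℕ, ∃ r : ℕ, r.Prime ∧ r ≠ q ∧ r ∣ Nat.card (fit K)

theorem S.conj {a : G} {K : Subgroup G} (h : S a K) (g : G) :
    S (g * a * g⁻¹) (K.map (MulAut.conj g).toMonoidHom) where
  min := h.min
  ha := (orderOf_conj_eq _ _).trans h.ha
  hK := (MulEquiv.mapSubgroup (MulAut.conj g)).isCoatom_iff K |>.2 h.hK
  hle := by rw [← cI_conj]; exact map_mono h.hle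
  h2 := CfsgLib.Transfer.hasNormalPComplement_of_surjective
    ((MulAut.conj g).subgroupMap K).toMonoidHom (MulEquiv.surjective _) h.h2
  hne := fun e => h.hne (map_injective (f := (MulAut.conj g).toMonoidHom) (MulEquiv.injective _)
    (e.trans (cI_conj a g).symm))
  two := fun q => by
    rw [← fit_conj, card_map_of_injective (MulEquiv.injective _)]
    exact h.two q

variable {a : G} {K : Subgroup G}

theorem S.self_mem (h : S a K) : a ∈ K := h.hle (self_mem_cI a)

theorem S.mem_of_comm (h : S a K) {x : G} (hx : a * x = x * a) : x ∈ K := h.hle (mem_cI.2 hx.symm)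

theorem S.exists_complement (h : S a K) :
    ∃ (N : Subgroup K) (_ : N.Normal), Odd (Nat.card N) ∧ IsPGroup 2 (K ⧸ N) ∧
      N ≤ Cfsg.oddCore ↥K := by
  haveI : Fact (Nat.Prime 2) := ⟨Nat.prime_two⟩
  obtain ⟨N, hN, hc, hq⟩ := CfsgLib.Transfer.hasNormalPComplement_iff_exists.1 h.h2
  exact ⟨N, hN, Nat.coprime_two_right.1 hc, hq, CfsgLib.Solvable.le_pPrimeCore hN hc⟩

theorem S.mem_core (h : S a K) {x : G} (hx : x ∈ K) (ho : Odd (orderOf x)) : x ∈ core K := by
  obtain ⟨N, hN, -, hq, hle⟩ := h.exists_complement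
  haveI := hN
  refine ⟨⟨x, hx⟩, hle ((QuotientGroup.eq_one_iff _).1 ?_), rfl⟩
  obtain ⟨j, hj⟩ := hq (QuotientGroup.mk' N ⟨x, hx⟩)
  refine orderOf_eq_one_iff.1 (Nat.eq_one_of_dvd_coprimes (a := orderOf x) (b := 2 ^ j)
    ((Nat.coprime_two_right.2 ho).pow_right j) ?_ (orderOf_dvd_of_pow_eq_one hj))
  exact (orderOf_map_dvd (QuotientGroup.mk' N) (⟨x, hx⟩ : K)).trans (orderOf_mk x hx).dvd

theorem core_le (K : Subgroup G) : core K ≤ K := map_subtype_le _

theorem odd_core (K : Subgroup G) : Odd (Nat.card (core K)) := by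
  rw [core, card_map_of_injective K.subtype_injective]
  exact Nat.coprime_two_right.1 (CfsgLib.Solvable.pPrimeCore_coprime 2)

theorem le_normalizer_core (K : Subgroup G) : K ≤ normalizer (core K : Set G) := by
  haveI : (Cfsg.oddCore ↥K).Normal := CfsgLib.Solvable.pPrimeCore_normal 2 ↥K
  intro x hx
  refine mem_normalizer_iff_of_finite fun z hz => ?_
  obtain ⟨w, hw, rfl⟩ := hz
  exact ⟨⟨x, hx⟩ * w * ⟨x, hx⟩⁻¹, (inferInstance : (Cfsg.oddCore ↥K).Normal).conj_mem w hw _, rfl⟩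

theorem S.solvable (h : S a K) : Group.IsSolvable K := by
  obtain ⟨N, hN, hNo, hq, -⟩ := h.exists_complement
  haveI := hN
  haveI : Group.IsSolvable N := CfsgLib.FT.odd_order_solvable hNo
  haveI : Fact (Nat.Prime 2) := ⟨Nat.prime_two⟩
  haveI : Group.IsNilpotent (K ⧸ N) := hq.isNilpotent
  haveI : Group.IsSolvable (K ⧸ N) := inferInstance
  exact Group.isSolvable_of_ker_le_range N.subtype (QuotientGroup.mk' N)
    (by rw [QuotientGroup.ker_mk', range_subtype])

theorem S.layer_eq (h : S a K) : Cfsg.layer ↥K = ⊥ := by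
  haveI := h.solvable
  exact (centralizer_fitting_le_iff _).1 CfsgLib.Solvable.centralizer_fittingSubgroup_le

theorem S.genFit (h : S a K) : Cfsg.generalizedFittingSubgroup ↥K = Cfsg.fittingSubgroup ↥K := by
  rw [Cfsg.generalizedFittingSubgroup, h.layer_eq, bot_sup_eq]

theorem S.cent_fit (h : S a K) {x : G} (hx : x ∈ K) (hc : ∀ y ∈ fit K, x * y = y * x) :
    x ∈ fit K := by
  haveI := h.solvable
  refine ⟨⟨x, hx⟩, CfsgLib.Solvable.centralizer_fittingSubgroup_le ?_, rfl⟩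
  exact mem_centralizer_iff.2 fun w hw => Subtype.ext (hc _ ⟨w, hw, rfl⟩).symm

/-- The commutator of `a` with an element of `K` lies in the odd core. -/
theorem S.comm_mem_core (h : S a K) {x : G} (hx : x ∈ K) : ⁅x, a⁆ ∈ core K := by
  obtain ⟨N, hN, hNo, hq, hle⟩ := h.exists_complement
  haveI := hN
  haveI : Fact (Nat.Prime 2) := ⟨Nat.prime_two⟩
  obtain ⟨T, haT, hT⟩ := h.min.exists_sylow h.ha
  have hTK : (T : Subgroup G) ≤ K := hT.trans h.hle
  obtain ⟨j, hj⟩ := IsPGroup.iff_card.1 hq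
  -- the image of `T` is the whole quotient
  have hsup : N ⊔ (T.subtype hTK : Subgroup K) = ⊤ :=
    CfsgLib.Transfer.sup_sylow_eq_top (T.subtype hTK) (by rw [← hj, Subgroup.index_eq_card])
  have hxm : (⟨x, hx⟩ : K) ∈ N ⊔ (T.subtype hTK : Subgroup K) := hsup ▸ mem_top _
  obtain ⟨n, hn, t, ht, e⟩ := exists_mul_of_mem_sup
    (le_top.trans_eq (normalizer_eq_top_iff.2 hN).symm) (by rwa [sup_comm] at hxm ⊢)
  have htG : (t : G) ∈ (T : Subgroup G) := ht
  have hta : (t : G) * a = a * t := mem_cI.1 (hT htG)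
  refine ⟨n * (⟨a, h.self_mem⟩ * n⁻¹ * (⟨a, h.self_mem⟩ : K)⁻¹),
    hle (mul_mem hn (hN.conj_mem _ (inv_mem hn) _)), ?_⟩
  show (n : G) * (a * (n : G)⁻¹ * a⁻¹) = ⁅x, a⁆
  rw [show x = (n : G) * t from (congrArg Subtype.val e).symm, commutatorElement_def]
  calc (n : G) * (a * (n : G)⁻¹ * a⁻¹) = (n : G) * (a * t * (t : G)⁻¹) * (n : G)⁻¹ * a⁻¹ := by group
    _ = _ := by rw [← hta]; group

theorem S.isPGroup_radP_two_eq_bot (h : S a K) : radP 2 K = ⊥ := by
  by_contra hne
  haveI : Fact (Nat.Prime 2) := ⟨Nat.prime_two⟩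
  obtain ⟨T, haT, hT⟩ := h.min.exists_sylow h.ha
  obtain ⟨N, hN, hNo, hq, -⟩ := h.exists_complement
  haveI := hN
  have hTK : (T : Subgroup G) ≤ K := hT.trans h.hle
  obtain ⟨z, hz, hz1, hzT⟩ := exists_fixed T.2 (isPGroup_radP 2 K)
    (hTK.trans (le_normalizer_radP 2 K)) hne
  obtain ⟨j, hj⟩ := (IsPGroup.iff_card (p := 2)).1 (isPGroup_radP 2 K)
  obtain ⟨m, hm, hom⟩ : ∃ m, m ∈ zpowers z ∧ orderOf m = 2 := by
    obtain ⟨l, -, hl⟩ := (Nat.dvd_prime_pow Nat.prime_two).1 (hj ▸ Subgroup.orderOf_dvd_natCard _ hz)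
    rcases l with _ | l
    · exact absurd (orderOf_eq_one_iff.1 hl) hz1
    · refine ⟨z ^ 2 ^ l, pow_mem (mem_zpowers z) _, ?_⟩
      rw [orderOf_pow' z (by positivity), hl, Nat.gcd_eq_right (Dvd.intro 2 (pow_succ 2 l).symm),
        pow_succ, Nat.mul_div_cancel_left _ (by positivity)]
  have hmZ : m ∈ radP 2 K := zpowers_le.2 hz hm
  have hKm : K ≤ cI m := by
    intro x hx
    obtain ⟨k, hk⟩ := IsPGroup.iff_card.1 hq
    have hsup : N ⊔ (T.subtype hTK : Subgroup K) = ⊤ :=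
      CfsgLib.Transfer.sup_sylow_eq_top (T.subtype hTK) (by rw [← hk, Subgroup.index_eq_card])
    have hN' : N ≤ (cI m).subgroupOf K := by
      intro n hn
      refine mem_cI.2 (commute_of_disjoint (A := N.map K.subtype)
        (B := radP 2 K) ?_ (le_normalizer_radP 2 K) (map_subtype_le _) (radP_le 2 K) ?_
        ⟨n, hn, rfl⟩ hmZ)
      · exact fun y hy => mem_normalizer_iff_of_finite fun w hw => by
          obtain ⟨w', hw', rfl⟩ := hw
          exact ⟨⟨y, hy⟩ * w' * ⟨y, hy⟩⁻¹, hN.conj_mem _ hw' _, rfl⟩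
      · refine Subgroup.inf_eq_bot_of_coprime ?_
        rw [card_map_of_injective K.subtype_injective, hj]
        exact (Nat.coprime_two_right.2 hNo).pow_right j
    have hT' : (T.subtype hTK : Subgroup K) ≤ (cI m).subgroupOf K := fun t ht => by
      have hc := hzT (t : G) ht
      obtain ⟨i, rfl⟩ := hm
      exact mem_cI.2 (hc.zpow_right i).eq
    exact mem_subgroupOf.1 (sup_le hN' hT' (hsup ▸ mem_top (⟨x, hx⟩ : K)))
  obtain ⟨y, hy⟩ := isConj_iff.1 (h.min.one_class h.ha hom)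
  have hcard : Nat.card (cI m) = Nat.card (cI a) := by
    rw [← hy, ← cI_conj, card_map_of_injective (MulEquiv.injective _)]
  exact h.hne (eq_of_le_of_card_ge h.hle (hcard ▸ card_dvd_of_le hKm |> Nat.le_of_dvd Nat.card_pos)).symm

theorem S.odd_fit (h : S a K) : Odd (Nat.card (fit K)) := by
  rw [card_fit, Nat.odd_iff, ← Nat.two_dvd_ne_zero]
  exact fun hd => radP_ne_bot_of_dvd Nat.prime_two hd h.isPGroup_radP_two_eq_bot

theorem S.fit_le_core (h : S a K) : fit K ≤ core K := fun _ hx =>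
  h.mem_core (fit_le K hx) (odd_orderOf h.odd_fit hx)

theorem S.fitting_core_le (_h : S a K) :
    (Cfsg.fittingSubgroup ↥(core K)).map (core K).subtype ≤ fit K := by
  obtain ⟨X, hX⟩ : ∃ X, X = (Cfsg.fittingSubgroup ↥(core K)).map (core K).subtype := ⟨_, rfl⟩
  rw [← hX]
  have hXR : X ≤ core K := hX ▸ map_subtype_le _
  have hXK : X ≤ K := hXR.trans (core_le K)
  rw [← map_subgroupOf_eq_of_le hXK]
  refine map_mono (CfsgLib.Solvable.le_fittingSubgroup (normal_subgroupOf_of_le_normalizer ?_) ?_)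
  · intro x hx
    refine mem_normalizer_iff_of_finite fun z hz => ?_
    have e : (core K).map (MulAut.conj x).toMonoidHom = core K :=
      CfsgLib.Coprime.mem_normalizer_iff_map_conj.1 (le_normalizer_core K hx)
    have h1 := fit_conj (core K) x
    rw [e] at h1
    rw [hX] at hz ⊢
    exact h1.le ⟨z, hz, rfl⟩
  · haveI := isNilpotent_fittingSubgroup (core K)
    exact Group.nilpotent_of_mulEquiv (((Cfsg.fittingSubgroup ↥(core K)).equivMapOfInjective _
      (core K).subtype_injective).trans ((MulEquiv.subgroupCongr hX.symm).trans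
      (subgroupOfEquivOfLe hXK).symm))

/-- An element inverted by `t` which centralises the fixed points of `t` on the Fitting subgroup
lies in it. -/
theorem S.mem_fit_of_inv (h : S a K) {t β : G} (ht : t * t = 1) (htK : t ∈ K) (hβ : β ∈ K)
    (ho : Odd (orderOf β)) (hinv : t * β * t⁻¹ = β⁻¹)
    (hfix : ∀ x ∈ fit K, t * x = x * t → β * x = x * β) : β ∈ fit K :=
  h.fitting_core_le (mem_fitting_of_conj_inv (odd_core K) ht (le_normalizer_core K htK)
    (h.mem_core hβ ho) hinv fun x hx => hfix x (h.fitting_core_le hx))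

/-- `a` does not centralise the Fitting subgroup. -/
theorem S.not_cent (h : S a K) : ¬ fit K ≤ cI a := fun hle => by
  have h1 : a ∈ fit K := h.cent_fit h.self_mem fun y hy => (mem_cI.1 (hle hy)).symm
  exact absurd (h.ha ▸ odd_orderOf h.odd_fit h1) (by decide)

/-- `[F(K), a]`. -/
def uP (a : G) (K : Subgroup G) : Subgroup G := ⁅fit K, zpowers a⁆

theorem S.uP_le (h : S a K) : uP a K ≤ fit K :=
  le_normalizer_iff_commutator_le_left.mp (zpowers_le.2 (le_normalizer_fit K h.self_mem))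

theorem S.uP_ne_bot (h : S a K) : uP a K ≠ ⊥ := fun e => h.not_cent fun x hx => by
  have h1 : ⁅x, a⁆ = 1 := mem_bot.1 (e ▸ comm_mem_commutator hx)
  exact mem_cI.2 (commutatorElement_eq_one_iff_mul_comm.1 h1)

theorem S.le_normalizer_uP (h : S a K) {x : G} (hx : a * x = x * a) :
    x ∈ normalizer (uP a K : Set G) := by
  rw [CfsgLib.Coprime.mem_normalizer_iff_map_conj, uP, Subgroup.map_commutator,
    CfsgLib.Coprime.mem_normalizer_iff_map_conj.1 (le_normalizer_fit K (h.mem_of_comm hx)),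
    MonoidHom.map_zpowers]
  congr 2
  show x * a * x⁻¹ = a
  rw [← hx, mul_inv_cancel_right]

theorem S.fit_le_normalizer_uP (h : S a K) : fit K ≤ normalizer (uP a K : Set G) :=
  Subgroup.normalizer_commutator_ge_left (fit K) (zpowers a)

variable {N : Subgroup G}

theorem S.genFit_le (h : S a K) {Q : Subgroup G} (hQ : Q ≠ ⊥) (hQF : Q ≤ fit K)
    (hN : fit K ⊓ normalizer (Q : Set G) ≤ N) : Cfsg.leadsTo K N :=
  ⟨Q, hQ, hQF, by rw [h.genFit]; exact hN⟩

theorem S.radP_le_of_dvd (h : S a K) (hl : Cfsg.leadsTo K N) {q : ℕ} (hq : q.Prime)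
    (hd : q ∣ Nat.card (fit K)) : radP q N ≤ K := by
  haveI := h.min.simple
  obtain ⟨r, hr, hrq, hrd⟩ := h.two q
  rw [card_fit] at hd hrd
  exact leadsTo_radP_le h.hK hl hq hr hrq hd hrd

theorem S.radP_inf (_h : S a K) (hl : Cfsg.leadsTo K N) {q : ℕ} (hq : q.Prime)
    (hd : ¬ q ∣ Nat.card (fit K)) : radP q N ⊓ K = ⊥ := by
  rw [card_fit] at hd
  exact leadsTo_radP_inf hl hq hd

theorem S.radP_free (h : S a K) (hl : Cfsg.leadsTo K N) {q : ℕ} (hq : q.Prime)
    (hd : ¬ q ∣ Nat.card (fit K)) {e : G} (he : e ∈ radP q N) (hc : Commute e a) : e = 1 :=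
  mem_bot.1 (h.radP_inf hl hq hd ▸ mem_inf.2 ⟨he, h.mem_of_comm hc.eq.symm⟩)

theorem S.radP_two (h : S a K) (hl : Cfsg.leadsTo K N) (haN : a ∈ N) : radP 2 N = ⊥ := by
  by_contra hne
  obtain ⟨z, hz, hz1, hza⟩ := exists_fixed ((IsPGroup.of_card (n := 1) (by rw [Nat.card_zpowers, h.ha, pow_one]) :
      IsPGroup 2 (zpowers a)))
    (isPGroup_radP 2 N) (zpowers_le.2 (le_normalizer_radP 2 N haN)) hne
  exact hz1 (h.radP_free hl Nat.prime_two (h.odd_fit.not_two_dvd_nat) hz
    (hza a (mem_zpowers a)).symm)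

theorem odd_radP {q : ℕ} (hq : q.Prime) (hq2 : q ≠ 2) (N : Subgroup G) :
    Odd (Nat.card (radP q N)) := by
  haveI := Fact.mk hq
  obtain ⟨k, hk⟩ := IsPGroup.iff_card.1 (isPGroup_radP q N)
  rw [hk]
  exact (hq.odd_of_ne_two hq2).pow

theorem S.radP_inverts (h : S a K) (hl : Cfsg.leadsTo K N) (haN : a ∈ N) {q : ℕ} (hq : q.Prime)
    (hq2 : q ≠ 2) (hd : ¬ q ∣ Nat.card (fit K)) {e : G} (he : e ∈ radP q N) :
    a * e * a⁻¹ = e⁻¹ :=
  inverts_of_free (odd_radP hq hq2 N) (invol_mul_self h.ha) (le_normalizer_radP q N haN)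
    (fun _ hx hc => h.radP_free hl hq hd hx hc) he

/-- A layer free maximal subgroup, to which `K` leads, with all radicals in `K`, is `K`. -/
theorem S.eq_of_leads (h : S a K) (hN : IsCoatom N) (haN : a ∈ N) (hlayer : Cfsg.layer ↥N = ⊥)
    (hl : Cfsg.leadsTo K N) (hrad : ∀ q : Nat.Primes, radP (q : ℕ) N ≤ K) : N = K := by
  haveI := h.min.simple
  have gN : Cfsg.generalizedFittingSubgroup N = Cfsg.fittingSubgroup N := by
    rw [Cfsg.generalizedFittingSubgroup, hlayer, bot_sup_eq]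
  have hFle : fit N ≤ K := (fitting_map_eq N).le.trans (iSup_le hrad)
  have hFne : fit N ≠ ⊥ := fun e => by
    have e' := (map_eq_bot_iff_of_injective _ N.subtype_injective).1 e
    have hc := (centralizer_fitting_le_iff N).2 hlayer
    rw [e'] at hc
    have : (⟨a, haN⟩ : N) ∈ (⊥ : Subgroup N) := hc (mem_centralizer_iff.2 fun y hy => by
      rw [mem_bot.1 hy, one_mul, mul_one])
    exact invol_ne_one h.ha (congrArg Subtype.val (mem_bot.1 this))
  have hl' : Cfsg.leadsTo N K :=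
    ⟨fit N, hFne, le_rfl, by rw [gN]; exact inf_le_left.trans hFle⟩
  obtain ⟨r, hr, -, hrd⟩ := h.two 0
  obtain ⟨s, hs, hsr, hsd⟩ := h.two r
  rw [card_fit] at hrd hsd
  have hrN := dvd_of_leadsTo_symm hl hl' hr hrd
  have hsN := dvd_of_leadsTo_symm hl hl' hs hsd
  have hHle : ∀ q : Nat.Primes, radP (q : ℕ) K ≤ N := fun q => by
    haveI := Fact.mk q.2
    by_cases hb : radP (q : ℕ) K = ⊥
    · rw [hb]; exact bot_le
    have hd : (q : ℕ) ∣ Nat.card (Cfsg.fittingSubgroup N) := by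
      refine dvd_of_leadsTo_symm hl hl' q.2 (dvd_trans ?_
        (card_dvd_of_le (CfsgLib.Solvable.pCore_le_fittingSubgroup (q : ℕ))))
      haveI := (nontrivial_iff_ne_bot _).2 (fun e => hb (by rw [radP, e, Subgroup.map_bot]) :
        Cfsg.pCore (q : ℕ) ↥K ≠ ⊥)
      exact (isPGroup_pCore (q : ℕ) ↥K).card_eq_or_dvd.resolve_left Finite.one_lt_card.ne'
    by_cases e : (q : ℕ) = r
    · exact leadsTo_radP_le hN hl' q.2 hs (by omega) hd hsN
    · exact leadsTo_radP_le hN hl' q.2 hr (Ne.symm e) hd hrN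
  by_contra hne
  obtain ⟨p, hp, hpK, -⟩ := Cfsg.Agent.S1312.result h.min.noncomm K N h.hK hN (Ne.symm hne)
    (by rw [h.genFit, fitting_map_eq]; exact iSup_le hHle) (by rw [gN]; exact hFle)
  rw [h.genFit] at hpK
  haveI := Fact.mk hp
  obtain ⟨k, hk⟩ := (IsPGroup.iff_card (p := p)).1 hpK
  rw [hk] at hrd hsd
  exact hsr (((Nat.prime_dvd_prime_iff_eq hs hp).1 (hs.dvd_of_dvd_pow hsd)).trans
    ((Nat.prime_dvd_prime_iff_eq hr hp).1 (hr.dvd_of_dvd_pow hrd)).symm)

/-- The same, when the new radicals vanish. -/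
theorem S.eq_of_vanish (h : S a K) (hN : IsCoatom N) (haN : a ∈ N)
    (hlayer : Cfsg.layer ↥N = ⊥) (hl : Cfsg.leadsTo K N)
    (hv : ∀ q : ℕ, q.Prime → q ≠ 2 → ¬ q ∣ Nat.card (fit K) →
      (∀ e ∈ radP q N, a * e * a⁻¹ = e⁻¹) → radP q N = ⊥) : N = K := by
  refine h.eq_of_leads hN haN hlayer hl fun q => ?_
  by_cases hd : (q : ℕ) ∣ Nat.card (fit K)
  · exact h.radP_le_of_dvd hl q.2 hd
  by_cases hq2 : (q : ℕ) = 2
  · rw [hq2, h.radP_two hl haN]; exact bot_le
  · rw [hv q q.2 hq2 hd fun _ he => h.radP_inverts hl haN q.2 hq2 hd he]; exact bot_le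

end CfsgLib.GW.Nilp
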