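import Cfsg.Agent.Lib.GW.NilpBase

/-!
A maximal subgroup with a normal 2-complement over the centralizer of an involution, with two
primes in its Fitting subgroup, is that centralizer: given the facts on components.
-/

set_option autoImplicit false
set_option linter.unusedSectionVars false
set_option linter.style.haveILetI false

namespace CfsgLib.GW.Nilp

open Subgroup CfsgLib.Invol CfsgLib.Comp
open scoped commutatorElement

universe u

variable {G : Type u} [Group G] [Finite G]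

/-- The facts used on a component `L` of a maximal subgroup `N`: everything is modulo `Z(L)`. -/
structure CompFacts (N L : Subgroup G) : Prop where
  norm : N ≤ normalizer (L : Set G)
  four : ∀ x y : G, orderOf x = 2 → orderOf y = 2 → x ≠ y → x * y = y * x → x ∈ N → y ∈ N →
    x ∈ L ∨ y ∈ L ∨ x * y ∈ L
  cent : ∀ x : G, orderOf x = 2 → cI x ≤ N → x ∈ L
  overgroup : ∀ x : G, orderOf x = 2 → x ∈ N → ∀ H : Subgroup G, H ≤ L →
    Cfsg.HasNormalPComplement 2 H → L ⊓ cI x ≤ H →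
    ∀ h ∈ H, h * x * h⁻¹ * x⁻¹ ∈ L ⊓ centralizer (L : Set G)
  outer : ∀ x y : G, orderOf x = 2 → x ∈ N → x ∉ L → y ∈ N → Odd (orderOf y) →
    x * y * x⁻¹ = y⁻¹ → (∀ j ∈ L ⊓ cI x, y * j * y⁻¹ * j⁻¹ ∈ L ⊓ centralizer (L : Set G)) →
    y ∈ centralizer (L : Set G)
  not2 : ¬ Cfsg.HasNormalPComplement 2 L

/-- The component facts: every maximal subgroup with an involution and a component has them. -/
def CompStmt : Prop :=
  ∀ (G : Type u) [Group G] [Finite G], Min G → ∀ N : Subgroup G, IsCoatom N →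
    (∃ x ∈ N, orderOf x = 2) → Cfsg.layer ↥N ≠ ⊥ → ∃ L : Subgroup G, CompFacts N L

/-- An element normalising `L` normalises `Z(L)`. -/
theorem conj_mem_center {L : Subgroup G} {x w : G} (hx : x ∈ normalizer (L : Set G))
    (hw : w ∈ L ⊓ centralizer (L : Set G)) : x * w * x⁻¹ ∈ L ⊓ centralizer (L : Set G) := by
  refine mem_inf.2 ⟨conj_mem_norm hx hw.1, mem_centralizer_iff.2 fun l hl => ?_⟩
  have h1 := mem_centralizer_iff.1 hw.2 (x⁻¹ * l * x) (by simpa using conj_mem_norm (inv_mem hx) hl)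
  calc l * (x * w * x⁻¹) = x * (x⁻¹ * l * x * w) * x⁻¹ := by group
    _ = x * (w * (x⁻¹ * l * x)) * x⁻¹ := by rw [h1]
    _ = x * w * x⁻¹ * l := by group

/-- The commutator lies in `L` when one of the involutions does. -/
theorem comm_mem_of_mem {L : Subgroup G} {x t : G} (hx : x ∈ normalizer (L : Set G)) (ht : t ∈ L) :
    ⁅x, t⁆ ∈ L := by
  rw [commutatorElement_def]
  exact mul_mem (conj_mem_norm hx ht) (inv_mem ht)

variable {a b g : G} {K N L : Subgroup G}

theorem S.next (h : S a K) (f : Four a b g) :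
    S b (K.map (MulAut.conj g).toMonoidHom) := by
  have h' := h.conj g
  rwa [f.ga] at h'

theorem mem_cI_conj {x y : G} (hx : Commute x y) (g : G) :
    Commute (g * x * g⁻¹) (g * y * g⁻¹) := by
  show g * x * g⁻¹ * (g * y * g⁻¹) = g * y * g⁻¹ * (g * x * g⁻¹)
  calc g * x * g⁻¹ * (g * y * g⁻¹) = g * (x * y) * g⁻¹ := by group
    _ = g * (y * x) * g⁻¹ := by rw [hx.eq]
    _ = _ := by group

theorem S.mem_comm_center (h : S a K) (hC : CompFacts N L) (haN : a ∈ N) {x : G} (hx : x ∈ K)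
    (hd : ⁅x, a⁆ ∈ L) : ⁅x, a⁆ ∈ L ⊓ centralizer (L : Set G) := by
  have hH : Cfsg.HasNormalPComplement 2 ↥(L ⊓ K) :=
    CfsgLib.Transfer.hasNormalPComplement_of_injective (inclusion inf_le_right)
      (inclusion_injective _) h.h2
  have hdR := h.comm_mem_core hx
  obtain ⟨d, hdef⟩ : ∃ d, d = ⁅x, a⁆ := ⟨_, rfl⟩
  rw [← hdef] at hd hdR ⊢
  have h1 := hC.overgroup a h.ha haN (L ⊓ K) inf_le_left hH (inf_le_inf_left L h.hle) d
    (mem_inf.2 ⟨hd, core_le K hdR⟩)
  have hinv : a * d⁻¹ * a⁻¹ = d := by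
    rw [show a * d⁻¹ * a⁻¹ = (a * d * a⁻¹)⁻¹ by group, hdef, conj_comm_invol (invol_mul_self h.ha),
      inv_inv]
  have e : d * a * d⁻¹ * a⁻¹ = d ^ 2 := by
    calc d * a * d⁻¹ * a⁻¹ = d * (a * d⁻¹ * a⁻¹) := by group
      _ = d ^ 2 := by rw [hinv, pow_two]
  rw [e] at h1
  obtain ⟨n, hn⟩ := odd_orderOf (odd_core K) hdR
  have hp := pow_mem h1 (n + 1)
  rwa [← pow_mul, show 2 * (n + 1) = orderOf d + 1 by omega, pow_succ, pow_orderOf_eq_one,
    one_mul] at hp

/-- An element of `F(K)` commutes with `a` when its commutator lies in a component with `a`. -/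
theorem S.commute_of_mem (h : S a K) (hC : CompFacts N L) (haN : a ∈ N) (haL : a ∈ L) {x : G}
    (hx : x ∈ fit K) (hxN : x ∈ N) : Commute x a := by
  have hd := h.mem_comm_center hC haN (fit_le K hx) (comm_mem_of_mem (hC.norm hxN) haL)
  exact commute_of_comm_invol h.odd_fit (invol_mul_self h.ha) (le_normalizer_fit K h.self_mem) hx
    (mem_centralizer_iff.1 hd.2 a haL)

/-- An element of `F(K)` commuting with `c` commutes with `a`, when `a * c` lies in a component. -/
theorem S.commute_of_mul_mem (h : S a K) (hC : CompFacts N L) (haN : a ∈ N) {c : G}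
    (hc : c * c = 1) (hac : a * c = c * a) (hacL : a * c ∈ L) {x : G} (hx : x ∈ fit K)
    (hxN : x ∈ N) (hxc : Commute x c) : Commute x a := by
  obtain ⟨u, hu⟩ : ∃ u, u = a * c := ⟨_, rfl⟩
  rw [← hu] at hacL
  have ha' : a = u * c := by rw [hu, mul_assoc, hc, mul_one]
  have e : ⁅x, a⁆ = ⁅x, u⁆ := by
    rw [ha', commutatorElement_def, commutatorElement_def]
    calc x * (u * c) * x⁻¹ * (u * c)⁻¹ = x * u * (c * x⁻¹) * c⁻¹ * u⁻¹ := by group
      _ = x * u * (x⁻¹ * c) * c⁻¹ * u⁻¹ := by rw [hxc.inv_left.eq]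
      _ = _ := by group
  have hd := h.mem_comm_center hC haN (fit_le K hx)
    (by rw [e]; exact comm_mem_of_mem (hC.norm hxN) hacL)
  obtain ⟨d, hdef⟩ : ∃ d, d = ⁅x, a⁆ := ⟨_, rfl⟩
  rw [← hdef] at hd
  have hdu : Commute u d := mem_centralizer_iff.1 hd.2 u hacL
  have hac' : Commute c a := hac.symm
  have hdc : Commute c d := by
    rw [hdef, commutatorElement_def]
    exact ((hxc.symm.mul_right hac').mul_right hxc.symm.inv_right).mul_right hac'.inv_right
  have hda : Commute a d := by rw [ha']; exact hdu.mul_left hdc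
  exact commute_of_comm_invol h.odd_fit (invol_mul_self h.ha) (le_normalizer_fit K h.self_mem) hx
    (hdef ▸ hda)

theorem S.not_mem_comp (h : S a K) (hC : CompFacts N L) (haN : a ∈ N) (hFN : fit K ≤ N) :
    a ∉ L := fun haL => h.not_cent fun _ hx =>
  mem_cI.2 (h.commute_of_mem hC haN haL hx (hFN hx)).eq

theorem exists_coatom_above (M : Min G) {Q : Subgroup G} (hQ : Q ≠ ⊥) {H : Subgroup G}
    (hH : IsCoatom H) (hQH : Q ≤ H) :
    ∃ N : Subgroup G, IsCoatom N ∧ normalizer (Q : Set G) ≤ N :=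
  (eq_top_or_exists_le_coatom _).resolve_left
    (M.normalizer_ne_top hQ fun e => hH.1 (top_le_iff.1 (e ▸ hQH)))

theorem exists_four_of (M : Min G) {a : G} (ha : orderOf a = 2) : ∃ s g, Four a s g := by
  obtain ⟨T, haT, hT⟩ := M.exists_sylow ha
  obtain ⟨D⟩ := M.dih T
  have hU := dU_isKleinFour T D 0
  have hne : ∃ s ∈ dU T D 0, s ≠ 1 ∧ s ≠ a := by
    by_contra hh
    push Not at hh
    have hsub : (dU T D 0 : Set G) ⊆ {1, a} := fun s hs => by
      by_cases e : s = 1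
      · exact Or.inl e
      · exact Or.inr (hh s hs e)
    have h1 := Set.ncard_le_ncard hsub (Set.toFinite _)
    have h2 : (dU T D 0 : Set G).ncard = 4 := by
      rw [← Nat.card_coe_set_eq]; exact hU.card_four
    have h3 : ({1, a} : Set G).ncard ≤ 2 := (Set.ncard_insert_le _ _).trans (by simp)
    omega
  obtain ⟨s, hs, hs1, hsa⟩ := hne
  have hs2 : orderOf s = 2 := orderOf_eq_prime (by
    have h := congrArg Subtype.val (hU.mul_self ⟨s, hs⟩)
    rw [pow_two]; exact h) hs1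
  obtain ⟨g, hg⟩ := M.exists_four T ha haT hT hs2 (map_subtype_le _ hs) hsa
  exact ⟨s, g, hg⟩

/-- An abelian inverted section with no fixed points of `c` in its normal part. -/
theorem S.kill {c : G} {Kc : Subgroup G} (hc : S c Kc) (ha : a * a = 1) (hac : a * c = c * a)
    {q : ℕ} [Fact q.Prime] (hq2 : q ≠ 2) (hq : ¬ q ∣ Nat.card (fit Kc)) {E : Subgroup G}
    (hE : IsPGroup q E) (hEn : N ≤ normalizer (E : Set G))
    (hinv : ∀ e ∈ E, a * e * a⁻¹ = e⁻¹)
    (hfix : ∀ x ∈ fit Kc, Commute x a → x ∈ N) {e : G} (he : e ∈ E) (hec : Commute e c) :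
    e = 1 := by
  obtain ⟨k, hk⟩ := IsPGroup.iff_card.1 hE
  have hdisj : E ⊓ fit Kc = ⊥ := Subgroup.inf_eq_bot_of_coprime (by
    rw [hk]; exact ((Fact.out : q.Prime).coprime_iff_not_dvd.2 hq).pow_left k)
  have hodd : Odd (orderOf e) :=
    odd_orderOf (X := E) (by rw [hk]; exact ((Fact.out : q.Prime).odd_of_ne_two hq2).pow) he
  have heK : e ∈ Kc := hc.mem_of_comm hec.eq.symm
  have h1 := hc.mem_fit_of_inv ha (hc.mem_of_comm hac.symm) heK hodd (hinv e he) fun x hx hxa => by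
    have hxN : x ∈ N := hfix x hx hxa.symm
    have h2 : x * e * x⁻¹ * e⁻¹ ∈ E ⊓ fit Kc := by
      refine mem_inf.2 ⟨mul_mem (conj_mem_norm (hEn hxN) he) (inv_mem he), ?_⟩
      rw [show x * e * x⁻¹ * e⁻¹ = x * (e * x⁻¹ * e⁻¹) by group]
      exact mul_mem hx (conj_mem_norm (le_normalizer_fit Kc heK) (inv_mem hx))
    rw [hdisj, mem_bot, mul_inv_eq_one] at h2
    exact (mul_inv_eq_iff_eq_mul.1 h2).symm
  exact mem_bot.1 (hdisj ▸ mem_inf.2 ⟨he, h1⟩)

/-- Step 1: `N([F(K),a]) ≤ K`. -/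
theorem S.normalizer_uP_le (h : S a K) (hcomp : CompStmt.{u}) :
    normalizer (uP a K : Set G) ≤ K := by
  obtain ⟨N, hN, hUN⟩ := exists_coatom_above h.min h.uP_ne_bot h.hK (h.uP_le.trans (fit_le K))
  have hcN : cI a ≤ N := fun x hx => hUN (h.le_normalizer_uP (mem_cI.1 hx).symm)
  have haN : a ∈ N := hcN (self_mem_cI a)
  have hFN : fit K ≤ N := h.fit_le_normalizer_uP.trans hUN
  by_cases hlayer : Cfsg.layer ↥N = ⊥
  · have hl : Cfsg.leadsTo K N := h.genFit_le h.uP_ne_bot h.uP_le (inf_le_right.trans hUN)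
    refine hUN.trans (le_of_eq (h.eq_of_vanish hN haN hlayer hl fun q hq hq2 hd hinv => ?_))
    haveI := Fact.mk hq
    obtain ⟨b, g, f⟩ := exists_four_of h.min h.ha
    have hbN : b ∈ N := hcN (mem_cI.2 f.comm.symm)
    have hb' := h.next f
    have hd' : ¬ q ∣ Nat.card (fit (K.map (MulAut.conj g).toMonoidHom)) := by
      rwa [← fit_conj, card_map_of_injective (MulEquiv.injective _)]
    have hd'' : ¬ q ∣ Nat.card (fit ((K.map (MulAut.conj g).toMonoidHom).map
        (MulAut.conj g).toMonoidHom)) := by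
      rwa [← fit_conj, card_map_of_injective (MulEquiv.injective _)]
    have hfix : ∀ {Kc : Subgroup G}, ∀ x ∈ fit Kc, Commute x a → x ∈ N :=
      fun x _ hxa => hcN (mem_cI.2 hxa.eq)
    have habc : a * (a * b) = a * b * a := by rw [mul_assoc a b a, ← f.comm]
    refine eq_bot_of_three (odd_radP hq hq2 N) (invol_mul_self f.hb)
      (le_normalizer_radP q N hbN) hinv (fun e he hec => ?_) fun e he hec => ?_
    · exact hb'.kill (invol_mul_self h.ha) f.comm hq2 hd' (isPGroup_radP q N)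
        (le_normalizer_radP q N) hinv hfix he hec
    · exact (hb'.next f.rot).kill (invol_mul_self h.ha) habc hq2 hd'' (isPGroup_radP q N)
        (le_normalizer_radP q N) hinv hfix he hec
  · obtain ⟨L, hC⟩ := hcomp G h.min N hN ⟨a, haN, h.ha⟩ hlayer
    exact absurd (hC.cent a h.ha hcN) (h.not_mem_comp hC haN hFN)

/-- `C_U(a)` lies in the derived group of `U = [F(K),a]`. -/
theorem S.uP_fixed (h : S a K) {x : G} (hx : x ∈ uP a K) (hxa : Commute x a) :
    x ∈ ⁅uP a K, uP a K⁆ := by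
  obtain ⟨D, hD⟩ : ∃ D, D = ⁅uP a K, uP a K⁆ := ⟨_, rfl⟩
  rw [← hD]
  have haU : a ∈ normalizer (uP a K : Set G) := h.le_normalizer_uP rfl
  have hDn : uP a K ≤ normalizer (D : Set G) :=
    hD ▸ Subgroup.normalizer_commutator_ge_left (uP a K) (uP a K)
  have hDm : ∀ u ∈ uP a K, ∀ v ∈ uP a K, ⁅u, v⁆ ∈ D := fun u hu v hv =>
    hD ▸ commutator_mem_commutator hu hv
  let W : Subgroup G :=
    { carrier := {u | u ∈ uP a K ∧ a * u * a⁻¹ * u ∈ D}
      one_mem' := ⟨one_mem _, by simp⟩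
      mul_mem' := by
        rintro u v ⟨hu, hu'⟩ ⟨hv, hv'⟩
        have hA := conj_mem_norm haU hu
        have hB := conj_mem_norm haU hv
        refine ⟨mul_mem hu hv, ?_⟩
        rw [show a * (u * v) * a⁻¹ * (u * v) =
          a * u * a⁻¹ * ⁅a * v * a⁻¹, u⁆ * (a * u * a⁻¹)⁻¹ * (a * u * a⁻¹ * u) *
            (a * v * a⁻¹ * v) by rw [commutatorElement_def]; group]
        exact mul_mem (mul_mem (conj_mem_norm (hDn hA) (hDm _ hB _ hu)) hu') hv'
      inv_mem' := by
        rintro u ⟨hu, hu'⟩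
        refine ⟨inv_mem hu, ?_⟩
        rw [show a * u⁻¹ * a⁻¹ * u⁻¹ = (⁅u, a * u * a⁻¹⁆ * (a * u * a⁻¹ * u))⁻¹ by
          rw [commutatorElement_def]; group]
        exact inv_mem (mul_mem (hDm _ hu _ (conj_mem_norm haU hu)) hu') }
  have hW : uP a K ≤ W := commutator_zpowers_le (invol_mul_self h.ha) fun y hy =>
    ⟨comm_mem_commutator hy, by
      rw [conj_comm_invol (invol_mul_self h.ha), inv_mul_cancel]; exact one_mem _⟩
  have h2 : x ^ 2 ∈ D := by
    have := (hW hx).2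
    rwa [← hxa.eq, mul_inv_cancel_right, ← pow_two] at this
  obtain ⟨n, hn⟩ := odd_orderOf h.odd_fit (h.uP_le hx)
  have hp := pow_mem h2 (n + 1)
  rwa [← pow_mul, show 2 * (n + 1) = orderOf x + 1 by omega, pow_succ, pow_orderOf_eq_one,
    one_mul] at hp

/-- An outer involution `a` next to an inner one. -/
theorem S.outer_kill (h : S a K) (hcomp : CompStmt.{u}) (hC : CompFacts N L) {c : G}
    (hc : orderOf c = 2) (hne : a ≠ c) (hac : a * c = c * a) (haN : a ∈ N) (haL : a ∉ L)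
    (h1 : fit K ⊓ cI c ≤ N) (h2 : fit K ⊓ cI (a * c) ≤ cI a) : False := by
  have hcn : c ∈ normalizer (uP a K : Set G) := h.le_normalizer_uP hac
  have haU : a ∈ normalizer (uP a K : Set G) := h.le_normalizer_uP rfl
  have hUodd : Odd (Nat.card (uP a K)) := h.odd_fit.of_dvd_nat (card_dvd_of_le h.uP_le)
  have hnil : Group.IsNilpotent (uP a K) := by
    haveI := isNilpotent_fit K
    exact Group.nilpotent_of_mulEquiv (subgroupOfEquivOfLe h.uP_le)
  have hUc : uP a K ≤ cI c := by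
    refine (eq_of_sup_commutator hnil (inf_le_left (b := cI c)) ?_).ge.trans inf_le_right
    refine le_of_three hUodd h.ha hc hne hac haU hcn ?_ le_sup_left ?_
    · exact fun x hx => mem_sup_right (h.uP_fixed hx.1 (mem_cI.1 hx.2))
    · exact fun x hx => mem_sup_right (h.uP_fixed hx.1
        (mem_cI.1 (h2 ⟨h.uP_le hx.1, hx.2⟩)))
  have hUL : uP a K ≤ centralizer (L : Set G) := by
    refine commutator_zpowers_le (invol_mul_self h.ha) fun x hx => ?_
    obtain ⟨d, hd⟩ : ∃ d, d = ⁅x, a⁆ := ⟨_, rfl⟩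
    rw [← hd]
    have hdU : d ∈ uP a K := hd ▸ comm_mem_commutator hx
    have hdF : d ∈ fit K := h.uP_le hdU
    have hdN : d ∈ N := h1 ⟨hdF, hUc hdU⟩
    have hda : a * d * a⁻¹ = d⁻¹ := hd ▸ conj_comm_invol (invol_mul_self h.ha) x
    have hdo : Odd (orderOf d) := odd_orderOf h.odd_fit hdF
    have hH : Cfsg.HasNormalPComplement 2 ↥(L ⊓ K) :=
      CfsgLib.Transfer.hasNormalPComplement_of_injective (inclusion inf_le_right)
        (inclusion_injective _) h.h2
    have hy : d⁻¹ ^ 2 ∈ centralizer (L : Set G) := by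
      refine hC.outer a (d⁻¹ ^ 2) h.ha haN haL (pow_mem (inv_mem hdN) 2)
        (hdo.of_dvd_nat (orderOf_inv d ▸ orderOf_pow_dvd 2)) ?_ fun j hj => ?_
      · rw [show a * d⁻¹ ^ 2 * a⁻¹ = ((a * d * a⁻¹)⁻¹) ^ 2 by rw [pow_two, pow_two]; group, hda,
          inv_pow d, inv_inv, inv_inv]
      · have hjK : j ∈ K := h.hle hj.2
        have hja : a * j * a⁻¹ = j := by rw [← mem_cI.1 hj.2, mul_inv_cancel_right]
        obtain ⟨z, hz⟩ : ∃ z, z = j * d * j⁻¹ * d⁻¹ := ⟨_, rfl⟩
        have hzL : z ∈ L := by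
          rw [hz, show j * d * j⁻¹ * d⁻¹ = j * (d * j⁻¹ * d⁻¹) by group]
          exact mul_mem hj.1 (conj_mem_norm (hC.norm hdN) (inv_mem hj.1))
        have hzK : z ∈ K := hz ▸ mul_mem (mul_mem (mul_mem hjK (fit_le K hdF)) (inv_mem hjK))
          (inv_mem (fit_le K hdF))
        have hq := hC.overgroup a h.ha haN (L ⊓ K) inf_le_left hH (inf_le_inf_left L h.hle) z ⟨hzL, hzK⟩
        obtain ⟨y, hy⟩ : ∃ y, y = d⁻¹ ^ 2 := ⟨_, rfl⟩
        rw [← hy]
        have e : z * a * z⁻¹ * a⁻¹ = j * (d * (j⁻¹ * y * j * y⁻¹) * d⁻¹) * j⁻¹ := by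
          calc z * a * z⁻¹ * a⁻¹ = j * d * j⁻¹ * d⁻¹ * ((a * d * a⁻¹) * (a * j * a⁻¹) *
              (a * d * a⁻¹)⁻¹ * (a * j * a⁻¹)⁻¹) := by rw [hz]; group
            _ = _ := by rw [hda, hja, hy, pow_two]; group
        rw [e] at hq
        have hjn : j ∈ normalizer (L : Set G) := le_normalizer hj.1
        have h3 := conj_mem_center (inv_mem (hC.norm hdN)) (conj_mem_center (inv_mem hjn) hq)
        have h4 : j⁻¹ * y * j * y⁻¹ ∈ L ⊓ centralizer (L : Set G) := by
          convert h3 using 1; group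
        have h5 := conj_mem_center hjn h4
        convert h5 using 1; group
    refine mem_centralizer_iff.2 fun l hl => ?_
    have hc2 : Commute ((d⁻¹) ^ 2) l := (mem_centralizer_iff.1 hy l hl).symm
    have h3 := (commute_of_sq (by rwa [orderOf_inv]) hc2).inv_left
    rw [inv_inv] at h3
    exact h3.eq.symm
  have hLU : L ≤ centralizer (uP a K : Set G) := fun l hl => mem_centralizer_iff.2 fun u hu =>
    (mem_centralizer_iff.1 (hUL hu) l hl).symm
  have hLK : L ≤ K :=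
    hLU.trans ((Subgroup.centralizer_le_normalizer _).trans (h.normalizer_uP_le hcomp))
  exact hC.not2 (CfsgLib.Transfer.hasNormalPComplement_of_injective (inclusion hLK)
    (inclusion_injective _) h.h2)

/-- Step 2. -/
theorem S.normalizer_le (h : S a K) (hcomp : CompStmt.{u}) (f : Four a b g) {Q : Subgroup G}
    (hQ : Q ≠ ⊥) (hQF : Q ≤ fit K) (hFQ : fit K ≤ normalizer (Q : Set G))
    (haQ : a ∈ normalizer (Q : Set G)) (hbQ : b ∈ normalizer (Q : Set G)) :
    normalizer (Q : Set G) ≤ K := by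
  obtain ⟨N, hN, hQN⟩ := exists_coatom_above h.min hQ h.hK (hQF.trans (fit_le K))
  have haN : a ∈ N := hQN haQ
  have hbN : b ∈ N := hQN hbQ
  have hFN : fit K ≤ N := hFQ.trans hQN
  by_cases hlayer : Cfsg.layer ↥N = ⊥
  · have hl : Cfsg.leadsTo K N := h.genFit_le hQ hQF (inf_le_right.trans hQN)
    refine hQN.trans (le_of_eq (h.eq_of_vanish hN haN hlayer hl fun q hq hq2 hd hinv => ?_))
    haveI := Fact.mk hq
    have hU : uP a K ≤ centralizer (radP q N : Set G) :=
      commutator_zpowers_le (invol_mul_self h.ha) fun x hx =>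
        comm_centralizes (le_normalizer_radP q N (hFN hx)) hinv
    refine (eq_bot_iff_forall _).2 fun e he => ?_
    have heK : e ∈ K := h.normalizer_uP_le hcomp (Subgroup.centralizer_le_normalizer _
      (mem_centralizer_iff.2 fun u hu => (mem_centralizer_iff.1 (hU hu) e he).symm))
    exact mem_bot.1 (h.radP_inf hl hq hd ▸ mem_inf.2 ⟨he, heK⟩)
  · obtain ⟨L, hC⟩ := hcomp G h.min N hN ⟨a, haN, h.ha⟩ hlayer
    exfalso
    have haL := h.not_mem_comp hC haN hFN
    -- an involution `c` of the four-group in `L`, other than `a`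
    have key : ∀ c : G, orderOf c = 2 → a ≠ c → a * c = c * a → c ∈ L → False := by
      intro c hc hne hac hcL
      refine h.outer_kill hcomp hC hc hne hac haN haL (inf_le_left.trans hFN) fun x hx => ?_
      have e : a * (a * c) = c := by rw [← mul_assoc, invol_mul_self h.ha, one_mul]
      have hcc : a * (a * c) = a * c * a := by rw [mul_assoc a c a, ← hac]
      have hsq : a * c * (a * c) = 1 := by
        calc a * c * (a * c) = a * c * a * c := by group
          _ = a * (a * c) * c := by rw [← hcc]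
          _ = 1 := by rw [e, invol_mul_self hc]
      exact mem_cI.2 (h.commute_of_mul_mem hC haN hsq hcc (by rw [e]; exact hcL) hx.1 (hFN hx.1)
        (mem_cI.1 hx.2)).eq
    rcases hC.four a b h.ha f.hb f.hab f.comm haN hbN with h1 | h1 | h1
    · exact haL h1
    · exact key b f.hb f.hab f.comm h1
    · exact key (a * b) f.rot.hb (fun e => invol_ne_one f.hb (mul_eq_left.1 e.symm))
        (by rw [mul_assoc a b a, ← f.comm]) h1

theorem conj_mem_fit {x : G} (hx : x ∈ fit K) (g : G) :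
    g * x * g⁻¹ ∈ fit (K.map (MulAut.conj g).toMonoidHom) := fit_conj K g ▸ ⟨x, hx, rfl⟩

theorem conj_mem_radP {x : G} {r : ℕ} (hx : x ∈ radP r K) (g : G) :
    g * x * g⁻¹ ∈ radP r (K.map (MulAut.conj g).toMonoidHom) := radP_conj r K g ▸ ⟨x, hx, rfl⟩

/-- Step 3 at a prime `q` at which `F(K)` meets `F(K^g)`. -/
theorem S.pair_data (h : S a K) (hcomp : CompStmt.{u}) (f : Four a b g) {q : ℕ} [hq : Fact q.Prime]
    (hI : radP q K ⊓ radP q (K.map (MulAut.conj g).toMonoidHom) ≠ ⊥) :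
    ∃ (E : Subgroup G) (p : ℕ), p.Prime ∧ ¬ p ∣ Nat.card (fit K) ∧ IsPGroup p E ∧
      Odd (Nat.card E) ∧ E ≠ ⊥ ∧ E ⊓ K = ⊥ ∧ (∀ e ∈ E, a * e * a⁻¹ = e⁻¹) ∧
      (∀ e ∈ E, Commute e (a * b)) ∧
      ∀ r : ℕ, r.Prime → r ≠ q → ∀ y ∈ radP r K,
        Commute y a ∧ Commute y b ∧ y ∈ normalizer (E : Set G) := by
  have hb' := h.next f
  obtain ⟨K₁, hK₁⟩ : ∃ K₁, K₁ = K.map (MulAut.conj g).toMonoidHom := ⟨_, rfl⟩
  rw [← hK₁] at hI hb'
  obtain ⟨I, hIdef⟩ : ∃ I, I = radP q K ⊓ radP q K₁ := ⟨_, rfl⟩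
  rw [← hIdef] at hI
  have hIK : I ≤ radP q K := hIdef ▸ inf_le_left
  have hIK₁ : I ≤ radP q K₁ := hIdef ▸ inf_le_right
  obtain ⟨N, hN, hIN⟩ := exists_coatom_above h.min hI h.hK (hIK.trans (radP_le q K))
  have hboth : ∀ {x : G}, x ∈ K → x ∈ K₁ → x ∈ N := fun {x} hx hx' => hIN
    (mem_normalizer_iff_of_finite fun z hz => by
      rw [hIdef] at hz ⊢
      exact mem_inf.2 ⟨conj_mem_norm (le_normalizer_radP q K hx) hz.1,
        conj_mem_norm (le_normalizer_radP q K₁ hx') hz.2⟩)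
  have haN : a ∈ N := hboth h.self_mem (hb'.mem_of_comm f.comm.symm)
  have hbN : b ∈ N := hboth (h.mem_of_comm f.comm) hb'.self_mem
  have hrN : ∀ {r : ℕ}, r.Prime → r ≠ q → ∀ y ∈ radP r K, y ∈ N := fun {r} hr hrq y hy => by
    haveI := Fact.mk hr
    exact hIN (Subgroup.centralizer_le_normalizer _ (mem_centralizer_iff.2 fun z hz =>
      (commute_radP hrq hy (hIK hz)).symm))
  have hX : fit K ⊓ cI b ≤ N := fun x hx => hboth (fit_le K hx.1)
    (hb'.mem_of_comm (mem_cI.1 hx.2).symm)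
  have hX' : fit K₁ ⊓ cI a ≤ N := fun x hx => hboth (h.mem_of_comm (mem_cI.1 hx.2).symm)
    (fit_le K₁ hx.1)
  by_cases hlayer : Cfsg.layer ↥N = ⊥
  swap
  · obtain ⟨L, hC⟩ := hcomp G h.min N hN ⟨a, haN, h.ha⟩ hlayer
    exfalso
    -- the two transfers along the rotation
    have tA : fit K₁ ⊓ cI a ≤ cI b → fit K ⊓ cI (a * b) ≤ cI a := fun hle x hx => by
      have h1 : Commute (g * x * g⁻¹) a := by
        rw [← f.gab]; exact mem_cI_conj (mem_cI.1 hx.2) g
      have h2 : Commute (g * x * g⁻¹) b :=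
        mem_cI.1 (hle ⟨hK₁ ▸ conj_mem_fit hx.1 g, mem_cI.2 h1.eq⟩)
      rw [← f.ga] at h2
      have h3 := mem_cI_conj h2 g⁻¹
      refine mem_cI.2 ?_
      convert h3.eq using 2 <;> group
    have tB : fit K ⊓ cI b ≤ cI a → fit K₁ ⊓ cI (b * a) ≤ cI b := fun hle x hx => by
      obtain ⟨w, hw, rfl⟩ : ∃ w ∈ fit K, g * w * g⁻¹ = x := by
        have h1 := hx.1
        rw [hK₁, ← fit_conj] at h1
        exact h1
      have h2 : Commute (g * w * g⁻¹) (g * b * g⁻¹) := by
        rw [f.gb, f.comm]; exact mem_cI.1 hx.2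
      have h3 : Commute w b := by
        have h4 := mem_cI_conj h2 g⁻¹
        show w * b = b * w
        convert h4.eq using 2 <;> group
      rw [← f.ga]
      exact mem_cI.2 (mem_cI_conj (mem_cI.1 (hle ⟨hw, mem_cI.2 h3.eq⟩)) g).eq
    have eb : b * b = 1 := invol_mul_self f.hb
    have ea : a * a = 1 := invol_mul_self f.ha
    have hbaN : b ∈ N := hbN
    have hXa : (a * b ∈ L ∨ a ∈ L) → fit K ⊓ cI b ≤ cI a := fun hor x hx => mem_cI.2 <| by
      rcases hor with hL | hL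
      · exact (h.commute_of_mul_mem hC haN eb f.comm hL hx.1 (hX hx) (mem_cI.1 hx.2)).eq
      · exact (h.commute_of_mem hC haN hL hx.1 (hX hx)).eq
    have hXb : (a * b ∈ L ∨ b ∈ L) → fit K₁ ⊓ cI a ≤ cI b := fun hor x hx => mem_cI.2 <| by
      rcases hor with hL | hL
      · exact (hb'.commute_of_mul_mem hC hbN ea f.comm.symm (by rw [← f.comm]; exact hL) hx.1
          (hX' hx) (mem_cI.1 hx.2)).eq
      · exact (hb'.commute_of_mem hC hbN hL hx.1 (hX' hx)).eq
    by_cases hall : (a * b ∈ L ∨ a ∈ L) ∧ (a * b ∈ L ∨ b ∈ L)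
    · exact h.not_cent (le_of_three h.odd_fit f.ha f.hb f.hab f.comm
        (le_normalizer_fit K h.self_mem) (le_normalizer_fit K (h.mem_of_comm f.comm))
        inf_le_right (hXa hall.1) (tA (hXb hall.2)))
    rcases hC.four a b h.ha f.hb f.hab f.comm haN hbN with h1 | h1 | h1
    · have hbL : b ∉ L := fun h2 => hall ⟨Or.inr h1, Or.inr h2⟩
      exact hb'.outer_kill hcomp hC f.ha f.hab.symm f.comm.symm hbN hbL hX' (tB (hXa (Or.inr h1)))
    · have haL : a ∉ L := fun h2 => hall ⟨Or.inr h2, Or.inr h1⟩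
      exact h.outer_kill hcomp hC f.hb f.hab f.comm haN haL hX (tA (hXb (Or.inr h1)))
    · exact hall ⟨Or.inl h1, Or.inl h1⟩
  have hl : Cfsg.leadsTo K N :=
    h.genFit_le hI (hIK.trans (radP_le_fit q K)) (inf_le_right.trans hIN)
  have hl₁ : Cfsg.leadsTo K₁ N :=
    hb'.genFit_le hI (hIK₁.trans (radP_le_fit q K₁)) (inf_le_right.trans hIN)
  have hcard : Nat.card (fit K₁) = Nat.card (fit K) := by
    rw [hK₁, ← fit_conj, card_map_of_injective (MulEquiv.injective _)]
  by_cases hall : ∀ p : ℕ, p.Prime → p ≠ 2 → ¬ p ∣ Nat.card (fit K) → radP p N = ⊥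
  · exfalso
    have e1 : N = K := h.eq_of_vanish hN haN hlayer hl fun p hp hp2 hd _ => hall p hp hp2 hd
    have e2 : N = K₁ := hb'.eq_of_vanish hN hbN hlayer hl₁ fun p hp hp2 hd _ =>
      hall p hp hp2 (hcard ▸ hd)
    have hgn : g ∈ normalizer (K : Set G) :=
      CfsgLib.Coprime.mem_normalizer_iff_map_conj.2 (by rw [← hK₁, ← e2, e1])
    haveI := h.min.simple
    have hKne : K ≠ ⊥ := fun e => invol_ne_one h.ha (mem_bot.1 (e ▸ h.self_mem))
    have hgK : g ∈ K := by
      rw [normalizer_eq_of_isCoatom h.hK le_rfl hKne le_normalizer] at hgn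
      exact hgn
    have h1 := odd_orderOf (odd_core K) (h.comm_mem_core hgK)
    rw [commutatorElement_def, f.ga, inv_eq_self (invol_mul_self f.ha), ← f.comm, f.rot.hb] at h1
    exact absurd h1 (by decide)
  push Not at hall
  obtain ⟨p, hp, hp2, hd, hE⟩ := hall
  haveI := Fact.mk hp
  obtain ⟨E, hEdef⟩ : ∃ E, E = radP p N := ⟨_, rfl⟩
  have hEn : N ≤ normalizer (E : Set G) := hEdef ▸ le_normalizer_radP p N
  have hEK : E ⊓ K = ⊥ := hEdef ▸ h.radP_inf hl hp hd
  have hinva : ∀ e ∈ E, a * e * a⁻¹ = e⁻¹ := fun e he =>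
    h.radP_inverts hl haN hp hp2 hd (hEdef ▸ he)
  have hinvb : ∀ e ∈ E, b * e * b⁻¹ = e⁻¹ := fun e he =>
    hb'.radP_inverts hl₁ hbN hp hp2 (hcard ▸ hd) (hEdef ▸ he)
  have hab : ∀ e ∈ E, Commute e (a * b) := fun e he => by
    refine (mul_inv_eq_iff_eq_mul.1 ?_).symm
    calc a * b * e * (a * b)⁻¹ = a * (b * e * b⁻¹) * a⁻¹ := by group
      _ = e := by rw [hinvb e he, hinva _ (inv_mem he), inv_inv]
  refine ⟨E, p, hp, hd, hEdef ▸ isPGroup_radP p N, hEdef ▸ odd_radP hp hp2 N, hEdef ▸ hE, hEK,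
    hinva, hab, fun r hr hrq y hy => ?_⟩
  have hyE : ∀ z ∈ radP r K, z ∈ normalizer (E : Set G) := fun z hz => hEn (hrN hr hrq z hz)
  refine ⟨?_, ?_, hyE y hy⟩
  all_goals
    have key : ∀ t : G, t * t = 1 → a * t = t * a → b * t = t * b →
        (∀ e ∈ E, t * e * t⁻¹ = e⁻¹) → Commute y t := by
      intro t ht hat hbt hinv
      by_contra hyt
      obtain ⟨Q, hQdef⟩ : ∃ Q, Q = ⁅radP r K, zpowers t⁆ := ⟨_, rfl⟩
      have hQne : Q ≠ ⊥ := fun e => hyt (commutatorElement_eq_one_iff_commute.1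
        (mem_bot.1 (e ▸ hQdef ▸ comm_mem_commutator hy)))
      haveI := Fact.mk hr
      have htK : t ∈ K := h.mem_of_comm hat
      have hQY : Q ≤ radP r K := hQdef ▸
        le_normalizer_iff_commutator_le_left.mp (zpowers_le.2 (le_normalizer_radP r K htK))
      have hnorm : ∀ s : G, a * s = s * a → s * t = t * s → s ∈ normalizer (Q : Set G) := by
        intro s has hst
        rw [CfsgLib.Coprime.mem_normalizer_iff_map_conj, hQdef, Subgroup.map_commutator,
          CfsgLib.Coprime.mem_normalizer_iff_map_conj.1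
            (le_normalizer_radP r K (h.mem_of_comm has)), MonoidHom.map_zpowers]
        congr 2
        show s * t * s⁻¹ = t
        rw [hst, mul_inv_cancel_right]
      have hFQ : fit K ≤ normalizer (Q : Set G) := by
        rw [fit, fitting_map_eq]
        refine iSup_le fun s => ?_
        by_cases e : (s : ℕ) = r
        · rw [e, hQdef]
          exact Subgroup.normalizer_commutator_ge_left (radP r K) (zpowers t)
        · haveI := Fact.mk s.2
          exact fun z hz => Subgroup.centralizer_le_normalizer _ (mem_centralizer_iff.2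
            fun w hw => (commute_radP e hz (hQY hw)).symm)
      have hle := h.normalizer_le hcomp f hQne (hQY.trans (radP_le_fit r K)) hFQ
        (hnorm a rfl hat) (hnorm b f.comm hbt)
      have hQE : Q ≤ centralizer (E : Set G) := hQdef ▸
        commutator_zpowers_le ht fun z hz => comm_centralizes (hyE z hz) hinv
      exact (hEdef ▸ hE : E ≠ ⊥) ((eq_bot_iff_forall _).2 fun e he => mem_bot.1 (hEK ▸ mem_inf.2
        ⟨he, hle (Subgroup.centralizer_le_normalizer _ (mem_centralizer_iff.2 fun w hw =>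
          (mem_centralizer_iff.1 (hQE hw) e he).symm))⟩))
  · exact key a (invol_mul_self f.ha) rfl f.comm.symm hinva
  · exact key b (invol_mul_self f.hb) f.comm rfl hinvb

/-- Step 3: `F(K)` meets `F(K^g)` trivially. -/
theorem S.fit_inf (h : S a K) (hcomp : CompStmt.{u}) (f : Four a b g) :
    fit K ⊓ fit (K.map (MulAut.conj g).toMonoidHom) = ⊥ := by
  obtain ⟨K₁, hK₁⟩ : ∃ K₁, K₁ = K.map (MulAut.conj g).toMonoidHom := ⟨_, rfl⟩
  rw [← hK₁]
  by_contra hne
  obtain ⟨q, hq, hqd⟩ := Nat.exists_prime_and_dvd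
    (fun e => hne (Subgroup.card_eq_one.1 e) : Nat.card ↥(fit K ⊓ fit K₁) ≠ 1)
  haveI := Fact.mk hq
  obtain ⟨z, hz⟩ := exists_prime_orderOf_dvd_card' q hqd
  have hzo : orderOf (z : G) = q ^ 1 := by rw [orderOf_coe, hz, pow_one]
  have hzI : (z : G) ∈ radP q K ⊓ radP q K₁ :=
    ⟨mem_radP_of_mem_fit z.2.1 hzo, mem_radP_of_mem_fit z.2.2 hzo⟩
  have hI : radP q K ⊓ radP q K₁ ≠ ⊥ := fun e => by
    rw [e, mem_bot, ← orderOf_eq_one_iff, hzo, pow_one] at hzI
    exact hq.ne_one hzI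
  obtain ⟨E, p, hp, hpd, hEp, hEo, hEne, hEK, hinv, hab, hY⟩ :=
    h.pair_data hcomp f (hK₁ ▸ hI)
  obtain ⟨r, hr, hrq, hrd⟩ := h.two q
  haveI := Fact.mk hr
  haveI := Fact.mk hp
  have hYne : radP r K ≠ ⊥ := radP_ne_bot_of_dvd hr (by rwa [← card_fit])
  have hIr : radP r K ⊓ radP r K₁ = ⊥ := by
    by_contra hIr
    obtain ⟨E', p', -, -, -, -, -, -, -, -, hY'⟩ := h.pair_data hcomp f (q := r) (hK₁ ▸ hIr)
    refine h.not_cent ?_
    rw [fit, fitting_map_eq]
    refine iSup_le fun s => fun y hy => mem_cI.2 ?_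
    by_cases e : (s : ℕ) = q
    · exact (hY' s s.2 (e ▸ hrq.symm) y hy).1.eq
    · exact (hY s s.2 e y hy).1.eq
  obtain ⟨K₂, hK₂⟩ : ∃ K₂, K₂ = K₁.map (MulAut.conj g).toMonoidHom := ⟨_, rfl⟩
  have hb' := h.next f
  rw [← hK₁] at hb'
  have hc' := hb'.next f.rot
  rw [← hK₂] at hc'
  have hK₃ : K₂.map (MulAut.conj g).toMonoidHom = K := by
    rw [hK₂, hK₁, CfsgLib.Coprime.map_conj_conj, CfsgLib.Coprime.map_conj_conj]
    refine CfsgLib.Coprime.mem_normalizer_iff_map_conj.1 (le_normalizer ?_)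
    refine h.mem_of_comm ?_
    have e : g * g * g * a * (g * g * g)⁻¹ = a := by
      calc g * g * g * a * (g * g * g)⁻¹ = g * (g * (g * a * g⁻¹) * g⁻¹) * g⁻¹ := by group
        _ = a := by rw [f.ga, f.gb, f.gab]
    simpa only [mul_assoc] using (mul_inv_eq_iff_eq_mul.1 e).symm
  have haK₂ : a ∈ K₂ := hc'.mem_of_comm (by rw [mul_assoc a b a, ← f.comm])
  have hEK₂ : E ≤ K₂ := fun e he => hc'.mem_of_comm (hab e he).eq.symm
  have hEF : (Nat.card E).Coprime (Nat.card (fit K₂)) := by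
    obtain ⟨k, hk⟩ := IsPGroup.iff_card.1 hEp
    rw [hk, hK₂, ← fit_conj, card_map_of_injective (MulEquiv.injective _), hK₁, ← fit_conj,
      card_map_of_injective (MulEquiv.injective _)]
    exact (hp.coprime_iff_not_dvd.2 hpd).pow_left k
  refine hEne ((eq_bot_iff_forall _).2 fun e he => mem_bot.1 (hEK ▸ mem_inf.2 ⟨he, ?_⟩))
  haveI := h.min.simple
  rw [← normalizer_eq_of_isCoatom h.hK (radP_le r K) hYne (le_normalizer_radP r K)]
  refine Subgroup.centralizer_le_normalizer _ (mem_centralizer_iff.2 fun y hy => ?_)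
  obtain ⟨hya, hyb, hyE⟩ := hY r hr hrq y hy
  have hyK₂ : y ∈ K₂ := hc'.mem_of_comm (hya.mul_right hyb).eq.symm
  have hyo : Odd (orderOf y) := odd_orderOf h.odd_fit (radP_le_fit r K hy)
  -- `y` centralises the fixed points of `a` on `F(K₂)`
  have hfix : ∀ φ ∈ fit K₂, Commute φ a → Commute y φ := by
    intro φ hφ hφa
    have hφK : φ ∈ K := h.mem_of_comm hφa.eq.symm
    have hwY : φ * y * φ⁻¹ * y⁻¹ ∈ radP r K :=
      mul_mem (conj_mem_norm (le_normalizer_radP r K hφK) hy) (inv_mem hy)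
    have hwF : φ * y * φ⁻¹ * y⁻¹ ∈ fit K₂ := by
      rw [show φ * y * φ⁻¹ * y⁻¹ = φ * (y * φ⁻¹ * y⁻¹) by group]
      exact mul_mem hφ (conj_mem_norm (le_normalizer_fit K₂ hyK₂) (inv_mem hφ))
    obtain ⟨w, hw⟩ : ∃ w, w = φ * y * φ⁻¹ * y⁻¹ := ⟨_, rfl⟩
    rw [← hw] at hwY hwF
    obtain ⟨k, hk⟩ := isPGroup_radP r K ⟨w, hwY⟩
    obtain ⟨j, -, hj⟩ := (Nat.dvd_prime_pow hr).1
      (orderOf_dvd_of_pow_eq_one (congrArg Subtype.val hk : w ^ r ^ k = 1))
    have h1 : g * w * g⁻¹ ∈ radP r K :=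
      hK₃ ▸ conj_mem_radP (mem_radP_of_mem_fit hwF hj) g
    have h2 : g * w * g⁻¹ ∈ radP r K₁ := hK₁ ▸ conj_mem_radP hwY g
    have h3 : g * w * g⁻¹ = 1 := mem_bot.1 (hIr ▸ mem_inf.2 ⟨h1, h2⟩)
    rw [conj_eq_one_iff, hw, mul_inv_eq_one, mul_inv_eq_iff_eq_mul] at h3
    exact h3.symm
  have hec : ∀ e₁ ∈ E, ∀ e₂ ∈ E, e₁ * e₂ = e₂ * e₁ := fun e₁ h1 e₂ h2 => by
    have e0 := hinv _ (mul_mem h1 h2)
    rw [show a * (e₁ * e₂) * a⁻¹ = a * e₁ * a⁻¹ * (a * e₂ * a⁻¹) by group, hinv _ h1, hinv _ h2,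
      mul_inv_rev] at e0
    have := congrArg (·⁻¹) e0
    simpa using this.symm
  have hv := commutes_solvable (fit K₂) E hc'.odd_fit hec hEo a y (invol_mul_self f.ha)
    (le_normalizer_fit K₂ haK₂) hinv (fun x hx => le_normalizer_fit K₂ (hEK₂ hx)) hEF
    (le_normalizer_fit K₂ hyK₂) hyE hyo hfix e he
  have hvE : e * (y * e * y⁻¹)⁻¹ ∈ E := mul_mem he (inv_mem (conj_mem_norm hyE he))
  have hv1 : e * (y * e * y⁻¹)⁻¹ = 1 := by
    have hmem := mem_inf.2 ⟨hvE, hc'.cent_fit (hEK₂ hvE) fun x hx => (hv x hx).eq⟩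
    rwa [Subgroup.inf_eq_bot_of_coprime hEF, mem_bot] at hmem
  rw [mul_inv_eq_one] at hv1
  exact (eq_mul_inv_iff_mul_eq.1 hv1).symm

/-- Step 4: one pair of fixed point subgroups. -/
theorem S.fixed_le (h : S a K) (hcomp : CompStmt.{u}) (f : Four a b g) :
    fit K ⊓ cI (a * b) ≤ cI a := by
  have hinf := h.fit_inf hcomp f
  have hb' := h.next f
  intro x hx
  have h1 : Commute (g * x * g⁻¹) a := by rw [← f.gab]; exact mem_cI_conj (mem_cI.1 hx.2) g
  obtain ⟨y, hy⟩ : ∃ y, y = g * x * g⁻¹ := ⟨_, rfl⟩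
  rw [← hy] at h1
  have hyF : y ∈ fit (K.map (MulAut.conj g).toMonoidHom) := hy ▸ conj_mem_fit hx.1 g
  have hyb : Commute y b := by
    refine commute_of_comm_invol hb'.odd_fit (invol_mul_self f.hb)
      (le_normalizer_fit _ hb'.self_mem) hyF ?_
    obtain ⟨β, hβ⟩ : ∃ β, β = ⁅y, b⁆ := ⟨_, rfl⟩
    rw [← hβ]
    have hβF : β ∈ fit (K.map (MulAut.conj g).toMonoidHom) := by
      rw [hβ, commutatorElement_def, show y * b * y⁻¹ * b⁻¹ = y * (b * y⁻¹ * b⁻¹) by group]
      exact mul_mem hyF (conj_mem_norm (le_normalizer_fit _ hb'.self_mem) (inv_mem hyF))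
    have hab : Commute a b := f.comm
    have hβa : Commute a β := by
      rw [hβ, commutatorElement_def]
      exact ((h1.symm.mul_right hab).mul_right h1.symm.inv_right).mul_right hab.inv_right
    have hβK : β ∈ K := h.mem_of_comm hβa.eq
    have h3 := h.mem_fit_of_inv (invol_mul_self f.hb) (h.mem_of_comm f.comm) hβK
      (odd_orderOf hb'.odd_fit hβF) (hβ ▸ conj_comm_invol (invol_mul_self f.hb) y) fun w hw hwb => by
        have hwK : w ∈ K.map (MulAut.conj g).toMonoidHom := hb'.mem_of_comm hwb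
        have h4 : w * β * w⁻¹ * β⁻¹ ∈ fit K ⊓ fit (K.map (MulAut.conj g).toMonoidHom) := by
          refine mem_inf.2 ⟨?_, mul_mem (conj_mem_norm (le_normalizer_fit _ hwK) hβF) (inv_mem hβF)⟩
          rw [show w * β * w⁻¹ * β⁻¹ = w * (β * w⁻¹ * β⁻¹) by group]
          exact mul_mem hw (conj_mem_norm (le_normalizer_fit K hβK) (inv_mem hw))
        rw [hinf, mem_bot, mul_inv_eq_one, mul_inv_eq_iff_eq_mul] at h4
        exact h4.symm
    have h4 : β = 1 := mem_bot.1 (hinf ▸ mem_inf.2 ⟨h3, hβF⟩)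
    rw [h4]
    exact Commute.one_right _
  rw [hy, ← f.ga] at hyb
  have h3 := mem_cI_conj hyb g⁻¹
  refine mem_cI.2 ?_
  convert h3.eq using 2 <;> group

/-- Two primes in the Fitting subgroup: impossible. -/
theorem false_of_two_primes (hcomp : CompStmt.{u}) (M : Min G) (ha : orderOf a = 2)
    (hK : IsCoatom K) (hle : cI a ≤ K) (h2 : Cfsg.HasNormalPComplement 2 K) (hne : K ≠ cI a)
    (htwo : ∀ p : ℕ, p.Prime → ¬ IsPGroup p (Cfsg.fittingSubgroup ↥K)) : False := by
  have h : S a K := ⟨M, ha, hK, hle, h2, hne, fun q => by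
    by_contra hq
    push Not at hq
    rw [card_fit] at hq
    by_cases hqp : q.Prime
    · haveI := Fact.mk hqp
      haveI := M.simple
      exact htwo q hqp (isPGroup_fitting_of_unique fun r hr hrd => by
        by_contra hrq; exact hq r hr hrq hrd)
    · have h1 : Nat.card (Cfsg.fittingSubgroup ↥K) = 1 := by
        by_contra h1
        obtain ⟨r, hr, hrd⟩ := Nat.exists_prime_and_dvd h1
        exact hq r hr (fun e => hqp (e ▸ hr)) hrd
      haveI := Fact.mk Nat.prime_three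
      exact htwo 3 Nat.prime_three (IsPGroup.of_card (n := 0) (by rw [h1, pow_zero]))⟩
  obtain ⟨b, g, f⟩ := exists_four_of M ha
  have ea := invol_mul_self f.ha
  have e1 : a * (a * b) = b := by rw [← mul_assoc, ea, one_mul]
  have f' : Four a (a * b) g⁻¹ :=
    { ha := f.ha
      hb := f.rot.hb
      hab := fun e => invol_ne_one f.hb (mul_eq_left.1 e.symm)
      comm := by rw [mul_assoc a b a, ← f.comm]
      ga := by
        calc g⁻¹ * a * g⁻¹⁻¹ = g⁻¹ * (g * (a * b) * g⁻¹) * g⁻¹⁻¹ := by rw [f.gab]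
          _ = a * b := by group
      gb := by
        rw [e1]
        calc g⁻¹ * (a * b) * g⁻¹⁻¹ = g⁻¹ * (g * b * g⁻¹) * g⁻¹⁻¹ := by rw [f.gb]
          _ = b := by group
      gab := by
        rw [e1]
        calc g⁻¹ * b * g⁻¹⁻¹ = g⁻¹ * (g * a * g⁻¹) * g⁻¹⁻¹ := by rw [f.ga]
          _ = a := by group }
  have h3 := h.fixed_le hcomp f'
  rw [e1] at h3
  exact h.not_cent (le_of_three h.odd_fit f.ha f.hb f.hab f.comm
    (le_normalizer_fit K h.self_mem) (le_normalizer_fit K (h.mem_of_comm f.comm))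
    inf_le_right h3 (h.fixed_le hcomp f))

/-- A3 from the component facts and the case of one prime. -/
theorem nilpotentOvergroup_of_pieces (hcomp : CompStmt.{u})
    (hone : ∀ (G : Type u) [Group G] [Finite G], Min G → ∀ a : G, orderOf a = 2 →
      ∀ K : Subgroup G, IsCoatom K → cI a ≤ K → Cfsg.HasNormalPComplement 2 K → K ≠ cI a →
        ∀ p : ℕ, p.Prime → IsPGroup p (Cfsg.fittingSubgroup ↥K) → False) :
    NilpotentOvergroupStmt.{u} := by
  intro G _ _ M a ha K hK hle h2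
  by_contra hne
  exact false_of_two_primes hcomp M ha hK hle h2 hne fun p hp hF =>
    hone G M a ha K hK hle h2 hne p hp hF

end CfsgLib.GW.Nilp
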