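import Cfsg.Agent.Lib.Geom.PSLTwoCentralizer
import Cfsg.Agent.Lib.Recog.SuborbitThree.PSLFacts
import Cfsg.Agent.Lib.Invol.Basic
import Cfsg.Agent.Lib.BlockA.DihedralCount

/-!
Involution centralisers in `PGL₂(q)`, `q` odd.
-/

set_option autoImplicit false
set_option linter.unusedSectionVars false
set_option linter.style.haveILetI false

namespace CfsgLib.GW.PGL

open Subgroup Matrix CfsgLib.Geom.Moebius
open scoped MatrixGroups

variable {F : Type} [Field F] [Fintype F]

theorem invol_unique {G : Type*} [Group G] [Finite G] {T : Subgroup G} (hT : IsCyclic T) {a b : G}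
    (ha : a ∈ T) (hb : b ∈ T) (ha2 : orderOf a = 2) (hb2 : orderOf b = 2) : a = b := by
  haveI := hT
  obtain ⟨g, hg⟩ := IsCyclic.exists_generator (α := T)
  have h := CfsgLib.BlockA.DihedralBlock.invol_zpowers_unique (hg ⟨a, ha⟩) (hg ⟨b, hb⟩)
    (by rw [orderOf_mk, ha2]) (by rw [orderOf_mk, hb2])
  exact congrArg Subtype.val h

theorem ne_one_of_two {G : Type*} [Group G] {a : G} (ha : orderOf a = 2) : a ≠ 1 := fun h => by
  rw [h, orderOf_one] at ha; omega

/-- An involution commuting with a nontrivial element gives it two fixed points. -/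
theorem exists_torus (hodd : Odd (Fintype.card F)) {a x : PGL(2, F)} (ha : orderOf a = 2)
    (hc : Commute x a) (hx : x ≠ 1) :
    ∃ T : Subgroup PGL(2, F), IsCyclic T ∧ x ∈ T ∧
      (Nat.card T = Fintype.card F - 1 ∨ Nat.card T = Fintype.card F + 1) ∧
      (x * x ≠ 1 → centralizer ({x} : Set PGL(2, F)) ≤ T) ∧
      (∀ y, Commute y x → y ∈ T ∨ y * y = 1) ∧
      (x * x = 1 → ∃ s, Commute s x ∧ s ∉ T) := by
  have := finite_pgl_two (F := F)
  obtain ⟨E, _, _, f, hE, hQC⟩ := exists_quadExt F
  obtain ⟨P, hP⟩ := exists_fixed f hQC x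
  obtain ⟨Q, hQ, hne⟩ : ∃ Q, extHom f x • Q = Q ∧ Q ≠ P := by
    by_contra h
    obtain ⟨-, -, hcard⟩ := card_centralizer_one_fixed f hQC hx hP fun R hR =>
      by_contra fun e => h ⟨R, hR, e⟩
    have hd : orderOf a ∣ Fintype.card F := hcard ▸
      Subgroup.orderOf_dvd_natCard _ (mem_centralizer_singleton_iff.2 hc.symm.eq)
    rw [ha] at hd
    exact Nat.not_even_iff_odd.2 hodd (even_iff_two_dvd.2 hd)
  obtain ⟨hcyc, hcard, s, hs1, hs2⟩ := torus_pair f hE hQC hne.symm hx hP hQ
  refine ⟨_, hcyc, mem_inf.2 ⟨hP, hQ⟩, hcard, fun hxx y hy => ?_, fun y hy => ?_, fun hxx => ?_⟩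
  · rcases (centralizer_two_fixed f hE hQC hne.symm hx hP hQ (x := y)).1 hy with h | ⟨h, -⟩
    · exact h
    · exact absurd h hxx
  · rcases (centralizer_two_fixed f hE hQC hne.symm hx hP hQ (x := y)).1
      (mem_centralizer_singleton_iff.2 hy.eq) with h | ⟨-, h⟩
    · exact Or.inl h
    · rcases (mem_pairStab f).1 h with h' | ⟨u, v⟩
      · exact Or.inl h'
      · exact Or.inr (sq_eq_one_of_swap f hQC hne.symm u v)
  · refine ⟨s, mem_centralizer_singleton_iff.1
      ((centralizer_two_fixed f hE hQC hne.symm hx hP hQ (x := s)).2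
        (Or.inr ⟨hxx, (mem_pairStab f).2 (Or.inr ⟨hs1, hs2⟩)⟩)), fun h => hne ?_⟩
    exact (hs1.symm.trans (mem_inf.1 h).1)

theorem dvd_two {G : Type*} [Group G] {y : G} (h : y * y = 1) (ho : Odd (orderOf y)) : y = 1 := by
  rcases (Nat.dvd_prime Nat.prime_two).1 (orderOf_dvd_of_pow_eq_one (show y ^ 2 = 1 by rw [pow_two]; exact h))
    with e | e
  · exact orderOf_eq_one_iff.1 e
  · rw [e] at ho; exact absurd ho (by decide)

/-- The elements of odd order centralising an involution lie in a cyclic group. -/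
theorem odd_cyclic (hodd : Odd (Fintype.card F)) {a : PGL(2, F)} (ha : orderOf a = 2) :
    ∃ T : Subgroup PGL(2, F), IsCyclic T ∧
      ∀ y, Commute y a → Odd (orderOf y) → y ∈ T := by
  obtain ⟨T, hT, -, -, -, hall, -⟩ := exists_torus hodd ha (Commute.refl a) (ne_one_of_two ha)
  refine ⟨T, hT, fun y hy ho => (hall y hy).elim id fun h => ?_⟩
  rw [dvd_two h ho]; exact one_mem T

/-- An element of odd order centralised by two commuting involutions is trivial. -/
theorem eq_one_of_two_invol (hodd : Odd (Fintype.card F)) {a b x : PGL(2, F)} (ha : orderOf a = 2)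
    (hb : orderOf b = 2) (hab : a ≠ b) (hxa : Commute x a) (hxb : Commute x b)
    (ho : Odd (orderOf x)) : x = 1 := by
  have := finite_pgl_two (F := F)
  by_contra hx
  have hxx : x * x ≠ 1 := fun h => hx (dvd_two h ho)
  obtain ⟨T, hT, -, -, hle, -, -⟩ := exists_torus hodd ha hxa hx
  exact hab (invol_unique hT
    (hle hxx (mem_centralizer_singleton_iff.2 hxa.symm.eq))
    (hle hxx (mem_centralizer_singleton_iff.2 hxb.symm.eq)) ha hb)

/-- An element of odd order inverted by an involution `a` and centralised by the special part of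
the centraliser of `a` is trivial. -/
theorem eq_one_of_inverted (hodd : Odd (Fintype.card F)) (h4 : 4 ≤ Fintype.card F)
    {a z x : PGL(2, F)} (ha : orderOf a = 2) (hz : orderOf z = 2) (hxz : Commute x z)
    (ho : Odd (orderOf x)) (hinv : a * x * a⁻¹ = x⁻¹)
    (hfix : ∀ c ∈ imL F, Commute c a → Commute c x) : x = 1 := by
  have := finite_pgl_two (F := F)
  by_contra hx
  have hxx : x * x ≠ 1 := fun h => hx (dvd_two h ho)
  have hax : ¬ Commute a x := fun h => hxx (by
    rw [h.eq, mul_inv_cancel_right] at hinv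
    exact mul_eq_one_iff_eq_inv.2 hinv)
  obtain ⟨T, hT, -, -, hle, -, -⟩ := exists_torus hodd hz hxz hx
  set CL := centralizer ({a} : Set PGL(2, F)) ⊓ imL F with hCL
  haveI := hT
  haveI : IsMulCommutative T := inferInstance
  have hCT : CL ≤ T := fun c hc =>
    hle hxx (mem_centralizer_singleton_iff.2
      (hfix c hc.2 (mem_centralizer_singleton_iff.1 hc.1)).eq)
  have hsq : ∀ c ∈ CL, c * c = 1 := by
    intro c hc
    by_contra hcc
    obtain ⟨T', hT', -, -, hle', -, -⟩ := exists_torus hodd ha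
      (mem_centralizer_singleton_iff.1 hc.1) (fun h => hcc (by rw [h, mul_one]))
    haveI := hT'
    haveI : IsMulCommutative T' := inferInstance
    exact hax (congrArg Subtype.val (IsMulCommutative.is_comm.comm
      (⟨a, hle' hcc (mem_centralizer_singleton_iff.2 (mem_centralizer_singleton_iff.1 hc.1).symm)⟩ : T')
      ⟨x, hle' hcc (mem_centralizer_singleton_iff.2
        (hfix c hc.2 (mem_centralizer_singleton_iff.1 hc.1)).symm.eq)⟩))
  have hle2 : Nat.card CL ≤ 2 := by
    haveI : IsCyclic CL := isCyclic_of_injective (Subgroup.inclusion hCT) (Subgroup.inclusion_injective hCT)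
    obtain ⟨g, hg⟩ := IsCyclic.exists_generator (α := CL)
    rw [← orderOf_eq_card_of_forall_mem_zpowers hg]
    exact Nat.le_of_dvd two_pos (orderOf_dvd_of_pow_eq_one (by
      rw [pow_two]; exact Subtype.ext (hsq g g.2)))
  -- the centralizer of `a` is large
  obtain ⟨Ta, hTa, hmem, hcard, -, -, hswap⟩ :=
    exists_torus hodd ha (Commute.refl a) (ne_one_of_two ha)
  obtain ⟨s, hs, hsT⟩ := hswap (CfsgLib.Invol.invol_mul_self ha)
  haveI := hTa
  haveI : IsMulCommutative Ta := inferInstance
  have hTC : Ta ≤ centralizer ({a} : Set PGL(2, F)) := fun t ht => mem_centralizer_singleton_iff.2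
    (congrArg Subtype.val (IsMulCommutative.is_comm.comm (⟨t, ht⟩ : Ta) ⟨a, hmem⟩))
  have h2T : 2 * Nat.card Ta ≤ Nat.card (centralizer ({a} : Set PGL(2, F))) := by
    have hlt : Ta < centralizer ({a} : Set PGL(2, F)) :=
      lt_of_le_of_ne hTC fun e => hsT (e ▸ mem_centralizer_singleton_iff.2 hs.eq)
    obtain ⟨k, hk⟩ := card_dvd_of_le hTC
    rcases Nat.lt_or_ge k 2 with h | h
    · exfalso
      have := Set.ncard_lt_ncard hlt
      rw [← Nat.card_coe_set_eq, ← Nat.card_coe_set_eq] at this
      simp only [SetLike.coe_sort_coe] at this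
      rw [hk] at this
      interval_cases k <;> omega
    · rw [hk, mul_comm]; exact Nat.mul_le_mul_left _ h
  have hC : Nat.card (centralizer ({a} : Set PGL(2, F))) ≤ 2 * Nat.card CL := by
    have hd : CL.relIndex (centralizer ({a} : Set PGL(2, F))) ∣ 2 := by
      haveI : (imL F).Normal := normal_of_index_eq_two (imL_index hodd)
      have h := relIndex_dvd_index_of_normal (imL F) (centralizer ({a} : Set PGL(2, F)))
      rw [imL_index hodd] at h
      rw [hCL, inf_relIndex_left]
      exact h
    have h := Subgroup.card_mul_index (CL.subgroupOf (centralizer ({a} : Set PGL(2, F))))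
    rw [Nat.card_congr (subgroupOfEquivOfLe (inf_le_left : CL ≤ centralizer ({a} : Set PGL(2, F)))).toEquiv] at h
    rw [← h, mul_comm]
    exact Nat.mul_le_mul_right _ (Nat.le_of_dvd two_pos hd)
  obtain ⟨m, hm⟩ := hodd
  rcases hcard with e | e <;> omega

end CfsgLib.GW.PGL
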