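import Cfsg.Agent.Lib.Geom.PSLTwoCentralizer
import Cfsg.Agent.Lib.BlockA.DihedralCount

/-!
Centralisers of involutions in `PGL₂(q)` and `PSL₂(q)`, `q` odd.
-/

set_option autoImplicit false
set_option linter.unusedSectionVars false

namespace CfsgLib.GW.TwoClassPSL

open Matrix CfsgLib.Geom.Moebius
open scoped MatrixGroups

variable {F : Type} [Field F] [Fintype F]

local notation "PSL2" => ProjectiveSpecialLinearGroup (Fin 2) F
local notation "ψ" => Matrix.ProjectiveSpecialLinearGroup.toPGL (n := Fin 2) (R := F)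

theorem odd_eq_one {X : Type*} [Group X] {x : X} (ho : Odd (orderOf x)) (h : x * x = 1) : x = 1 := by
  rw [← pow_two] at h
  have h2 := orderOf_dvd_of_pow_eq_one h
  rcases (Nat.dvd_prime Nat.prime_two).1 h2 with e | e
  · exact orderOf_eq_one_iff.1 e
  · exact absurd (e ▸ ho) (by decide)

/-- Involution centralisers of `PGL₂(q)`: the order, their elements are real inside the image of
`SL₂`, and two commuting involutions centralise no element of odd order. -/
theorem pgl_invol (hodd : Odd (Fintype.card F)) (h4 : 4 ≤ Fintype.card F) {a : PGL(2, F)}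
    (ha : orderOf a = 2) :
    (Nat.card (Subgroup.centralizer {a}) = 2 * (Fintype.card F - 1) ∨
        Nat.card (Subgroup.centralizer {a}) = 2 * (Fintype.card F + 1)) ∧
      (∀ x ∈ imL F, x * a = a * x → ∃ s ∈ imL F, s * a = a * s ∧ s * x * s⁻¹ = x⁻¹) ∧
      ∀ b x : PGL(2, F), orderOf b = 2 → b ≠ a → b * a = a * b → x * a = a * x → x * b = b * x →
        Odd (orderOf x) → x = 1 := by
  have := finite_pgl_two (F := F)
  obtain ⟨E, _, _, f, hE, hQC⟩ := exists_quadExt F
  have ha1 : a ≠ 1 := fun e => by rw [e, orderOf_one] at ha; omega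
  have haa : a * a = 1 := by have h := pow_orderOf_eq_one a; rwa [ha, pow_two] at h
  obtain ⟨P, hP⟩ := exists_fixed f hQC a
  obtain ⟨Q, hQ, hne⟩ : ∃ Q, extHom f a • Q = Q ∧ Q ≠ P := by
    by_contra hu
    push Not at hu
    obtain ⟨-, -, h3⟩ := card_centralizer_one_fixed f hQC ha1 hP hu
    have h := Subgroup.orderOf_dvd_natCard _ (Subgroup.mem_centralizer_singleton_iff.2 rfl :
      a ∈ Subgroup.centralizer {a})
    rw [ha, h3] at h
    exact Nat.not_even_iff_odd.2 hodd (even_iff_two_dvd.2 h)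
  obtain ⟨hcyc, hcard, s, hsP, hsQ⟩ := torus_pair f hE hQC hne.symm ha1 hP hQ
  have hC : ∀ x : PGL(2, F), x * a = a * x ↔ x ∈ pairStab f P Q := fun x => by
    rw [← Subgroup.mem_centralizer_singleton_iff, centralizer_two_fixed f hE hQC hne.symm ha1 hP hQ]
    exact ⟨fun h => h.elim (pairStab_self f P Q ·) And.right, fun h => Or.inr ⟨haa, h⟩⟩
  have hq := hodd
  obtain ⟨m, hm⟩ := hq
  have h2 : 2 ≤ Nat.card (fixExt f P ⊓ fixExt f Q ⊓ (⊤ : Subgroup PGL(2, F)) : Subgroup PGL(2, F)) := by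
    rw [inf_top_eq]
    rcases hcard with e | e <;> rw [e] <;> omega
  have hsq : ∀ x : PGL(2, F), extHom f x • P = Q → extHom f x • Q = P → x * x = 1 := fun x h1 h2 =>
    sq_eq_one_of_swap f hQC hne.symm h1 h2
  refine ⟨?_, fun x hxL hxa => ?_, fun b x hb hba hcab hxa hxb hxo => ?_⟩
  · have hcen : Subgroup.centralizer ({a} : Set PGL(2, F)) = pairStab f P Q ⊓ ⊤ := by
      ext x
      rw [inf_top_eq, Subgroup.mem_centralizer_singleton_iff, hC]
    rw [hcen, (pairStab_dihedral f hQC hne.symm ⊤ (Subgroup.mem_top s) hsP hsQ h2).2, inf_top_eq]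
    rcases hcard with e | e <;> rw [e] <;> omega
  · obtain ⟨-, t, htL, htP, htQ⟩ := torus_inf_imL f hE hQC hodd h4 hne.symm ha1 hP hQ
    rcases (mem_pairStab f).1 ((hC x).1 hxa) with ⟨h1, h2'⟩ | ⟨h1, h2'⟩
    · refine ⟨t, htL, (hC t).2 ((mem_pairStab f).2 (Or.inr ⟨htP, htQ⟩)), ?_⟩
      have htt := hsq t htP htQ
      have htx := hsq (t * x) (by rw [map_mul, mul_smul, h1, htP]) (by rw [map_mul, mul_smul, h2', htQ])
      rw [inv_eq_of_mul_eq_one_right htt]
      exact eq_inv_of_mul_eq_one_left (by rw [← htx]; group)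
    · exact ⟨1, one_mem _, by rw [one_mul, mul_one], by
        rw [one_mul, inv_one, mul_one, inv_eq_of_mul_eq_one_right (hsq x h1 h2')]⟩
  · rcases (mem_pairStab f).1 ((hC x).1 hxa) with ⟨h1, h1'⟩ | ⟨h1, h1'⟩
    swap
    · exact odd_eq_one hxo (hsq x h1 h1')
    rcases (mem_pairStab f).1 ((hC b).1 hcab) with ⟨g1, g1'⟩ | ⟨g1, g1'⟩
    · exfalso
      set T := (fixExt f P ⊓ fixExt f Q : Subgroup PGL(2, F))
      obtain ⟨⟨r, hr⟩, hro⟩ := hcyc.exists_generator
      obtain ⟨i, hi⟩ := Subgroup.mem_zpowers_iff.1 (hro ⟨b, ⟨g1, g1'⟩⟩)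
      obtain ⟨j, hj⟩ := Subgroup.mem_zpowers_iff.1 (hro ⟨a, ⟨hP, hQ⟩⟩)
      exact hba (CfsgLib.BlockA.DihedralBlock.invol_zpowers_unique
        (Subgroup.mem_zpowers_iff.2 ⟨i, by simpa using congrArg Subtype.val hi⟩)
        (Subgroup.mem_zpowers_iff.2 ⟨j, by simpa using congrArg Subtype.val hj⟩) hb ha)
    · have hbb := hsq b g1 g1'
      have hbx := hsq (b * x) (by rw [map_mul, mul_smul, h1, g1]) (by rw [map_mul, mul_smul, h1', g1'])
      refine odd_eq_one hxo ?_
      calc x * x = b * b * (x * x) := by rw [hbb, one_mul]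
        _ = b * (b * x) * x := by group
        _ = b * (x * b) * x := by rw [hxb]
        _ = b * x * (b * x) := by group
        _ = 1 := hbx

/-- Real elements in the involution centralisers of `PSL₂(q)`. -/
theorem psl_real (hodd : Odd (Fintype.card F)) (h4 : 4 ≤ Fintype.card F) {a x : PSL2}
    (ha : orderOf a = 2) (hxa : x * a = a * x) : ∃ s : PSL2, s * x * s⁻¹ = x⁻¹ := by
  obtain ⟨s, ⟨s', rfl⟩, -, hs⟩ := (pgl_invol hodd h4 (a := ψ a)
    (by rw [orderOf_injective _ ProjectiveSpecialLinearGroup.toPGL_injective, ha])).2.1 (ψ x) ⟨x, rfl⟩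
    (by rw [← map_mul, ← map_mul, hxa])
  exact ⟨s', ProjectiveSpecialLinearGroup.toPGL_injective (by rw [map_mul, map_mul, map_inv, map_inv]; exact hs)⟩

/-- Two commuting involutions of `PSL₂(q)` centralise no element of odd order. -/
theorem psl_free (hodd : Odd (Fintype.card F)) (h4 : 4 ≤ Fintype.card F) {a b x : PSL2}
    (ha : orderOf a = 2) (hb : orderOf b = 2) (hne : b ≠ a) (hba : b * a = a * b) (hxa : x * a = a * x)
    (hxb : x * b = b * x) (hxo : Odd (orderOf x)) : x = 1 :=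
  ProjectiveSpecialLinearGroup.toPGL_injective ((map_one ψ).symm ▸
    (pgl_invol hodd h4 (a := ψ a)
      (by rw [orderOf_injective _ ProjectiveSpecialLinearGroup.toPGL_injective, ha])).2.2 (ψ b) (ψ x)
      (by rw [orderOf_injective _ ProjectiveSpecialLinearGroup.toPGL_injective, hb])
      (fun e => hne (ProjectiveSpecialLinearGroup.toPGL_injective e))
      (by rw [← map_mul, ← map_mul, hba]) (by rw [← map_mul, ← map_mul, hxa])
      (by rw [← map_mul, ← map_mul, hxb])
      (by rwa [orderOf_injective _ ProjectiveSpecialLinearGroup.toPGL_injective]))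

end CfsgLib.GW.TwoClassPSL
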