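import Cfsg.Agent.Lib.GW.TwoClassPSL
import Cfsg.Agent.Lib.Recog.GW.ConsumerRankOne
import Cfsg.Agent.Lib.Recog.GenDihedral.PSLExtension
import Cfsg.Agent.Lib.Recog.GenDihedral.Sub
import Cfsg.Agent.Lib.Recog.SuborbitThree.PSLFacts
import Cfsg.Agent.S2602

/-!
The one-class normal subgroup of a group without odd core which has a dihedral Sylow 2-subgroup and
two classes of involutions.
-/

set_option autoImplicit false
set_option linter.unusedSectionVars false
set_option linter.style.haveILetI false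

namespace CfsgLib.GW.TwoClass

open Subgroup CfsgLib.Invol CfsgLib.Recog.GenDih CfsgLib.Recog.GenDihedral
open scoped MatrixGroups

universe u

variable {Q : Type u} [Group Q] [Finite Q]

/-- The normal subgroup with one class of involutions. -/
structure Data (T : Sylow 2 Q) (E : DihData (T : Subgroup Q)) (L : Subgroup Q) (q : ℕ) (ε j : ℤ) :
    Prop where
  normal : L.Normal
  hq : Odd q
  hq3 : 3 ≤ q
  hε : ε = 1 ∨ ε = -1
  card : 2 * Nat.card L = q * (q * q - 1)
  h4 : (4 : ℤ) ∣ q - ε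
  zmem : dz T E ∈ L
  tmem : dt T E j ∈ L
  ymem : dt T E (j + 1) ∉ L
  cover : ∀ t ∈ (T : Subgroup Q), t ∈ L ∨ dt T E (j + 1) * t ∈ L
  one : ∀ u ∈ L, ∀ v ∈ L, orderOf u = 2 → orderOf v = 2 → ∃ l ∈ L, l * u * l⁻¹ = v
  central : ∀ x : Q, Odd (orderOf x) → ∀ t ∈ (T : Subgroup Q), t * x * t⁻¹ * x⁻¹ ∈ L
  centz : (Nat.card ↥(centralizer ({dz T E} : Set Q) ⊓ L) : ℤ) = q - ε
  centy : (Nat.card ↥(centralizer ({dt T E (j + 1)} : Set Q) ⊓ L) : ℤ) = q + ε
  free : ∀ s, s = dt T E j ∨ s = dt T E (j + 1) → ∀ x ∈ L, x * dz T E = dz T E * x →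
    x * s = s * x → Odd (orderOf x) → x = 1
  small : q = 3 → L.index = 2

/-- Only the centre of a dihedral group of order at least eight is central. -/
theorem eq_dz_of_central (T : Sylow 2 Q) (E : DihData (T : Subgroup Q)) (hh : 2 ≤ E.h) {y : Q}
    (hy : orderOf y = 2) (hyT : y ∈ (T : Subgroup Q))
    (hc : ∀ t ∈ (T : Subgroup Q), t * y = y * t) : y = dz T E := by
  rcases E.invol_cases (u := ⟨y, hyT⟩) (by rw [orderOf_mk, hy]) with e | ⟨i, e⟩
  · exact congrArg Subtype.val e
  · exfalso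
    have h := E.conj_refl 1 i
    have hcm : E.r ^ (1 : ℤ) * ⟨y, hyT⟩ = ⟨y, hyT⟩ * E.r ^ (1 : ℤ) :=
      Subtype.ext (hc _ (SetLike.coe_mem (E.r ^ (1 : ℤ))))
    rw [← e, mul_inv_eq_iff_eq_mul.2 hcm, e, mul_left_inj, E.zpow_eq_iff] at h
    have := Int.le_of_dvd (by norm_num) h
    omega

/-- An involution centralised by a group of the full 2-order is conjugate to the centre. -/
theorem conj_dz_of_card_dvd (T : Sylow 2 Q) (E : DihData (T : Subgroup Q)) (hh : 2 ≤ E.h) {y : Q}
    (hy : orderOf y = 2)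
    (hd : Nat.card (T : Subgroup Q) ∣ Nat.card (centralizer ({y} : Set Q))) :
    ∃ g : Q, g * y * g⁻¹ = dz T E := by
  haveI : Fact (Nat.Prime 2) := ⟨Nat.prime_two⟩
  obtain ⟨n, hn⟩ := T.2.exists_card_eq
  obtain ⟨P, hP⟩ := Sylow.exists_subgroup_card_pow_prime 2 (hn ▸ hd)
  set P' : Subgroup Q := P.map (centralizer ({y} : Set Q)).subtype
  have hP'c : Nat.card P' = 2 ^ n := by rw [card_map_of_injective (subtype_injective _), hP]
  obtain ⟨S, hS⟩ := (IsPGroup.of_card hP'c).exists_le_sylow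
  have hSe : P' = (S : Subgroup Q) := eq_of_le_of_card_ge hS (by
    rw [hP'c, S.card_eq_multiplicity, ← T.card_eq_multiplicity, hn])
  have hyc : ∀ p ∈ P', p * y = y * p := fun p hp =>
    mem_centralizer_singleton_iff.1 (map_subtype_le P hp)
  have hyS : y ∈ (S : Subgroup Q) := by
    have h2 : IsPGroup 2 (zpowers y) := IsPGroup.of_card (n := 1) (by rw [Nat.card_zpowers, hy, pow_one])
    have hnorm : zpowers y ≤ normalizer ((S : Subgroup Q) : Set Q) := by
      rw [zpowers_le]
      refine mem_normalizer_iff_of_finite fun p hp => ?_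
      rw [← hyc p (hSe ▸ hp), mul_inv_cancel_right]
      exact hp
    have h3 := IsPGroup.to_sup_of_normal_right' h2 S.2 hnorm
    exact (S.3 h3 le_sup_right).le (mem_sup_left (mem_zpowers y))
  obtain ⟨g, rfl⟩ := MulAction.exists_smul_eq Q S T
  refine ⟨g, eq_dz_of_central _ E hh (by rw [CfsgLib.Invol.orderOf_conj_eq, hy]) ⟨y, hyS, rfl⟩ ?_⟩
  rintro _ ⟨p, hp, rfl⟩
  show g * p * g⁻¹ * (g * y * g⁻¹) = g * y * g⁻¹ * (g * p * g⁻¹)
  calc g * p * g⁻¹ * (g * y * g⁻¹) = g * (p * y) * g⁻¹ := by group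
    _ = g * (y * p) * g⁻¹ := by rw [hyc p (hSe ▸ hp)]
    _ = _ := by group

theorem four_centA : ∀ u : Equiv.Perm (Fin 4), Equiv.Perm.sign u = 1 → u * u = 1 → u ≠ 1 →
    (Finset.univ.filter fun l : Equiv.Perm (Fin 4) => Equiv.Perm.sign l = 1 ∧ l * u = u * l).card = 4 := by
  decide +kernel

theorem four_centB : ∀ u : Equiv.Perm (Fin 4), Equiv.Perm.sign u = -1 → u * u = 1 →
    (Finset.univ.filter fun l : Equiv.Perm (Fin 4) => Equiv.Perm.sign l = 1 ∧ l * u = u * l).card = 2 := by
  decide +kernel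

theorem four_one : ∀ u v : Equiv.Perm (Fin 4), Equiv.Perm.sign u = 1 → u * u = 1 → u ≠ 1 →
    Equiv.Perm.sign v = 1 → v * v = 1 → v ≠ 1 →
    ∃ l : Equiv.Perm (Fin 4), Equiv.Perm.sign l = 1 ∧ l * u * l⁻¹ = v := by
  decide +kernel

theorem four_free : ∀ u x : Equiv.Perm (Fin 4), Equiv.Perm.sign u = 1 → u * u = 1 → u ≠ 1 →
    Equiv.Perm.sign x = 1 → x * u = u * x → x * x = 1 := by
  have h : ∀ u x : Equiv.Perm (Fin 4), (Equiv.Perm.sign u = 1 ∧ u * u = 1 ∧ u ≠ 1 ∧
      Equiv.Perm.sign x = 1 ∧ x * u = u * x) → x * x = 1 := by decide +kernel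
  exact fun u x a b c d e => h u x ⟨a, b, c, d, e⟩

theorem four_sq : ∀ g : Equiv.Perm (Fin 4), Equiv.Perm.sign g = 1 → g * g * g * g = 1 → g * g = 1 := by
  decide +kernel

variable (T : Sylow 2 Q) (E : DihData (T : Subgroup Q))

/-- The symmetric group of degree four. -/
theorem data_of_permFour (hh : 2 ≤ E.h) (e : Q ≃* Equiv.Perm (Fin 4)) :
    ∃ (L : Subgroup Q) (q : ℕ) (ε j : ℤ), Data T E L q ε j := by
  classical
  let s : Q →* ℤˣ := Equiv.Perm.sign.comp e.toMonoidHom
  set L := s.ker with hL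
  have hmem : ∀ x, x ∈ L ↔ Equiv.Perm.sign (e x) = 1 := fun x => Iff.rfl
  have hsurj : Function.Surjective s := fun u => by
    obtain ⟨p, rfl⟩ := Equiv.Perm.sign_surjective (Fin 4) u
    exact ⟨e.symm p, by simp [s]⟩
  have hidx : L.index = 2 := by
    rw [hL, index_ker, MonoidHom.range_eq_top.2 hsurj, Nat.card_congr Subgroup.topEquiv.toEquiv,
      Nat.card_eq_fintype_card, Fintype.card_units_int]
  have hQc : Nat.card Q = 24 := by
    rw [Nat.card_congr e.toEquiv, Nat.card_perm, Nat.card_fin]; rfl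
  have hh2 : E.h = 2 := by
    have h1 : Nat.card (T : Subgroup Q) ∣ 24 := hQc ▸ card_subgroup_dvd_card _
    rw [E.card_eq] at h1
    obtain ⟨k, hk⟩ := E.h_pow
    have := Nat.le_of_dvd (by norm_num) h1
    rcases k with _ | _ | k
    · simp at hk; omega
    · simpa using hk
    · have h4 : E.h = 4 * 2 ^ k := by rw [hk]; ring
      have : E.h = 4 := by have := Nat.one_le_two_pow (n := k); omega
      rw [this] at h1; norm_num at h1
  set r : Q := ((E.r : (T : Subgroup Q)) : Q)
  have hro : orderOf r = 4 := by rw [Subgroup.orderOf_coe, E.orderOf_r, hh2]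
  have hz : dz T E = r * r := by
    show ((E.r ^ (E.h : ℤ) : (T : Subgroup Q)) : Q) = _
    rw [hh2, zpow_natCast, pow_two, Subgroup.coe_mul]
  have hzL : dz T E ∈ L := hz ▸ mul_self_mem_of_index_two hidx r
  have hrL : r ∉ L := fun h => by
    have h4 : e r * e r * e r * e r = 1 := by
      rw [← map_mul, ← map_mul, ← map_mul, show r * r * r * r = r ^ orderOf r by rw [hro, pow_succ, pow_succ, pow_two],
        pow_orderOf_eq_one, map_one]
    have h2 := four_sq _ ((hmem r).1 h) h4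
    rw [← map_mul, e.map_eq_one_iff, ← pow_two] at h2
    have := orderOf_le_of_pow_eq_one two_pos h2
    omega
  have hdt : ∀ j : ℤ, dt T E (j + 1) = r * dt T E j := fun j => by
    show ((E.r ^ (j + 1) * E.s : (T : Subgroup Q)) : Q) = _
    rw [show j + 1 = 1 + j by ring, zpow_add, zpow_one, mul_assoc]
    rfl
  obtain ⟨j, htj, hyj⟩ : ∃ j, dt T E j ∈ L ∧ dt T E (j + 1) ∉ L := by
    by_cases h0 : dt T E 0 ∈ L
    · exact ⟨0, h0, fun h => hrL ((mul_mem_cancel_right h0).1 (hdt 0 ▸ h))⟩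
    · refine ⟨1, ?_, fun h => ?_⟩
      · rw [show (1 : ℤ) = 0 + 1 by ring, hdt]
        exact (mul_mem_iff_of_index_two hidx).2 (iff_of_false hrL h0)
      · rw [hdt, show (1 : ℤ) = 0 + 1 by ring, hdt, ← mul_assoc] at h
        exact h0 ((mul_mem_cancel_left (mul_self_mem_of_index_two hidx r)).1 h)
  have hsq : ∀ u : Q, orderOf u = 2 → e u * e u = 1 ∧ e u ≠ 1 := fun u hu =>
    ⟨by rw [← map_mul, invol_mul_self hu, map_one], fun h => invol_ne_one hu (e.map_eq_one_iff.1 h)⟩
  have hzo : orderOf (dz T E) = 2 := (Subgroup.orderOf_coe _).trans E.orderOf_z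
  have hyo : orderOf (dt T E (j + 1)) = 2 := (Subgroup.orderOf_coe _).trans (E.orderOf_zy _)
  have hcount : ∀ u : Q, Nat.card ↥(centralizer ({u} : Set Q) ⊓ L) =
      (Finset.univ.filter fun l : Equiv.Perm (Fin 4) =>
        Equiv.Perm.sign l = 1 ∧ l * e u = e u * l).card := fun u => by
    rw [← Fintype.card_subtype, ← Nat.card_eq_fintype_card]
    refine Nat.card_congr (e.toEquiv.subtypeEquiv fun x => ?_)
    show x ∈ centralizer ({u} : Set Q) ⊓ L ↔ _
    rw [mem_inf, mem_centralizer_singleton_iff, hmem, and_comm]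
    refine and_congr Iff.rfl ?_
    show _ ↔ e x * e u = e u * e x
    rw [← map_mul, ← map_mul, e.injective.eq_iff]
  have hL12 : Nat.card L = 12 := by
    have := L.card_mul_index
    rw [hidx, hQc] at this; omega
  refine ⟨L, 3, -1, j, ⟨inferInstance, by decide, le_rfl, Or.inr rfl, by rw [hL12], by norm_num, hzL,
    htj, hyj, fun t ht => ?_, fun u hu v hv ho ho' => ?_, fun x _ t _ => ?_, ?_, ?_, ?_, fun _ => hidx⟩⟩
  · by_cases h : t ∈ L
    · exact Or.inl h
    · exact Or.inr ((mul_mem_iff_of_index_two hidx).2 (iff_of_false hyj h))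
  · obtain ⟨l, hl, he⟩ := four_one _ _ ((hmem u).1 hu) (hsq u ho).1 (hsq u ho).2 ((hmem v).1 hv)
      (hsq v ho').1 (hsq v ho').2
    refine ⟨e.symm l, (hmem _).2 (by rw [e.apply_symm_apply]; exact hl), e.injective ?_⟩
    rw [map_mul, map_mul, map_inv, e.apply_symm_apply, he]
  · show s _ = 1
    rw [map_mul, map_mul, map_mul, map_inv, map_inv, mul_right_comm (s t), mul_inv_cancel, one_mul,
      mul_inv_cancel]
  · rw [hcount, four_centA _ ((hmem _).1 hzL) (hsq _ hzo).1 (hsq _ hzo).2]; norm_num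
  · rw [hcount, four_centB _ ((Int.units_eq_one_or _).resolve_left fun h => hyj ((hmem _).2 h))
      (hsq _ hyo).1]
    norm_num
  · intro x _ z hz hxz _ ho
    refine TwoClassPSL.odd_eq_one ho (e.injective ?_)
    rw [map_mul, map_one]
    exact four_free _ _ ((hmem _).1 hzL) (hsq _ hzo).1 (hsq _ hzo).2 ((hmem z).1 hz) (by
      rw [← map_mul, ← map_mul, hxz])

/-- The linear socle. -/
theorem data_of_psl (hh : 2 ≤ E.h) (L : Subgroup Q) [L.Normal] (hLs : IsSimpleGroup L)
    (hC : centralizer (L : Set Q) = ⊥) (hTL : ¬ (T : Subgroup Q) ≤ L) {F : Type} [Field F] [Fintype F]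
    (hodd : Odd (Fintype.card F)) (h3 : 3 < Fintype.card F)
    (e : L ≃* Matrix.ProjectiveSpecialLinearGroup (Fin 2) F) :
    ∃ (q : ℕ) (ε j : ℤ), Data T E L q ε j := by
  classical
  haveI : Fact (Nat.Prime 2) := ⟨Nat.prime_two⟩
  set q := Fintype.card F with hq
  have h4 : 4 ≤ q := by omega
  haveI := CfsgLib.ClassK.isSimpleGroup_psl_two (F := F) h4
  have hcardL : 2 * Nat.card L = q * (q * q - 1) := by
    rw [Nat.card_congr e.toEquiv]
    have h := CfsgLib.Classical.card_psl_two_mul (F := F)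
    obtain ⟨k, hk⟩ := hodd
    rw [Nat.gcd_eq_left (show 2 ∣ Fintype.card F - 1 from ⟨k, by omega⟩), pow_two] at h
    linarith [h]
  have hns : ¬ Group.IsSolvable L := fun hs => by
    have h1 := IsSimpleGroup.comm_iff_isSolvable.2
      (Group.isSolvable_of_surjective (f := e.toMonoidHom) e.surjective)
    obtain ⟨i, j, hi, hj, -, hne, -⟩ := CfsgLib.Recog.GenDihedral.exists_four (F := F)
      (CfsgLib.Recog.GenDihedral.two_ne_zero_of_odd hodd)
    have hN : (zpowers i).Normal := ⟨fun n hn g => by rwa [h1 g n, mul_inv_cancel_right]⟩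
    rcases hN.eq_bot_or_eq_top with hb | ht
    · exact invol_ne_one hi (zpowers_eq_bot.1 hb)
    · exact hne (CfsgLib.BlockA.DihedralBlock.invol_zpowers_unique (mem_zpowers i) (ht ▸ mem_top j) hi hj)
  obtain ⟨P, D, j, hP, hdz, -, hs, hcov⟩ := exists_subData T E L hns
  have hzL : dz T E ∈ L := hdz ▸ (dz P D).2
  have htL : dt T E j ∈ L := hs ▸ SetLike.coe_mem _
  set z := dz T E with hzdef
  set y := dt T E (j + 1) with hydef
  have hyL : y ∉ L := fun h => hTL fun t ht => (hcov t ht).elim id fun h' =>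
    (mul_mem_cancel_left h).1 h'
  have hzo : orderOf z = 2 := (Subgroup.orderOf_coe _).trans E.orderOf_z
  have hyo : orderOf y = 2 := (Subgroup.orderOf_coe _).trans (E.orderOf_zy _)
  have hto : orderOf (dt T E j) = 2 := (Subgroup.orderOf_coe _).trans (E.orderOf_zy _)
  have hTz : ∀ t ∈ (T : Subgroup Q), t * z = z * t := fun t ht => (dz_commute T E ht).eq.symm
  have hord : ∀ (x : Q) (hx : x ∈ L), orderOf (e ⟨x, hx⟩) = orderOf x := fun x hx => by
    rw [MulEquiv.orderOf_eq, orderOf_mk]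
  have hone : ∀ u ∈ L, ∀ v ∈ L, orderOf u = 2 → orderOf v = 2 → ∃ l ∈ L, l * u * l⁻¹ = v := by
    intro u hu v hv ho ho'
    obtain ⟨g, hg⟩ := isConj_iff.1 (CfsgLib.Fusion.psl_two_involutions_conj hodd _ _
      ((hord u hu).trans ho) ((hord v hv).trans ho'))
    obtain ⟨l, rfl⟩ := e.surjective g
    rw [← map_inv, ← map_mul, ← map_mul] at hg
    exact ⟨l, l.2, congrArg Subtype.val (e.injective hg)⟩
  -- the centre
  obtain ⟨ε, hε, h4e, hcz⟩ : ∃ ε : ℤ, (ε = 1 ∨ ε = -1) ∧ (4 : ℤ) ∣ q - ε ∧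
      (Nat.card ↥(centralizer ({z} : Set Q) ⊓ L) : ℤ) = q - ε := by
    have hc : Nat.card ↥(centralizer ({z} : Set Q) ⊓ L) =
        Nat.card (centralizer ({e ⟨z, hzL⟩} : Set _)) := by
      refine Nat.card_congr ⟨fun x => ⟨e ⟨x, x.2.2⟩, ?_⟩, fun x => ⟨(e.symm x : L), ?_, (e.symm _).2⟩,
        fun x => by simp, fun x => by simp⟩
      · rw [mem_centralizer_singleton_iff, ← map_mul, ← map_mul]
        exact congrArg e (Subtype.ext (mem_centralizer_singleton_iff.1 x.2.1))
      · have h := mem_centralizer_singleton_iff.1 x.2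
        have h' := congrArg e.symm h
        rw [map_mul, map_mul, e.symm_apply_apply] at h'
        exact mem_centralizer_singleton_iff.2 (congrArg Subtype.val h')
    have h4d : 4 ∣ Nat.card ↥(centralizer ({z} : Set Q) ⊓ L) := by
      have hD := D.card_eq
      have h1 : Nat.card (P : Subgroup L) ∣ Nat.card ↥(centralizer ({z} : Set Q) ⊓ L) := by
        rw [← card_map_of_injective (L.subtype_injective) (K := (P : Subgroup L))]
        refine card_dvd_of_le ?_
        rintro _ ⟨p, hp, rfl⟩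
        exact ⟨mem_centralizer_singleton_iff.2 (hTz _ (hP.le hp)), p.2⟩
      exact (Dvd.intro _ rfl : 4 ∣ 4 * D.h).trans (hD ▸ h1)
    obtain ⟨k, hk⟩ := hodd
    rcases CfsgLib.Recog.SuborbitThree.card_centralizer_involution_psl ⟨k, hk⟩ h4
      ((hord z hzL).trans hzo) with h | h
    · refine ⟨1, Or.inl rfl, ?_, ?_⟩ <;> rw [hc] at * <;> omega
    · refine ⟨-1, Or.inr rfl, ?_, ?_⟩ <;> rw [hc] at * <;> omega
  -- the odd outer elements commute with the Sylow subgroup
  have hcentral : ∀ x : Q, Odd (orderOf x) → ∀ t ∈ (T : Subgroup Q), t * x * t⁻¹ * x⁻¹ ∈ L := by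
    intro x hx t _
    obtain ⟨p, hp⟩ := CharP.exists F
    obtain ⟨f, hpr, hf⟩ := FiniteField.card F p
    haveI := Fact.mk hpr
    obtain ⟨φ, -, -, hker⟩ := Cfsg.Agent.S2602.result (F := F) (p := p) (f := (f : ℕ)) f.pos hf
      (by rw [← hf]; exact h4)
    let act : Q →* MulAut (Matrix.ProjectiveSpecialLinearGroup (Fin 2) F) :=
      (MulAut.congr e).toMonoidHom.comp MulAut.conjNormal
    have hact : ∀ (g : Q) (l : L), act g (e l) = e (MulAut.conjNormal g l) := fun g l => by
      simp [act, MulAut.congr]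
    let o : Q →* Cfsg.Out (Matrix.ProjectiveSpecialLinearGroup (Fin 2) F) :=
      (QuotientGroup.mk' _).comp act
    have hinn : ∀ g, o g = 1 → g ∈ L := by
      intro g hg
      obtain ⟨w, hw⟩ := MonoidHom.mem_range.1 ((QuotientGroup.eq_one_iff _).1 hg)
      obtain ⟨m, rfl⟩ := e.surjective w
      have h1 : (m : Q)⁻¹ * g ∈ centralizer (L : Set Q) := mem_centralizer_iff.2 fun l hl => by
        have h2 := hact g ⟨l, hl⟩
        rw [← hw, MulAut.conj_apply, ← map_inv, ← map_mul, ← map_mul] at h2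
        have h3 := congrArg Subtype.val (e.injective h2)
        simp only [MulAut.conjNormal_apply, Subgroup.coe_mul, Subgroup.coe_inv] at h3
        calc l * ((m : Q)⁻¹ * g) = (m : Q)⁻¹ * ((m : Q) * l * (m : Q)⁻¹) * g := by group
          _ = (m : Q)⁻¹ * (g * l * g⁻¹) * g := by rw [h3]
          _ = _ := by group
      rw [hC, mem_bot, inv_mul_eq_one] at h1
      exact h1 ▸ m.2
    apply hinn
    have hk2 : Nat.card φ.ker ∣ 2 := hker ▸ Nat.gcd_dvd_left 2 _
    set c := o (t * x * t⁻¹ * x⁻¹) with hc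
    have hckey : c = o t * o x * (o t)⁻¹ * (o x)⁻¹ := by simp [hc, map_mul, map_inv]
    have hcm : c ∈ φ.ker := by
      rw [MonoidHom.mem_ker, hckey, map_mul, map_mul, map_mul, map_inv, map_inv,
        mul_right_comm (φ (o t)), mul_inv_cancel, one_mul, mul_inv_cancel]
    have hc2 : c ^ 2 = 1 := by
      rw [← orderOf_dvd_iff_pow_eq_one]
      exact (orderOf_dvd_natCard _ hcm).trans hk2
    have hcc : Commute c (o x) := by
      rcases (Nat.dvd_prime Nat.prime_two).1 hk2 with h | h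
      · rw [card_eq_one] at h
        rw [h, mem_bot] at hcm
        rw [hcm]; exact Commute.one_left _
      · obtain ⟨a, b, hab, hu⟩ := Nat.card_eq_two_iff.1 h
        have hmem : o x * c * (o x)⁻¹ ∈ φ.ker := φ.normal_ker.conj_mem c hcm _
        by_cases hc1 : c = 1
        · rw [hc1]; exact Commute.one_left _
        have hh : ∀ w : φ.ker, w = 1 ∨ w = ⟨c, hcm⟩ := fun w => by
          rcases eq_or_ne w 1 with h | h
          · exact Or.inl h
          refine Or.inr ?_
          have hw : w ∈ ({a, b} : Set φ.ker) := hu ▸ Set.mem_univ w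
          have h1 : (1 : φ.ker) ∈ ({a, b} : Set φ.ker) := hu ▸ Set.mem_univ 1
          have h2 : (⟨c, hcm⟩ : φ.ker) ∈ ({a, b} : Set φ.ker) := hu ▸ Set.mem_univ _
          have h3 : (⟨c, hcm⟩ : φ.ker) ≠ 1 := fun e => hc1 (congrArg Subtype.val e)
          simp only [Set.mem_insert_iff, Set.mem_singleton_iff] at hw h1 h2
          rcases hw with rfl | rfl <;> rcases h1 with h1 | h1 <;> rcases h2 with h2 | h2 <;>
            first | exact h2.symm | exact absurd (h2.trans h1.symm) h3 | exact absurd h1.symm h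
        rcases hh ⟨_, hmem⟩ with h | h
        · exact absurd (conj_eq_one_iff.1 (congrArg Subtype.val h)) hc1
        · exact (mul_inv_eq_iff_eq_mul.1 (congrArg Subtype.val h)).symm
    have hox : Odd (orderOf (o x)) := hx.of_dvd_nat (orderOf_map_dvd o x)
    have hconj : (c * o x) ^ orderOf (o x) = 1 := by
      rw [hckey, inv_mul_cancel_right, conj_pow, pow_orderOf_eq_one, mul_one, mul_inv_cancel]
    rw [hcc.mul_pow, pow_orderOf_eq_one, mul_one] at hconj
    obtain ⟨k, hk⟩ := hox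
    rwa [hk, pow_succ, pow_mul, hc2, one_pow, one_mul] at hconj
  -- the extension by the outer reflection
  set H : Subgroup Q := L ⊔ (T : Subgroup Q) with hHdef
  have hTH : (T : Subgroup Q) ≤ H := le_sup_right
  have hLH : L ≤ H := le_sup_left
  have hHmem : ∀ x ∈ H, x ∈ L ∨ y * x ∈ L := by
    intro x hx
    obtain ⟨l, hl, t, ht, rfl⟩ := mem_sup_of_normal_left.1 hx
    rcases hcov t ht with h | h
    · exact Or.inl (mul_mem hl h)
    · refine Or.inr ?_
      rw [← mul_assoc, show y * l * t = y * l * y⁻¹ * (y * t) by group]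
      exact mul_mem ((inferInstance : L.Normal).conj_mem l hl y) h
  have hyH : y ∈ H := hTH (SetLike.coe_mem _)
  set L' := L.subgroupOf H with hL'
  haveI : L'.Normal := Subgroup.Normal.subgroupOf inferInstance H
  let eL : L' ≃* Matrix.ProjectiveSpecialLinearGroup (Fin 2) F :=
    (subgroupOfEquivOfLe hLH).trans e
  have hC' : centralizer (L' : Set H) = ⊥ := eq_bot_iff.2 fun g hg => by
    have h : (g : Q) ∈ centralizer (L : Set Q) := mem_centralizer_iff.2 fun l hl =>
      congrArg Subtype.val (mem_centralizer_iff.1 hg ⟨l, hLH hl⟩ (mem_subgroupOf.2 hl))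
    rw [hC, mem_bot] at h
    exact mem_bot.2 (Subtype.ext h)
  have hdz' := dihSub_dz (D := E) hTH
  obtain ⟨φ, hφ⟩ : ∃ φ : H ≃* Matrix.ProjGenLinGroup (Fin 2) F, True := by
    have hgen : centralizer ({dz (T.subtype hTH) (dihSub E hTH)} : Set H) ≤
        closure ((((T.subtype hTH : Sylow 2 H) : Subgroup H) : Set H) ∪ {x | ∃ y, y * x * y⁻¹ = x⁻¹}) := by
      intro g hg
      have hgz : (g : Q) * z = z * g := by
        have h := congrArg Subtype.val (mem_centralizer_singleton_iff.1 hg)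
        rwa [Subgroup.coe_mul, Subgroup.coe_mul, hdz'] at h
      obtain ⟨t, htT, hl⟩ : ∃ t ∈ (T : Subgroup Q), (g : Q) * t ∈ L := by
        rcases hHmem _ g.2 with h | h
        · exact ⟨1, one_mem _, by rwa [mul_one]⟩
        · refine ⟨y, SetLike.coe_mem _, ?_⟩
          rw [show (g : Q) * y = y⁻¹ * (y * g) * y⁻¹⁻¹ by group]
          exact (inferInstance : L.Normal).conj_mem _ h _
      have hlz : (g : Q) * t * z = z * ((g : Q) * t) := by
        rw [mul_assoc, hTz t htT, ← mul_assoc, hgz, mul_assoc]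
      obtain ⟨s, hs⟩ := TwoClassPSL.psl_real hodd h4 (a := e ⟨z, hzL⟩) (x := e ⟨_, hl⟩)
        ((hord z hzL).trans hzo) (by rw [← map_mul, ← map_mul]; exact congrArg e (Subtype.ext hlz))
      obtain ⟨s', rfl⟩ := e.surjective s
      rw [← map_inv, ← map_inv, ← map_mul, ← map_mul] at hs
      have hs' := congrArg Subtype.val (e.injective hs)
      have hg' : g = ⟨(g : Q) * t, hLH hl⟩ * (⟨t, hTH htT⟩ : H)⁻¹ :=
        Subtype.ext (by simp)
      rw [hg']
      refine mul_mem (subset_closure (Or.inr ⟨⟨s', hLH s'.2⟩, Subtype.ext hs'⟩))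
        (inv_mem (subset_closure (Or.inl (mem_subgroupOf.2 htT))))
    rcases psl_or_pgl hodd h4 (T.subtype hTH) (dihSub E hTH) L' eL hC'
      (dz (T.subtype hTH) (dihSub E hTH)) (mem_subgroupOf.2 (hdz'.symm ▸ hzL))
      (by rw [← Subgroup.orderOf_coe, hdz']; exact hzo) hgen with ⟨⟨g⟩⟩ | ⟨⟨g⟩⟩
    · exfalso
      have h1 : Nat.card H = Nat.card L :=
        (Nat.card_congr g.toEquiv).trans (Nat.card_congr e.toEquiv).symm
      rw [← eq_of_le_of_card_ge hLH h1.le] at hyH
      exact hyL hyH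
    · exact ⟨g, trivial⟩
  set Y := φ ⟨y, hyH⟩ with hY
  have hYo : orderOf Y = 2 := by rw [hY, MulEquiv.orderOf_eq, orderOf_mk, hyo]
  obtain ⟨hYc, -, hYfree⟩ := TwoClassPSL.pgl_invol hodd h4 hYo
  have hHy : Nat.card ↥(centralizer ({y} : Set Q) ⊓ H) =
      2 * Nat.card ↥(centralizer ({y} : Set Q) ⊓ L) := by
    set C := centralizer ({y} : Set Q) ⊓ H
    have h1 := (L.subgroupOf C).card_mul_index
    have h2 : (L.subgroupOf C).index = 2 := by
      rw [index_eq_two_iff]
      refine ⟨⟨y, mem_centralizer_singleton_iff.2 rfl, hyH⟩, fun b => ?_⟩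
      by_cases hb : (b : Q) ∈ L
      · exact Or.inr ⟨mem_subgroupOf.2 hb, fun h => hyL ((mul_mem_cancel_left hb).1 h)⟩
      · refine Or.inl ⟨mem_subgroupOf.2 ?_, hb⟩
        show (b : Q) * y ∈ L
        rw [show (b : Q) * y = y * b from mem_centralizer_singleton_iff.1 b.2.1]
        exact (hHmem _ b.2.2).resolve_left hb
    have h3 : L.subgroupOf C = (C ⊓ L).subgroupOf C := by rw [inf_subgroupOf_left]
    rw [h2, h3, Nat.card_congr (subgroupOfEquivOfLe inf_le_left).toEquiv] at h1
    rw [← h1, mul_comm]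
    congr 1
    refine congrArg (fun S : Subgroup Q => Nat.card S) ?_
    show centralizer ({y} : Set Q) ⊓ H ⊓ L = centralizer ({y} : Set Q) ⊓ L
    rw [inf_assoc, inf_eq_right.2 hLH]
  have hYcard : Nat.card (centralizer ({Y} : Set _)) = Nat.card ↥(centralizer ({y} : Set Q) ⊓ H) := by
    have hmap : (centralizer ({y} : Set Q) ⊓ H).subgroupOf H =
        (centralizer ({Y} : Set _)).comap φ.toMonoidHom := by
      ext x
      rw [mem_subgroupOf, mem_inf, mem_comap, mem_centralizer_singleton_iff,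
        mem_centralizer_singleton_iff, MulEquiv.coe_toMonoidHom, hY, ← map_mul, ← map_mul,
        φ.injective.eq_iff, Subtype.ext_iff]
      simp
    rw [← Nat.card_congr (subgroupOfEquivOfLe (inf_le_right : centralizer ({y} : Set Q) ⊓ H ≤ H)).toEquiv,
      hmap]
    exact (Nat.card_congr (φ.toEquiv.subtypeEquiv fun _ => Iff.rfl)).symm
  have hnotz : ¬ Nat.card (T : Subgroup Q) ∣ Nat.card ↥(centralizer ({y} : Set Q) ⊓ H) := fun h => by
    obtain ⟨g, hg⟩ := conj_dz_of_card_dvd T E hh hyo (h.trans (card_dvd_of_le inf_le_left))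
    apply hyL
    rw [show y = g⁻¹ * z * g⁻¹⁻¹ by rw [hzdef, ← hg]; group]
    exact (inferInstance : L.Normal).conj_mem z hzL g⁻¹
  have hcy : (Nat.card ↥(centralizer ({y} : Set Q) ⊓ L) : ℤ) = q + ε := by
    have hcardH : Nat.card H = q * (q * q - 1) := by
      rw [Nat.card_congr φ.toEquiv, CfsgLib.Recog.GenDihedral.card_pgl_eq_two_mul hodd,
        ← Nat.card_congr e.toEquiv, hcardL]
    have hTd : Nat.card (T : Subgroup Q) ∣ q * (q * q - 1) := hcardH ▸ card_dvd_of_le hTH
    obtain ⟨nT, hnT⟩ := T.2.exists_card_eq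
    by_contra hne
    apply hnotz
    rw [hHy]
    have hbad : (Nat.card ↥(centralizer ({y} : Set Q) ⊓ L) : ℤ) = q - ε := by
      rw [hYcard, hHy] at hYc
      rcases hε with rfl | rfl <;> rcases hYc with h | h <;> omega
    obtain ⟨a, ha⟩ := h4e
    obtain ⟨k, hk⟩ := hodd
    have hprod : ((q * (q * q - 1) : ℕ) : ℤ) = (2 * (Nat.card ↥(centralizer ({y} : Set Q) ⊓ L) : ℤ)) *
        ((q : ℤ) * (2 * a + ε)) := by
      have h1 : 1 ≤ q * q := Nat.one_le_iff_ne_zero.2 (by positivity)
      rw [Nat.cast_mul, Nat.cast_sub h1, hbad]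
      rcases hε with rfl | rfl <;> push_cast
      · linear_combination (q : ℤ) * ((q : ℤ) - 1) * ha
      · linear_combination (q : ℤ) * ((q : ℤ) + 1) * ha
    have hcop : Nat.Coprime (Nat.card (T : Subgroup Q)) (((q : ℤ) * (2 * a + ε))).natAbs := by
      rw [hnT]
      refine (Nat.Coprime.pow_left _ ((Nat.prime_two.coprime_iff_not_dvd).2 ?_))
      rw [← Int.natCast_dvd, Nat.cast_ofNat, ← even_iff_two_dvd, Int.not_even_iff_odd]
      refine Odd.mul (by exact_mod_cast (⟨k, hk⟩ : Odd q)) ?_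
      rcases hε with rfl | rfl
      · exact ⟨a, by ring⟩
      · exact ⟨a - 1, by ring⟩
    refine hcop.dvd_of_dvd_mul_right ?_
    have h := Int.natCast_dvd.1 (show ((Nat.card (T : Subgroup Q) : ℕ) : ℤ) ∣
      (2 * (Nat.card ↥(centralizer ({y} : Set Q) ⊓ L) : ℤ)) * ((q : ℤ) * (2 * a + ε)) by
        rw [← hprod]; exact_mod_cast hTd)
    rw [Int.natAbs_mul] at h
    exact_mod_cast h
  refine ⟨q, ε, j, ⟨inferInstance, hodd, by omega, hε, hcardL, h4e, hzL, htL, hyL, hcov, hone,
    hcentral, hcz, hcy, ?_, fun h => absurd h (by omega)⟩⟩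
  rintro s (rfl | rfl) x hx hxz hxs hxo
  · have h := TwoClassPSL.psl_free hodd h4 (a := e ⟨z, hzL⟩) (b := e ⟨_, htL⟩) (x := e ⟨x, hx⟩)
      ((hord z hzL).trans hzo) ((hord _ htL).trans hto)
      (fun h => by
        have h' : (⟨dt T E j, htL⟩ : L) = ⟨dz T E, hzL⟩ := e.injective h
        exact dt_ne_dz (D := E) j (Subtype.mk.injEq _ _ _ _ ▸ h'))
      (by rw [← map_mul, ← map_mul]
          exact congrArg e (Subtype.ext (hTz (dt T E j) (CfsgLib.Recog.GenDih.dt_mem j))))
      (by rw [← map_mul, ← map_mul]; exact congrArg e (Subtype.ext hxz))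
      (by rw [← map_mul, ← map_mul]; exact congrArg e (Subtype.ext hxs))
      (by rw [hord]; exact hxo)
    exact congrArg Subtype.val (e.map_eq_one_iff.1 h)
  · have h := hYfree (φ ⟨z, hLH hzL⟩) (φ ⟨x, hLH hx⟩)
      (by rw [MulEquiv.orderOf_eq, orderOf_mk, hzo])
      (fun h => hyL (by
        rw [show y = z from (congrArg Subtype.val (φ.injective h)).symm]; exact hzL))
      (by rw [hY, ← map_mul, ← map_mul]
          exact congrArg φ (Subtype.ext (hTz y (CfsgLib.Recog.GenDih.dt_mem (j + 1))).symm))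
      (by rw [hY, ← map_mul, ← map_mul]; exact congrArg φ (Subtype.ext hxs))
      (by rw [← map_mul, ← map_mul]; exact congrArg φ (Subtype.ext hxz))
      (by rw [MulEquiv.orderOf_eq, orderOf_mk]; exact hxo)
    exact congrArg Subtype.val (φ.map_eq_one_iff.1 h)

/-- **The one-class normal subgroup.** -/
theorem exists_data (hGW : CfsgLib.Recog.GW.SimpleGW.{u} (Nat.card Q)) (hO : Cfsg.oddCore Q = ⊥)
    (hnp : ¬ IsPGroup 2 Q)
    (htwo : ¬ ∀ x y : Q, orderOf x = 2 → orderOf y = 2 → IsConj x y) :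
    2 ≤ E.h ∧ ∃ (L : Subgroup Q) (q : ℕ) (ε j : ℤ), Data T E L q ε j := by
  haveI : Fact (Nat.Prime 2) := ⟨Nat.prime_two⟩
  rcases CfsgLib.Recog.GW.shape_of_oddCore_eq_bot hGW hO T E with h | ⟨⟨e⟩⟩ | ⟨⟨e⟩⟩ |
    ⟨L, hLn, hLs, hC, hM, -⟩
  · exact absurd h hnp
  · exfalso
    apply htwo
    intro x y hx hy
    have hsq : ∀ u : Q, orderOf u = 2 → (e u : Equiv.Perm (Fin 4)) * e u = 1 ∧
        (e u : Equiv.Perm (Fin 4)) ≠ 1 := fun u hu =>
      ⟨by rw [← Subgroup.coe_mul, ← map_mul, invol_mul_self hu, map_one, OneMemClass.coe_one],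
        fun h => invol_ne_one hu (e.map_eq_one_iff.1 (Subtype.ext h))⟩
    obtain ⟨l, hl, he⟩ := four_one _ _ (Equiv.Perm.mem_alternatingGroup.1 (e x).2) (hsq x hx).1
      (hsq x hx).2 (Equiv.Perm.mem_alternatingGroup.1 (e y).2) (hsq y hy).1 (hsq y hy).2
    refine isConj_iff.2 ⟨e.symm ⟨l, Equiv.Perm.mem_alternatingGroup.2 hl⟩, e.injective (Subtype.ext ?_)⟩
    rw [map_mul, map_mul, map_inv, e.apply_symm_apply]
    exact he
  · have hQc : Nat.card Q = 24 := by
      rw [Nat.card_congr e.toEquiv, Nat.card_perm, Nat.card_fin]; rfl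
    have hh : 2 ≤ E.h := by
      by_contra hlt
      have h1 : Nat.card (T : Subgroup Q) = 4 := by
        rw [E.card_eq]; have := E.h_pos; omega
      have h2 := (T : Subgroup Q).card_mul_index
      rw [h1, hQc] at h2
      exact T.not_dvd_index ⟨3, by omega⟩
    exact ⟨hh, data_of_permFour T E hh e⟩
  · haveI := hLn
    have hTL : ¬ (T : Subgroup Q) ≤ L := by
      intro hle
      apply htwo
      have hin : ∀ x : Q, orderOf x = 2 → x ∈ L := fun x hx => by
        obtain ⟨S, hS⟩ := (IsPGroup.of_card (n := 1) (show Nat.card (zpowers x) = 2 ^ 1 by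
          rw [Nat.card_zpowers, hx, pow_one]) : IsPGroup 2 (zpowers x)).exists_le_sylow
        obtain ⟨g, rfl⟩ := MulAction.exists_smul_eq Q T S
        obtain ⟨t, ht, rfl⟩ := hS (mem_zpowers x)
        exact hLn.conj_mem t (hle ht) g
      obtain ⟨P, hP⟩ := CfsgLib.Transfer.exists_sylow_eq_subgroupOf T L
      have hLna : ¬ IsMulCommutative L := fun hc => by
        have hle' : L ≤ centralizer (L : Set Q) := fun a ha => mem_centralizer_iff.2 fun b hb =>
          congrArg Subtype.val (hc.is_comm.comm ⟨b, hb⟩ ⟨a, ha⟩)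
        rw [hC] at hle'
        exact E.h_pos.ne' (by
          have h1 : (T : Subgroup Q) ≤ ⊥ := hle.trans hle'
          have h2 := E.card_eq
          have h3 : Nat.card (T : Subgroup Q) ≤ 1 := by
            rw [← card_bot (G := Q)]; exact card_le_of_le h1
          omega)
      let D' : DihData (P : Subgroup L) :=
        dihMap ((MulEquiv.subgroupCongr hP).trans (subgroupOfEquivOfLe hle)).symm E
      intro x y hx hy
      exact L.subtype.map_isConj (one_class_of_no_index_two P D'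
        (CfsgLib.Invol.index_ne_two_of_simple hLna) ⟨x, hin x hx⟩ ⟨y, hin y hy⟩
        (by rw [orderOf_mk, hx]) (by rw [orderOf_mk, hy]))
    rcases hM with ⟨F, i, i', ho, h3, ⟨e⟩⟩ | ⟨⟨e⟩⟩
    · have hns : ¬ Group.IsSolvable L := by
        intro hs
        haveI := CfsgLib.ClassK.isSimpleGroup_psl_two (F := F) (show 4 ≤ Fintype.card F by omega)
        have h1 := IsSimpleGroup.comm_iff_isSolvable.2
          (Group.isSolvable_of_surjective (f := e.toMonoidHom) e.surjective)
        obtain ⟨a, b, ha, hb, -, hne, -⟩ := CfsgLib.Recog.GenDihedral.exists_four (F := F)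
          (CfsgLib.Recog.GenDihedral.two_ne_zero_of_odd ho)
        have hN : (zpowers a).Normal := ⟨fun n hn g => by rwa [h1 g n, mul_inv_cancel_right]⟩
        rcases hN.eq_bot_or_eq_top with hb' | ht
        · exact invol_ne_one ha (zpowers_eq_bot.1 hb')
        · exact hne (CfsgLib.BlockA.DihedralBlock.invol_zpowers_unique (mem_zpowers a) (ht ▸ mem_top b) ha hb)
      have hh : 2 ≤ E.h := by
        by_contra hlt
        obtain ⟨P, D, -, hP, -, -, -, -⟩ := exists_subData T E L hns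
        apply hTL
        have h1 : Nat.card ((P : Subgroup L).map L.subtype) = 4 * D.h := by
          rw [card_map_of_injective L.subtype_injective, D.card_eq]
        have h2 : (P : Subgroup L).map L.subtype ≤ (T : Subgroup Q) := by
          rintro _ ⟨p, hp, rfl⟩
          exact hP.le hp
        rw [← eq_of_le_of_card_ge h2 (by
          rw [h1, E.card_eq]; have := E.h_pos; have := D.h_pos; omega)]
        exact map_subtype_le _
      exact ⟨hh, L, data_of_psl T E hh L hLs hC hTL ho h3 e⟩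
    · exfalso
      obtain ⟨f⟩ := CfsgLib.Recog.GW.PElem.equiv_alt_seven T E L hC e
      refine hTL fun t _ => ?_
      have : L = ⊤ := Subgroup.eq_top_of_card_eq _
        ((Nat.card_congr e.toEquiv).trans (Nat.card_congr f.toEquiv).symm)
      rw [this]; exact mem_top t

end CfsgLib.GW.TwoClass
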